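import Cfsg.Agent.H196.SN.Cop_m3
import Cfsg.Agent.KFacts.SLRow.OmegaPlus_m3
import Cfsg.Agent.ClassicalGeometry.WittQuad
import Cfsg.Agent.H198.TriAut
import Cfsg.Agent.Nodes.SimplyLaced
import Cfsg.Agent.H122.SNX.Final_mg_m3
import Cfsg.Agent.H198.TwComp
import Cfsg.Agent.LieClassical.OrthFinite
import Cfsg.Agent.H198.TriCls
import Cfsg.Agent.H39.Tri3
import Cfsg.Agent.H122.SNX.Supp
import Cfsg.Agent.H790.SNX.Comp_mg_m3
import Cfsg.Agent.H216.Rad3.SpSix_m3
import Mathlib
import Cfsg.Agent.UGT.Blk.SysOf_m3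
import Cfsg.Agent.H858.SN.SLTwo
import Cfsg.Agent.H500.SN.UFour
import Cfsg.Agent.CpAutU.Fixed
import Cfsg.Agent.ClassicalGeometry.PSUAutMain
import Cfsg.Agent.SignalizersComponents.QuasisimpleQuotient
import Cfsg.Agent.TwoFusion.SLTwoFacts
import Cfsg.Agent.H487.SN.Psu_m3
import Cfsg.Agent.H939.RgdV
import Cfsg.Agent.Cit.FrameF2
import Cfsg.Agent.KFacts.RgdCharP
import Cfsg.Agent.AschCrit.CommFour.Orbits_m3
import Cfsg.Agent.H225.PPow.ChevF
import Cfsg.Agent.KFacts.TwESix.Tor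
import Cfsg.Agent.KFacts.RgdFiltClass
import Cfsg.Agent.H478.RadTools_m3
import Cfsg.Agent.H928.Van.Tor
import Cfsg.Agent.H135.TD.AutTwo
import Cfsg.Agent.H812.D4.Fin
import Cfsg.Agent.H129.RealE7_m3
import Cfsg.Agent.S1067
import Cfsg.Agent.H311.HexCard
import Cfsg.Agent.H967.CopMat
import Cfsg.Agent.FastGrp
import Cfsg.Agent.Prune
set_option linter.all false

section
prune_inst 0x7ffcbcfbabf8bddedfff7e7faedcddfc39911fffa4dff94b3fe021ef0bdf030809c523ad8de010fe0ec2421410a87843fbffeeffe26bdc7ffffd5df45ffbee0ff5f7bd00519488340fbc0ff603f0778e7f3fffffffffffffffffffffffffffaeffbfffffffff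

-- part: H234/SN/PlusFour
section
prune_inst 0x14300100040000000000001020201c428200042000080c000ce1020006804c420d800020000000015200000500310000010000100200000000200000011c008000001204b048a000020096000000000000000000000000000000000000000000000000000
set_option linter.all false
open scoped Cfsg.Agent.FastGrp

-- part: H234/SN/TriNine
section
/-!
# `PΩ₈⁺(3)`: automorphisms of order nine (helper234, S3831 E5)

* `LRW u` : the fields `cube`, `ne`, `pair`, `two`, `odd` of `LRG`;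
* `LRW.not_nine` : `conj u` has no cube root with `PS 2`;
* `lrw_plus` : Siegel elements of `PΩ₈⁺(3)`;
* `nine_plus_four` : no automorphism of order nine of `PΩ₈⁺(3)` has `PS 2`.
-/

set_option autoImplicit false
set_option linter.unusedSectionVars false

namespace Cfsg.Agent.H234.SN

open Subgroup
open Cfsg.Agent.H459.Rad
open Cfsg.Agent.H880.Six (Br conj_injective aut_conj no_inv LRG)
open Cfsg.Agent.H880.Six.Struct
open scoped commutatorElement

section Abs

variable {K : Type*} [Group K]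

/-- long root elements over the field of three elements, without the radical -/
structure LRW (u : K) : Prop where
  cube : u ^ 3 = 1
  ne : u ≠ 1
  pair : ∀ g : K, IsPGroup 3 ↥(_root_.Subgroup.closure ({u, g * u * g⁻¹} : Set K)) ∨ Br u (g * u * g⁻¹) ∨ Br u (g * u⁻¹ * g⁻¹)
  two : ∀ g g' : K, Br u (g * u * g⁻¹) → Br u (g' * u * g'⁻¹) →
    ∃ k : ℕ, ((u * (g * u * g⁻¹)) ^ 3 * (u * (g' * u * g'⁻¹)) ^ 3) ^ 3 ^ k = 1
  odd : Odd (Nat.card {b : K // (∃ g : K, b = g * u * g⁻¹) ∧ Br u b})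

theorem LRW.st {Z H : Type*} [Group Z] [Group H] {u : K} (L : LRW u) (c : K →* Z)
    (hc : Function.Injective c) (ι : H →* Z) (hι : Function.Injective ι) {y : H} (hy : ι y = c u)
    (hcj : ∀ h : H, ∃ k : K, ι (h * y * h⁻¹) = c (k * u * k⁻¹)) :
    St y (fun h => ∃ k : K, ι (h * y * h⁻¹) = c (k * u * k⁻¹) ∧ Br u (k * u * k⁻¹)) where
  cube := hι (by rw [map_pow, hy, ← map_pow, L.cube, map_one, map_one])
  pair h := by
    obtain ⟨k, hk⟩ := hcj h
    rcases L.pair k with h1 | h1 | h1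
    · left
      have h2 : (_root_.Subgroup.closure {y, h * y * h⁻¹} : Subgroup H).map ι = (_root_.Subgroup.closure {u, k * u * k⁻¹} : Subgroup K).map c := by
        rw [MonoidHom.map_closure, MonoidHom.map_closure, Set.image_pair, Set.image_pair, hy, hk]
      have h3 : IsPGroup 3 ↥((closure {y, h * y * h⁻¹} : Subgroup H).map ι) := by
        rw [h2]; exact h1.map c
      exact h3.of_equiv ((closure {y, h * y * h⁻¹} : Subgroup H).equivMapOfInjective ι hι).symm
    · exact Or.inr (Or.inl ⟨k, hk, h1⟩)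
    · right; right
      have e : ι (zi y h) = c ((u * (k * u⁻¹ * k⁻¹)) ^ 3) := by
        have e1 : h * y⁻¹ * h⁻¹ = (h * y * h⁻¹)⁻¹ := by group
        have e2 : k * u⁻¹ * k⁻¹ = (k * u * k⁻¹)⁻¹ := by group
        unfold zi
        rw [map_pow, map_mul, e1, map_inv, hk, hy, e2]
        simp only [map_pow, map_mul, map_inv]
      obtain ⟨h2, h3, h4⟩ := h1
      refine ⟨hι ?_, fun h5 => h3 (hc ?_), hι ?_⟩
      · rw [map_mul, e, ← map_mul, h2, map_one, map_one]
      · rw [← e, h5, map_one, map_one]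
      · rw [map_mul, map_mul, e, hy, ← map_mul, ← map_mul, h4]
  inv h := by
    rintro ⟨k, hk, h2, h3, h4⟩
    have e : ι (zz y h) = c ((u * (k * u * k⁻¹)) ^ 3) := by
      unfold zz
      rw [map_pow, map_mul, hk, hy]
      simp only [map_pow, map_mul, map_inv]
    refine ⟨hι ?_, fun h5 => h3 (hc ?_), hι ?_⟩
    · rw [map_mul, e, ← map_mul, h2, map_one, map_one]
    · rw [← e, h5, map_one, map_one]
    · rw [map_mul, map_mul, e, hy, ← map_mul, ← map_mul, h4]
  two h h' := by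
    rintro ⟨k, hk, h1⟩ ⟨k', hk', h1'⟩
    have e : ∀ h k, ι (h * y * h⁻¹) = c (k * u * k⁻¹) → ι (zz y h) = c ((u * (k * u * k⁻¹)) ^ 3) := by
      intro h k hk
      unfold zz
      rw [map_pow, map_mul, hk, hy]
      simp only [map_pow, map_mul, map_inv]
    obtain ⟨m, hm⟩ := L.two k k' h1 h1'
    exact ⟨m, hι (by rw [map_pow, map_mul, e h k hk, e h' k' hk', ← map_mul, ← map_pow, hm, map_one, map_one])⟩

/-- **order nine** -/
theorem LRW.not_nine [Finite K] (hZ : center K = ⊥) {u : K} (L : LRW u) {x : MulAut K}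
    (hx : x ^ 3 = MulAut.conj u) (hP : PS 2 x) : False := by
  obtain ⟨⟨b, ⟨g, rfl⟩, hb⟩⟩ : Nonempty {b : K // (∃ g : K, b = g * u * g⁻¹) ∧ Br u b} := by
    have h1 := L.odd.pos
    exact (Nat.card_pos_iff.1 h1).1
  have hinj := _root_.Cfsg.Agent.H880.Six.conj_injective hZ
  have hxu : x u = u := by
    apply hinj
    rw [← aut_conj, ← hx]
    group
  have hs := hP ![1, g]
  set H : Subgroup (MulAut K) := _root_.Subgroup.closure (Set.range fun i => MulAut.conj ((![1, g] : Fin 2 → K) i) * x *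
    (MulAut.conj ((![1, g] : Fin 2 → K) i))⁻¹) with hH
  have hxH : x ∈ H := subset_closure ⟨0, by simp⟩
  have hx'H : MulAut.conj g * x * (MulAut.conj g)⁻¹ ∈ H := subset_closure ⟨1, by simp only [_root_.Fin.isValue, _root_.Matrix.cons_val_one, _root_.Matrix.cons_val_fin_one]⟩
  -- the stabiliser of the class of `u`
  let T : Subgroup (MulAut K) :=
    { carrier := {h | ∃ k, h u = k * u * k⁻¹}
      mul_mem' := by
        rintro a c ⟨k, hk⟩ ⟨k', hk'⟩
        refine ⟨a k' * k, ?_⟩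
        rw [MulAut.mul_apply, hk', map_mul, map_mul, map_inv, hk]
        group
      one_mem' := ⟨1, by simp⟩
      inv_mem' := by
        rintro a ⟨k, hk⟩
        refine ⟨(a⁻¹ k)⁻¹, ?_⟩
        have h1 : a⁻¹ k * a⁻¹ u * (a⁻¹ k)⁻¹ = u := by
          rw [← map_mul, ← map_inv, ← map_mul, ← hk, MulAut.inv_apply_self]
        calc a⁻¹ u = (a⁻¹ k)⁻¹ * (a⁻¹ k * a⁻¹ u * (a⁻¹ k)⁻¹) * (a⁻¹ k)⁻¹⁻¹ := by group
          _ = _ := by rw [h1] }
  have hT : ∀ h ∈ H, ∃ k, h u = k * u * k⁻¹ := by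
    have h1 : H ≤ T := by
      rw [hH, closure_le]
      rintro _ ⟨i, rfl⟩
      have h2 : ∀ k : K, MulAut.conj k ∈ T := fun k => ⟨k, rfl⟩
      exact mul_mem (mul_mem (h2 _) ⟨1, by rw [hxu]; group⟩) (inv_mem (h2 _))
    exact h1
  have hyH : MulAut.conj u ∈ H := by rw [← hx]; exact pow_mem hxH 3
  have S := L.st MulAut.conj hinj H.subtype H.subtype_injective (y := ⟨MulAut.conj u, hyH⟩) rfl (by
    intro h
    obtain ⟨k, hk⟩ := hT h h.2
    refine ⟨k, ?_⟩
    change (h : MulAut K) * MulAut.conj u * (h : MulAut K)⁻¹ = _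
    rw [aut_conj, hk])
  have h0 : (⟨x, hxH⟩ : H) ^ 3 = ⟨MulAut.conj u, hyH⟩ := Subtype.ext ((H.coe_pow _ 3).trans hx)
  have h1 := H880.Six.Nine.nine (H := H) (x := (⟨x, hxH⟩ : H)) (hs :) (h0 :) S
  have e : (MulAut.conj g * x * (MulAut.conj g)⁻¹) ^ 3 = MulAut.conj (g * u * g⁻¹) := by
    rw [conj_pow, hx, map_mul, map_mul, map_inv]
  have hbH : MulAut.conj (g * u * g⁻¹) ∈ H := by rw [← e]; exact pow_mem hx'H 3
  have e2 : ((⟨MulAut.conj u, hyH⟩ * ⟨MulAut.conj (g * u * g⁻¹), hbH⟩ : H)) ^ 3 =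
      ⟨MulAut.conj ((u * (g * u * g⁻¹)) ^ 3), by
        rw [map_pow, map_mul]; exact pow_mem (mul_mem hyH hbH) 3⟩ := by
    apply Subtype.ext
    push_cast
    simp only [map_pow, map_mul]
  have h2 := no_inv h1 (b := ⟨MulAut.conj (g * u * g⁻¹), hbH⟩) (by
    apply Subtype.ext
    push_cast
    rw [← map_pow, conj_pow, L.cube]
    simp) (by
    rw [e2]
    apply Subtype.ext
    push_cast
    rw [← map_mul, hb.1, map_one])
  rw [e2] at h2
  have h3 := congrArg Subtype.val h2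
  apply hb.2.1
  apply hinj
  rw [map_one]
  exact h3

theorem tr_conj' (e : MulAut K) (k : K) : e * MulAut.conj k * e⁻¹ = MulAut.conj (e k) := by
  ext l
  simp only [MulAut.mul_apply, MulAut.conj_apply, map_mul, map_inv, MulAut.apply_inv_self]

/-- up to automorphisms -/
theorem LRW.not_nine' [Finite K] (hZ : center K = ⊥) {u v : K} (L : LRW u) {e : MulAut K} (he : e v = u)
    {x : MulAut K} (hx : x ^ 3 = MulAut.conj v) (hP : PS 2 x) : False := by
  have h1 : tr e x = e * x * e⁻¹ := rfl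
  refine L.not_nine hZ (x := e * x * e⁻¹) ?_ ?_
  · rw [conj_pow, hx, tr_conj', he]
  · rw [← h1]
    exact hP.tr e

end Abs

/-! ### Root groups -/

section Root

open CoxeterSystem Cfsg.Agent.ChevalleyStructure.CoxeterGeom Cfsg.Agent.Tits.Roots Cfsg.Agent.Tits.Core
  Cfsg.Agent.Tits.RootComb Cfsg.Agent.Nodes.Reps Cfsg.Agent.Nodes.BNOf Cfsg.Agent.Nodes.Comb
  Cfsg.Agent.Nodes.Bruhat

variable {I W : Type*} [Fintype I] [DecidableEq I] [Group W] {Y : Type*} [Group Y] {M : CoxeterMatrix I}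
  {cs : CoxeterSystem M W} {A : I → I → ℤ} {h : IsCartan M A} {T : Subgroup Y} {n : I → Y}
  {X : (I → ℤ) → Subgroup Y}

/-- the root elements of a simply laced group over `F₃` are conjugate to elements with `LRW` -/
theorem exists_lrw [Finite W] [Finite Y] (R : RGD cs h 3 T n X) (hs : Cfsg.Agent.KFacts.RgdSL.SL cs h)
    (hG : RGD.Sup X {x | IsRoot cs h x} = ⊤) (hc : ∀ x, IsRoot cs h x → Nat.card (X x) = 3)
    (hM : ∀ i, ∃ j, M i j = 3) {x : I → ℤ} (hx : IsRoot cs h x) {u : Y} (hu : u ∈ X x) (hu1 : u ≠ 1) :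
    ∃ k : Y, LRW (k * u * k⁻¹) := by
  obtain ⟨w, i, rfl⟩ := hx
  obtain ⟨w', hd⟩ := exists_dom_rep cs h (sr i)
  obtain ⟨k, hk⟩ := exists_rp cs R.nsys (w' * w⁻¹)
  have e : rep cs h (w' * w⁻¹) (rep cs h w (sr i)) = rep cs h w' (sr i) := by
    rw [← rep_mul_apply, inv_mul_cancel_right]
  have hku : k * u * k⁻¹ ∈ X (rep cs h w' (sr i)) := by
    rw [← e, ← R.conj_rp hk ⟨w, i, rfl⟩]
    exact conj_mem_cj.2 hu
  have hku1 : k * u * k⁻¹ ≠ 1 := by
    intro h1
    apply hu1
    calc u = k⁻¹ * (k * u * k⁻¹) * k := by group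
      _ = 1 := by rw [h1]; group
  obtain ⟨j, hj⟩ := hM i
  have hr : IsRoot cs h (rep cs h w' (sr i)) := ⟨w', i, rfl⟩
  have L := H142.SNX.long_of_SL R hs hr hd
  have hG' : GG cs h T X = ⊤ := by
    rw [eq_top_iff, ← hG]
    exact RGD.Sup_le fun y hy => X_le_GG hy
  have hci := hc _ (isRoot_sr cs h i)
  obtain ⟨h1, h2, h3⟩ := H142.SNX.lrg_a L hG' hj rfl hci hku hku1
  have f := H142.SNX.fact3 R hj rfl hci hku hku1
  exact ⟨k, f.cube, f.ne, h1, h2, h3⟩

end Root

/-! ### The plus form in dimension eight -/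

section Plus

open QuadraticMap Module
open CoxeterSystem Cfsg.Agent.ChevalleyStructure.CoxeterGeom Cfsg.Agent.Tits.Roots Cfsg.Agent.Tits.Core
  Cfsg.Agent.Nodes.Reps Cfsg.Agent.Nodes.BNOf Cfsg.Agent.Nodes.RGDLib
open Cfsg.Agent.Nodes.TypeC (wt ng ng_ng ng_fst wt_ng)
open Cfsg.Agent.Nodes.TypeD
open Cfsg.Agent.Nodes.WittRoot
open Cfsg.Agent.Nodes.WittRGD (Tor)
open Cfsg.Agent.Nodes.WittInst
open Cfsg.Agent.TitsThree Cfsg.Agent.TitsThree.Siegel Cfsg.Agent.TitsThree.SiegelGen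
  Cfsg.Agent.TitsThree.WittFrame Cfsg.Agent.TitsThree.WBridge Cfsg.Agent.TitsThree.WittWeyl
  Cfsg.Agent.TitsThree.FrameCN
open Cfsg.Agent.Nodes.WittAll
open Cfsg.Agent.LieClassical Cfsg.Agent.LieClassical.OrthCore Cfsg.Agent.LieClassical.OrthTrans
open Cfsg.Agent.LieClassical.OrthSimple Cfsg.Agent.LieClassical.OrthFinite
open Cfsg.Agent.LieClassical.OrthForms
open Cfsg.Agent.TitsThree.KSideO Cfsg.Agent.TitsThree.StdData
open Cfsg.Agent.KFacts.SLRow.OmegaPlus (X_eq_smul)
open Cfsg.Agent.ClassicalGeometry.OrthAut1 Cfsg.Agent.ClassicalGeometry.OrthSemi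
open Cfsg.Agent.H198.TriAut (P8)

variable {ι : Type} [Fintype ι] [DecidableEq ι] {F : Type*} [Field F] {Q : QuadraticForm F (ι → F)} {n : ℕ}
  (W : WFrame (Cfsg.Agent.TitsThree.KSideO.PO Q) (n + 2))

/-- the quotient map -/
abbrev qm (Q : QuadraticForm F (ι → F)) : ↥(E Q) →* ↥(E Q) ⧸ Subgroup.center ↥(E Q) :=
  QuotientGroup.mk' (Subgroup.center ↥(E Q))

/-- the image of a root element -/
noncomputable def xo (Q : QuadraticForm F (ι → F)) (W : WFrame (Cfsg.Agent.TitsThree.KSideO.PO Q) (n + 2)) (a b : Fin (n + 2) × Bool) (t : F) :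
    ↥(E Q) ⧸ Subgroup.center ↥(E Q) := qm Q ⟨(toFrame W).X a b t, X_mem W _ _ _⟩

theorem xo_add (a b : Fin (n + 2) × Bool) (s t : F) : xo Q W a b (s + t) = xo Q W a b s * xo Q W a b t := by
  simp only [xo, xo, xo, ← map_mul]
  (with_reducible congr 1)
  exact Subtype.ext ((toFrame W).X_add a b s t)

theorem xo_inj (hG : _root_.Cfsg.Agent.LieClassical.OrthTrans.Good Q) {a b : Fin (n + 2) × Bool} (hab : a.1 ≠ b.1) {t : F} (ht : xo Q W a b t = 1) :
    t = 0 := by
  obtain ⟨c, hc⟩ := scalar_of_center hG ((QuotientGroup.eq_one_iff _).1 ht)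
  exact X_eq_smul (toFrame W) hab hc

theorem mem_xd {x : Fin (n + 2) → ℤ} {a b : Fin (n + 2) × Bool} (hab : a.1 ≠ b.1)
    (e : ee x = wt a + wt b) {g : ↥(E Q) ⧸ Subgroup.center ↥(E Q)} : g ∈ XD W (qm Q) x ↔ ∃ t, xo Q W a b t = g := by
  unfold XD
  rw [Cfsg.Agent.Nodes.WittRGDD.rg_eq (toFrame W) hab e]
  constructor
  · rintro ⟨k, hk, rfl⟩
    obtain ⟨t, ht⟩ := (mem_XG (toFrame W)).1 (Subgroup.mem_subgroupOf.1 hk)
    refine ⟨t, ?_⟩
    simp only [xo]
    congr 1
    exact Subtype.ext ht.symm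
  · rintro ⟨t, rfl⟩
    exact ⟨_, Subgroup.mem_subgroupOf.2 ((mem_XG (toFrame W)).2 ⟨t, rfl⟩), rfl⟩

theorem card_xd (hG : _root_.Cfsg.Agent.LieClassical.OrthTrans.Good Q) {G : Type*} [Group G] (cs : CoxeterSystem (M n) G) {x : Fin (n + 2) → ℤ}
    (hx : IsRoot cs (isCartan n) x) : Nat.card ↥(XD W (qm Q) x) = Nat.card F := by
  obtain ⟨a, b, hab, e⟩ := exists_of_isRoot cs hx
  refine (Nat.card_congr (Equiv.ofBijective
    (fun t : F => (⟨xo Q W a b t, (mem_xd W hab e).2 ⟨t, rfl⟩⟩ : ↥(XD W (qm Q) x)))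
    ⟨fun t u htu => ?_, ?_⟩)).symm
  · have h3 : xo Q W a b t = xo Q W a b u := congrArg Subtype.val htu
    have h4 : xo Q W a b (t - u) = 1 := by
      have h5 := xo_add W a b (t - u) u
      (simp only [sub_add_cancel] at h5; simp only [h3] at h5; rewrite [eq_comm, mul_eq_right] at h5)
      exact h5
    exact sub_eq_zero.1 (xo_inj W hG hab h4)
  · rintro ⟨g, hg⟩
    (have h_ob := (mem_xd W hab e).1 hg
     revert h_ob; rintro (⟨t, rfl⟩))
    exact ⟨t, rfl⟩

/-- the root group datum of `E Q / Z(E Q)` -/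
theorem rgd_qm [Finite F] (hA : Amb (toFrame W) (E Q)) (h0 : ∀ p : (toFrame W).Adm, p = 1) {p : ℕ}
    [Fact p.Prime] [CharP F p] {G : Type*} [Group G] (cs : CoxeterSystem (M n) G) :
    RGD cs (isCartan n) p (((Tor (toFrame W) (E Q)).subgroupOf (E Q)).map (qm Q))
      (fun i => qm Q ⟨Cfsg.Agent.Nodes.WittRGDD.nn (toFrame W) i, Cfsg.Agent.Nodes.WittRGDD.nn_mem hA i⟩)
      (XD W (qm Q)) := by
  have : Finite ((ι → F) ≃ₗ[F] (ι → F)) :=
    Finite.of_injective (fun g : (ι → F) ≃ₗ[F] (ι → F) => (g : (ι → F) → (ι → F))) DFunLike.coe_injective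
  have : Finite G := finite_W cs
  exact rgd_map_of_ker_le_center (rgd_restrict (rgdD hA h0 cs) (E Q) (fun x _ => rgD_le W hA x)
    (fun i => Cfsg.Agent.Nodes.WittRGDD.nn_mem hA i)) (qm Q) (by rw [QuotientGroup.ker_mk'])

/-- a singular pair is moved to any other one -/
theorem exists_map_pair {V : Type*} [AddCommGroup V] [Module F V] [FiniteDimensional F V] {Q : QuadraticForm F V}
    (hQ : Nondeg Q) {a b a' b' : V} (ha : Q a = 0) (hb : Q b = 0) (hab : polar Q a b = 0)
    (hli : ∀ s t : F, s • a + t • b = 0 → s = 0 ∧ t = 0) (ha' : Q a' = 0) (hb' : Q b' = 0) (hab' : polar Q a' b' = 0)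
    (hli' : ∀ s t : F, s • a' + t • b' = 0 → s = 0 ∧ t = 0) : ∃ g ∈ O Q, g a = a' ∧ g b = b' := by
  obtain ⟨g, hg, hg'⟩ := ClassicalGeometry.WittQuad.extend_family Q
    ⟨fun x hx => hQ x hx, fun x hx => hQ x fun y => by rw [polar_comm]; exact hx y⟩ 2 ![a, b] ![a', b']
    (LinearIndependent.pair_iff.2 hli) (LinearIndependent.pair_iff.2 hli')
    (fun i => by
      fin_cases i
      · exact ha.trans ha'.symm
      · exact hb.trans hb'.symm)
    (fun i j => by
      fin_cases i <;> fin_cases j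
      · change polar Q a a = polar Q a' a'
        rw [polar_self', polar_self', ha, ha']
      · exact hab.trans hab'.symm
      · change polar Q b a = polar Q b' a'
        rw [polar_comm, hab, polar_comm, hab']
      · change polar Q b b = polar Q b' b'
        rw [polar_self', polar_self', hb, hb'])
  exact ⟨g, hg, hg' 0, hg' 1⟩

theorem center_bot {V : Type*} [AddCommGroup V] [Module F V] {Q : QuadraticForm F V} (hG : _root_.Cfsg.Agent.LieClassical.OrthTrans.Good Q) :
    Subgroup.center (↥(E Q) ⧸ Subgroup.center ↥(E Q)) = ⊥ := by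
  have : IsSimpleGroup (↥(E Q) ⧸ Subgroup.center ↥(E Q)) := good_isSimpleGroup hG
  rcases (inferInstance : (Subgroup.center (↥(E Q) ⧸ Subgroup.center ↥(E Q))).Normal).eq_bot_or_eq_top with h | h
  · exact h
  exfalso
  obtain ⟨p, hp⟩ := exists_ne (1 : ↥(E Q) ⧸ Subgroup.center ↥(E Q))
  obtain ⟨g, rfl⟩ := QuotientGroup.mk_surjective p
  apply hp
  have h1 : _root_.commutator ↥(E Q) ≤ (QuotientGroup.mk' (Subgroup.center ↥(E Q))).ker := by
    rw [commutator_def, Subgroup.commutator_le]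
    intro a _ b _
    rw [MonoidHom.mem_ker, map_commutatorElement, commutatorElement_eq_one_iff_mul_comm]
    have h2 : (QuotientGroup.mk' (Subgroup.center ↥(E Q))) a ∈
        Subgroup.center (↥(E Q) ⧸ Subgroup.center ↥(E Q)) := by rw [h]; trivial
    exact ((Subgroup.mem_center_iff.1 h2) _).symm
  have h3 : g ∈ _root_.commutator ↥(E Q) := by rw [commutator_E hG]; trivial
  exact h1 h3

theorem exists_three : ∀ i : Fin (2 + 2), ∃ j, (M 2) i j = 3 := by
  intro i
  have key : ∀ i : Fin 4, ∃ j : Fin 4, (if i = j then 1 else if _root_.Cfsg.Agent.Nodes.TypeD.Adj (n := 2) i j ∨ _root_.Cfsg.Agent.Nodes.TypeD.Adj (n := 2) j i then 3 else 2 : ℕ) = 3 := by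
    decide
  exact key i

theorem ni (m : ℕ) (hm : 2 ≤ m) {F : Type*} [Field F] (s t : F)
    (h : s • (wplus m F).e ⟨0, by omega⟩ + t • (wplus m F).e ⟨1, by omega⟩ = 0) : s = 0 ∧ t = 0 := by
  constructor
  · have := congrFun h (Sum.inl ⟨0, by omega⟩)
    simpa [wplus, Pi.single_apply] using this
  · have := congrFun h (Sum.inl ⟨1, by omega⟩)
    simpa [wplus, Pi.single_apply] using this

/-- **Siegel elements of `PΩ⁺₈(3)`** -/
theorem lrw_plus {F : Type*} [Field F] [Fintype F] (hF : Fintype.card F = 3) {a b : Fin (2 + 2) ⊕ Fin (2 + 2) → F}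
    (ha : plusForm (2 + 2) F a = 0) (hb : plusForm (2 + 2) F b = 0) (hab : polar (plusForm (2 + 2) F) a b = 0)
    (hli : ∀ s t : F, s • a + t • b = 0 → s = 0 ∧ t = 0) :
    ∃ (e : MulAut (P (plusForm (2 + 2) F))), LRW (e (qm (plusForm (2 + 2) F) ⟨siegel _ a b ha hab, siegel_mem_E _ _⟩)) := by
  have := charP_three hF
  have : Fact (Nat.Prime 3) := ⟨Nat.prime_three⟩
  set! Q := plusForm (2 + 2) F with hQ; rewrite [← hQ] at hab hb ha
  have hG : _root_.Cfsg.Agent.LieClassical.OrthTrans.Good Q := Cfsg.Agent.KFacts.SLRow.OmegaPlus.good_plus (2 + 2) F (by norm_num)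
  set! W := wplus (2 + 2) F with hW
  have hfinP : Finite (P Q) := ClassicalGeometry.OrthAut2b.finite_P
  set! cs := (M 2).toCoxeterSystem with hcs
  have hfinW : Finite (M 2).Group := finite_W cs
  have R := rgd_qm (p := 3) W (amb_plus _) (adm_plus _) cs
  have hab01 : ((0 : Fin (2 + 2)), true).1 ≠ ((1 : Fin (2 + 2)), true).1 := by decide
  (have h_ob := rt_of_ok (cs := cs) (a := ((0 : Fin (2 + 2)), true)) (b := ((1 : Fin (2 + 2)), true)) hab01
   revert h_ob; rintro (⟨x, hx, ex⟩))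
  -- the standard element
  set! η := (toFrame W).η ((1 : Fin (2 + 2)), true) with hη
  have hη0 : η ≠ 0 := (toFrame W).η_ne _
  (have h_ob := exists_map_pair hG.nondeg ha hb hab hli
    ((sing_iff Q).1 (b_sing W ((0 : Fin (2 + 2)), true))) ((sing_iff Q).1 (b_sing W ((1 : Fin (2 + 2)), true)))
    (by
      have h1 := (toFrame W).hb_of_ne hab01
      exact h1)
    (fun s t hst => ni (2 + 2) (by norm_num) s t hst)
   revert h_ob; rintro (⟨g, hg, hga, hgb⟩))
  set! t₀ : F := -η⁻¹ with ht₀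
  have hsc : (toFrame W).sc ((1 : Fin (2 + 2)), true) t₀ = 1 := by
    change -((1 : F)⁻¹ * η * t₀) = 1
    rw [ht₀]
    field_simp
  have hX : (toFrame W).X ((0 : Fin (2 + 2)), true) ((1 : Fin (2 + 2)), true) t₀ =
      g * siegel Q a b ha hab * g⁻¹ := by
    have h1 : Q (g a) = 0 := by rw [mem_O.1 hg, ha]
    have h2 : polar Q (g a) (g b) = 0 := by rw [polar_map hg, hab]
    rw [siegel_conj hg ha hab h1 h2, Frame.X_eq _ hab01]
    apply LinearEquiv.ext
    intro v
    simp only [HForm.sie_apply, siegel_apply, hsc, one_smul, hga, hgb, (sing_iff Q).1 (b_sing W ((1 : Fin (2 + 2)), true))]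
    change v + polar Q v ((toFrame W).b ((0 : Fin (2 + 2)), true)) • (toFrame W).b ((1 : Fin (2 + 2)), true) -
      ((1 : F)⁻¹ * polar Q v ((toFrame W).b ((1 : Fin (2 + 2)), true))) • (toFrame W).b ((0 : Fin (2 + 2)), true) +
      (0 * polar Q v ((toFrame W).b ((0 : Fin (2 + 2)), true))) • (toFrame W).b ((0 : Fin (2 + 2)), true) = _
    rw [polar_comm Q v, polar_comm Q v]
    module
  have hu0 : xo Q W ((0 : Fin (2 + 2)), true) ((1 : Fin (2 + 2)), true) t₀ ∈ XD W (qm Q) x := (mem_xd W hab01 ex).2 ⟨_, rfl⟩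
  have ht0 : t₀ ≠ 0 := neg_ne_zero.2 (inv_ne_zero hη0)
  have hcard : Nat.card F = 3 := by rw [Nat.card_eq_fintype_card, hF]
  (have h_ob := exists_lrw R (fun x y hx hy => Cfsg.Agent.Nodes.SimplyLaced.cpr_symm cs _
      (fun i j => (Cfsg.Agent.KFacts.SLRow.OmegaPlus.M_ne 2 i j).1)
      (fun i j => (Cfsg.Agent.KFacts.SLRow.OmegaPlus.M_ne 2 i j).2) hx hy)
    (G1D_eq_top W (qm Q) (QuotientGroup.mk'_surjective _) (adm_plus _) cs)
    (fun y hy => by rw [card_xd W hG cs hy, hcard]) exists_three hx hu0 (fun h => ht0 (xo_inj W hG hab01 h))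
   revert h_ob; rintro (⟨k, hk⟩))
  refine ⟨MulAut.conj k * Psi Q (Cfsg.Agent.H198.Classes.gamO Q ⟨g, hg⟩), ?_⟩
  have h1 : (MulAut.conj k * Psi Q (Cfsg.Agent.H198.Classes.gamO Q ⟨g, hg⟩))
      (qm Q ⟨siegel Q a b ha hab, siegel_mem_E _ _⟩) =
        k * xo Q W ((0 : Fin (2 + 2)), true) ((1 : Fin (2 + 2)), true) t₀ * k⁻¹ := by
    simp only [MulAut.mul_apply, MulAut.conj_apply]
    congr 2
    change Psi Q _ (QuotientGroup.mk _) = QuotientGroup.mk _
    rw [Psi_mk]
    congr 1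
    apply Subtype.ext
    refine Eq.trans ?_ hX.symm
    apply LinearEquiv.ext
    intro v
    (have h_ob := g.surjective v
     revert h_ob; rintro (⟨v, rfl⟩))
    have h2 := conjLin_apply' (Cfsg.Agent.H198.Classes.gamO Q ⟨g, hg⟩) (siegel Q a b ha hab) v
    refine h2.trans ?_
    change g (siegel Q a b ha hab v) = g (siegel Q a b ha hab (g.symm (g v)))
    rw [LinearEquiv.symm_apply_apply]
  rw [h1]
  exact hk

/-- the cube of an automorphism of order nine is induced by a similitude -/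
theorem cube_mem_range {F : Type*} [Field F] [Finite F] {x : MulAut (P (plusForm 4 F))} (h9 : x ^ 9 = 1) :
    x ^ 3 ∈ (Psi (plusForm 4 F)).range := by
  have h3 := AutOrth.Final.index_plus_four (F := F)
  (have h_ob := Subgroup.exists_pow_mem_of_index_ne_zero (H := (Psi (plusForm 4 F)).range)
    (by rw [h3]; norm_num) x
   revert h_ob; rintro (⟨n, hn0, hn3, hn⟩))
  rw [h3] at hn3
  interval_cases n
  · simp only [pow_one] at hn
    exact pow_mem hn 3
  · have h1 : x ^ 3 = (x ^ 2) ^ 6 := by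
      simp only [← pow_mul, show 2 * 6 = 9 + 3 by norm_num, pow_add, h9, one_mul]
    simp only [h1]
    exact pow_mem hn 6
  · exact hn

/-- **no automorphism of order nine of `PΩ₈⁺(3)` has `PS 2`** -/
theorem nine_plus_four {F : Type*} [Field F] [Fintype F] (hF : Fintype.card F = 3)
    {x : MulAut (P (plusForm 4 F))} (ho : orderOf x = 9) (hP : PS 2 x) : False := by
  have := charP_three hF
  have h9 : x ^ 9 = 1 := by simp only [← ho]; exact pow_orderOf_eq_one x
  obtain ⟨M, hM⟩ := cube_mem_range h9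
  have hG : _root_.Cfsg.Agent.LieClassical.OrthTrans.Good (plusForm 4 F) := Cfsg.Agent.KFacts.SLRow.OmegaPlus.good_plus 4 F (by norm_num)
  have hfinP : Finite (P (plusForm 4 F)) := ClassicalGeometry.OrthAut2b.finite_P
  have h7 : 7 ≤ finrank F (Fin 4 ⊕ Fin 4 → F) := by
    rw [Module.finrank_fintype_fun_eq_card, Fintype.card_sum, Fintype.card_fin]
    norm_num
  have hP3 : PS 2 (Psi (plusForm 4 F) M) := by rw [hM]; exact Cfsg.Agent.H21.SN.PS.pow hP 3
  have hM3 : Psi (plusForm 4 F) M ^ 3 = 1 := by simp only [hM, ← pow_mul, h9]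
  obtain ⟨g, hg, hg3, hLR, hgM⟩ := lr_of_psi hF hG.nondeg h7 hM3 hP3
  have hM1 : Psi (plusForm 4 F) M ≠ 1 := by
    simp only [hM]
    intro h
    have := orderOf_dvd_of_pow_eq_one h
    rw [ho] at this
    exact absurd this (by decide)
  have hscal : ∀ c : Fˣ, Psi (plusForm 4 F) (scal (plusForm 4 F) c) = 1 := by
    intro c
    have h1 : scal (plusForm 4 F) c ∈ (Psi (plusForm 4 F)).ker := by
      rw [ker_Psi hG]
      exact ⟨c, rfl⟩
    exact h1
  -- `M` may be replaced by `g`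
  have hgg : Psi (plusForm 4 F) M = Psi (plusForm 4 F) (Cfsg.Agent.H198.Classes.gamO _ ⟨g, hg⟩) := by
    rcases hgM with h | h
    · congr 1
      apply Subtype.ext
      ext1 v
      exact h v
    · have h1 : M = scal (plusForm 4 F) (-1) * Cfsg.Agent.H198.Classes.gamO _ ⟨g, hg⟩ := by
        apply Subtype.ext
        ext1 v
        refine (h v).trans ?_
        change _ = (scal (plusForm 4 F) (-1)).1 (g v)
        rw [scal_apply]
        simp
      simp only [h1, map_mul, hscal, one_mul]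
  have hg1 : g ≠ 1 := by
    rintro rfl
    apply hM1
    simp only [hgg]
    have h1 : Cfsg.Agent.H198.Classes.gamO (plusForm 4 F) ⟨1, hg⟩ = 1 := rfl
    simp only [h1, map_one]
  obtain ⟨a, b, ha, hab, hb, hli, rfl⟩ := hLR.exists_siegel hF hG.nondeg hg1
  obtain ⟨e, he⟩ := lrw_plus hF ha hb hab hli
  refine he.not_nine' (center_bot hG) rfl (x := x) ?_ hP
  simp only [← hM, hgg]
  ext p
  (have h_ob := QuotientGroup.mk_surjective p
   revert h_ob; rintro (⟨k, rfl⟩))
  simp only [MulAut.conj_apply, Psi_mk]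
  change QuotientGroup.mk _ = QuotientGroup.mk _
  refine congrArg _ (Subtype.ext (LinearEquiv.ext fun v => ?_))
  (have h_ob := (siegel (plusForm 4 F) a b ha hab).surjective v
   revert h_ob; rintro (⟨v, rfl⟩))
  refine (conjLin_apply' (Cfsg.Agent.H198.Classes.gamO (plusForm 4 F) ⟨_, hg⟩) k.1 v).trans ?_
  change siegel (plusForm 4 F) a b ha hab (k.1 v) = siegel (plusForm 4 F) a b ha hab (k.1
    ((siegel (plusForm 4 F) a b ha hab).symm (siegel (plusForm 4 F) a b ha hab v)))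
  rw [LinearEquiv.symm_apply_apply]

/-- the version for a group isomorphic to `PΩ₈⁺(3)` -/
theorem r9_plus_four {K : Type*} [Group K] [Finite K] {F : Type*} [Field F] [Finite F] (h3 : Nat.card F = 3)
    (e : K ≃* P8 F) {x : MulAut K} (ho : orderOf x = 9) (hP : PS 2 x) : False := by
  have : Fintype F := Fintype.ofFinite F
  have hfinP : Finite (P8 F) := ClassicalGeometry.OrthAut2b.finite_P
  have key : ∀ Q' : QuadraticForm F (Fin 4 ⊕ Fin 4 → F), plusForm 4 F = Q' → ∀ y : MulAut (P Q'), orderOf y = 9 →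
      ∀ _ : Finite (P Q'), PS 2 y → False := by
    rintro Q' rfl y hy _ hPy
    exact nine_plus_four (by rw [← Nat.card_eq_fintype_card, h3]) hy hPy
  refine key _ (AutOrth.Main.plusForm_eq 4) (H459.Rad.tr e x) ?_ hfinP (hP.tr e)
  rw [orderOf_tr, ho]

end Plus

end Cfsg.Agent.H234.SN
end

-- part: H281/SN/FixIdem
section
/-!
# Symmetric compositions with an automorphism of order two have a fixed idempotent (helper281, for S3831)

`exists_idem_fix` : over the field of three elements, dimension at least eight.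
-/

set_option autoImplicit false
set_option linter.unusedVariables false

namespace Cfsg.Agent.H281.SN

open Module QuadraticMap Cfsg.Agent.LieClassical.OrthCore Cfsg.Agent.LieClassical.OrthTrans
  Cfsg.Agent.H198.TwComp Cfsg.Agent.LieClassical.OrthFinite

variable {F V : Type*} [Field F] [AddCommGroup V] [Module F V] {Q : QuadraticForm F V} {m : V → V → V}

/-- the fixed vectors -/
def fixS (T : V →ₗ[F] V) : Submodule F V := LinearMap.ker (T - LinearMap.id)

/-- the negated vectors -/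
def negS (T : V →ₗ[F] V) : Submodule F V := LinearMap.ker (T + LinearMap.id)

theorem mem_fixS {T : V →ₗ[F] V} {x : V} : x ∈ fixS T ↔ T x = x := by
  rw [fixS, LinearMap.mem_ker, LinearMap.sub_apply, LinearMap.id_apply, sub_eq_zero]

theorem mem_negS {T : V →ₗ[F] V} {x : V} : x ∈ negS T ↔ T x = -x := by
  rw [negS, LinearMap.mem_ker, LinearMap.add_apply, LinearMap.id_apply, add_eq_zero_iff_eq_neg]

theorem tc_restrict (h : TC Q (RingEquiv.refl F) m) (W : Submodule F V) (hW : ∀ a ∈ W, ∀ b ∈ W, m a b ∈ W) :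
    TC (Q.comp W.subtype) (RingEquiv.refl F) (fun a b : W => (⟨m a b, hW a a.2 b b.2⟩ : W)) where
  add_left a b c := Subtype.ext (h.add_left _ _ _)
  add_right a b c := Subtype.ext (h.add_right _ _ _)
  smul_left k a b := Subtype.ext (h.smul_left _ _ _)
  smul_right k a b := Subtype.ext (h.smul_right _ _ _)
  left a b := Subtype.ext (h.left _ _)
  right a b := Subtype.ext (h.right _ _)
  cube k := rfl

section Inv

variable {T : V →ₗ[F] V} (h2 : (2 : F) ≠ 0) (hT2 : ∀ x, T (T x) = x) (hTQ : ∀ x, Q (T x) = Q x)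

include hTQ in
theorem polar_T (x y : V) : polar Q (T x) (T y) = polar Q x y := by
  unfold polar
  rw [← map_add, hTQ, hTQ, hTQ]

include h2 hT2 hTQ in
theorem nondeg_fix (hQ : Nondeg Q) : Nondeg (Q.comp (fixS T).subtype) := by
  intro x hx
  apply Subtype.ext
  apply hQ
  intro y
  have h1 : (y + T y) ∈ fixS T := by rw [mem_fixS, map_add, hT2, add_comm]
  have h3 : polar Q (x : V) (y + T y) = 0 := hx ⟨y + T y, h1⟩
  have h4 : polar Q (x : V) (T y) = polar Q (x : V) y := by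
    have h5 := polar_T hTQ (x : V) y
    rwa [mem_fixS.1 x.2] at h5
  rw [polar_add_right, h4, ← two_mul] at h3
  exact (mul_eq_zero.1 h3).resolve_left h2

include h2 hT2 in
theorem sup_eq : fixS T ⊔ negS T = ⊤ := by
  rw [eq_top_iff]
  intro x _
  have h1 : x = (2 : F)⁻¹ • (x + T x) + (2 : F)⁻¹ • (x - T x) := by
    rw [← smul_add, add_add_sub_cancel, ← two_smul F x, smul_smul, inv_mul_cancel₀ h2, one_smul]
  rw [h1]
  refine Submodule.add_mem_sup ?_ ?_
  · rw [mem_fixS, map_smul, map_add, hT2, add_comm x]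
  · rw [mem_negS, map_smul, map_sub, hT2, ← smul_neg, neg_sub]

include h2 hT2 hTQ in
theorem exists_neg (hQ : Nondeg Q) (hn : negS T ≠ ⊥) : ∃ z ∈ negS T, Q z ≠ 0 := by
  by_contra hcon
  push Not at hcon
  apply hn
  rw [eq_bot_iff]
  intro z hz
  rw [Submodule.mem_bot]
  apply hQ
  intro y
  have hy : y ∈ fixS T ⊔ negS T := by rw [sup_eq h2 hT2]; trivial
  obtain ⟨a, ha, b, hb, rfl⟩ := Submodule.mem_sup.1 hy
  rw [polar_add_right]
  have h3 : polar Q z a = 0 := by
    have h5 := polar_T hTQ z a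
    rw [mem_fixS.1 ha, mem_negS.1 hz, polar_neg_left] at h5
    have h6 : 2 * polar Q z a = 0 := by linear_combination -h5
    exact (mul_eq_zero.1 h6).resolve_left h2
  have h4 : polar Q z b = 0 := by
    unfold polar
    rw [hcon z hz, hcon b hb, hcon _ (Submodule.add_mem _ hz hb)]
    ring
  rw [h3, h4, add_zero]

include h2 hT2 hTQ in
/-- the fixed space is at least half of the space -/
theorem finrank_fix [FiniteDimensional F V] (h : TC Q (RingEquiv.refl F) m) (hQ : Nondeg Q)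
    (hTm : ∀ a b, T (m a b) = m (T a) (T b)) : finrank F V ≤ 2 * finrank F (fixS T) := by
  have h1 : finrank F V ≤ finrank F (fixS T) + finrank F (negS T) := by
    have h3 := Submodule.finrank_add_le_finrank_add_finrank (fixS T) (negS T)
    rwa [sup_eq h2 hT2, finrank_top] at h3
  suffices hle : finrank F (negS T) ≤ finrank F (fixS T) by omega
  by_cases hn : negS T = ⊥
  · rw [hn, finrank_bot]
    exact Nat.zero_le _
  obtain ⟨z, hz, hz0⟩ := exists_neg h2 hT2 hTQ hQ hn
  let L : negS T →ₗ[F] fixS T :=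
    { toFun := fun x => ⟨m z x, by
        rw [mem_fixS, hTm, mem_negS.1 hz, mem_negS.1 x.2, h.neg_left, h.neg_right, neg_neg]⟩
      map_add' := fun x y => Subtype.ext (h.add_right _ _ _)
      map_smul' := fun c x => Subtype.ext (h.smul_right _ _ _) }
  refine LinearMap.finrank_le_finrank_of_injective (f := L) ?_
  rw [injective_iff_map_eq_zero]
  intro x hx
  have h3 : m z x = 0 := congrArg Subtype.val hx
  have h4 := h.left z x
  rw [h3, h.zero_left] at h4
  exact Subtype.ext ((smul_eq_zero.1 h4.symm).resolve_left hz0)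

end Inv

/-- an isotropic symmetric composition over the field of three elements has an idempotent -/
theorem exists_idem3 [Finite F] (h3 : Nat.card F = 3) (h : TC Q (RingEquiv.refl F) m) (hQ : Nondeg Q)
    {a : V} (ha0 : a ≠ 0) (ha : Q a = 0) : ∃ e, e ≠ 0 ∧ m e e = e := by
  have hF : Fintype F := Fintype.ofFinite F
  have hc : ∀ c : F, c ≠ 0 → c * c = 1 := by
    intro c hc
    have h4 := FiniteField.pow_card_sub_one_eq_one c hc
    rw [← Nat.card_eq_fintype_card, h3] at h4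
    rw [← pow_two]
    exact h4
  by_cases hg : polar Q a (m a a) = 0
  · obtain ⟨h4, -⟩ := h.sq_sq ha ha0
    rw [hg, zero_smul] at h4
    by_cases hm : m a a = 0
    · obtain ⟨e, he, hee, -⟩ := h.idem_of_sq_zero hQ ha0 hm
      exact ⟨e, he, hee⟩
    · obtain ⟨e, he, hee, -⟩ := h.idem_of_sq_zero hQ hm h4
      exact ⟨e, he, hee⟩
  · refine h.idem_of_norm ha ha0 (c := polar Q a (m a a)) ?_
    have h4 := hc _ hg
    change polar Q a (m a a) * polar Q a (m a a) * polar Q a (m a a) * polar Q a (m a a) = 1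
    rw [h4, one_mul, h4]

/-- **A fixed idempotent.** -/
theorem exists_idem_fix [Finite F] (h3 : Nat.card F = 3) (h2 : (2 : F) ≠ 0) [FiniteDimensional F V]
    (h : TC Q (RingEquiv.refl F) m) (hQ : Nondeg Q) (hd : 8 ≤ finrank F V) {T : V →ₗ[F] V} (hT2 : ∀ x, T (T x) = x)
    (hTQ : ∀ x, Q (T x) = Q x) (hTm : ∀ a b, T (m a b) = m (T a) (T b)) :
    ∃ e, e ≠ 0 ∧ m e e = e ∧ T e = e := by
  have h4 := finrank_fix h2 hT2 hTQ h hQ hTm
  obtain ⟨a, ha, ha0, haQ⟩ := exists_sing_mem (Q := Q) (fixS T) (by omega)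
  have hW : ∀ a ∈ fixS T, ∀ b ∈ fixS T, m a b ∈ fixS T := by
    intro a ha b hb
    rw [mem_fixS] at ha hb ⊢
    rw [hTm, ha, hb]
  obtain ⟨e, he0, he⟩ := exists_idem3 h3 (tc_restrict h (fixS T) hW) (nondeg_fix h2 hT2 hTQ hQ) (a := ⟨a, ha⟩)
    (fun h0 => ha0 (congrArg Subtype.val h0)) haQ
  refine ⟨e, fun h0 => he0 (Subtype.ext h0), congrArg Subtype.val he, mem_fixS.1 e.2⟩

end Cfsg.Agent.H281.SN
end

-- part: H281/SN/Norm6
section
/-!
# Triality automorphisms of order six over the field of three elements (helper281, for S3831)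

`normal6` : `x ^ 6 = 1`, `x ^ 2 ∉ Ψ(Γ)`: `x` or `x⁻¹` is conjugate to `Ψ(s) ρ`, `s` an octonion automorphism.
-/

set_option autoImplicit false
set_option linter.unusedVariables false

namespace Cfsg.Agent.H281.SN

open Module QuadraticMap Cfsg.Agent.LieClassical.OrthCore Cfsg.Agent.LieClassical.OrthTrans
  Cfsg.Agent.LieClassical.OrthSimple Cfsg.Agent.ClassicalGeometry.OrthAut1
  Cfsg.Agent.ClassicalGeometry.OrthSemi Cfsg.Agent.H198.Classes
  Cfsg.Agent.LieClassical.QuadForms Cfsg.Agent.H198.ClassesPlus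
  Cfsg.Agent.ClassicalGeometry.TrialityOct Cfsg.Agent.ClassicalGeometry.Triality
  Cfsg.Agent.ClassicalGeometry.TrialitySpaces Cfsg.Agent.H198.TriBase Cfsg.Agent.H198.TriAut
  Cfsg.Agent.H206.Balance Cfsg.Agent.H198.BalVar Cfsg.Agent.H198.TriDia Cfsg.Agent.H198.TwComp
  Cfsg.Agent.H198.TriTC Cfsg.Agent.H198.TriCls

/-- the field of three elements has no automorphisms -/
theorem aut3 {F : Type*} [Field F] [Finite F] (h3 : Nat.card F = 3) (φ : F ≃+* F) : φ = RingEquiv.refl F := by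
  have : Fintype F := Fintype.ofFinite F
  ext a
  change φ a = a
  have h1 : a ^ 3 = a := by
    have := FiniteField.pow_card a
    rwa [← Nat.card_eq_fintype_card, h3] at this
  have hc : CharP F 3 := by
    obtain ⟨p, hp⟩ := CharP.exists F
    obtain ⟨k, hpp, hk⟩ := FiniteField.card F p
    rw [← Nat.card_eq_fintype_card, h3] at hk
    have h2 : p ∣ 3 := by rw [hk]; exact dvd_pow_self p k.ne_zero
    have h4 := (Nat.prime_dvd_prime_iff_eq hpp Nat.prime_three).1 h2
    rwa [h4] at hp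
  have h2 : a * (a - 1) * (a + 1) = 0 := by linear_combination h1
  rcases mul_eq_zero.1 h2 with h5 | h5
  · rcases mul_eq_zero.1 h5 with h6 | h6
    · rw [h6, map_zero]
    · rw [sub_eq_zero.1 h6, map_one]
  · rw [eq_neg_of_add_eq_zero_left h5, map_neg, map_one]

universe u

variable {F : Type u} [Field F]

theorem two_ne {F : Type*} [Field F] [Finite F] (h3 : Nat.card F = 3) : (2 : F) ≠ 0 := by
  have : Fintype F := Fintype.ofFinite F
  intro h
  have h5 : CharP F 2 := CharTwo.of_one_ne_zero_of_two_eq_zero one_ne_zero h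
  obtain ⟨k, -, hk⟩ := FiniteField.card F 2
  rw [← Nat.card_eq_fintype_card, h3] at hk
  have h6 : Even (2 ^ (k : ℕ)) := (even_two).pow_of_ne_zero k.ne_zero
  rw [← hk] at h6
  exact absurd h6 (by decide)

theorem one8_ne : one8 F ≠ 0 := by
  intro h
  have h5 := norm_one8 (F := F)
  rw [h, QuadraticMap.map_zero] at h5
  exact zero_ne_one h5

/-- an octonion automorphism with trivial image -/
theorem eq_one_of_Psi (hG : _root_.Cfsg.Agent.LieClassical.OrthTrans.Good (plusForm 4 F)) {s : G8 F} (hs : TriS s s s) (h : Psi (plusForm 4 F) s = 1) :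
    s = 1 := by
  have h1 : Psi (plusForm 4 F) s = Psi (plusForm 4 F) 1 := by simp only [h, map_one (Psi (plusForm 4 F))]
  obtain ⟨c, hc⟩ := smul_of_Psi_eq hG h1
  have h4 : (c : F) • one8 F = one8 F := by
    have := hc (one8 F)
    rw [aut_one hs] at this
    exact this.symm
  have h5 : (c : F) = 1 := by
    have h6 : ((c : F) - 1) • one8 F = 0 := by rw [sub_smul, h4, one_smul, sub_self]
    exact sub_eq_zero.1 ((smul_eq_zero.1 h6).resolve_right one8_ne)
  apply Subtype.ext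
  ext1 v
  have := hc v
  rw [h5, one_smul] at this
  exact this

theorem tri_pow {s : G8 F} (hs : TriS s s s) (k : ℕ) : TriS (s ^ k) (s ^ k) (s ^ k) := by
  induction k with
  | zero => rw [pow_zero]; exact TriS.one
  | succ k ih => rw [pow_succ]; exact ih.mul hs

theorem gen_pow {G : Type u} [Group G] {a r : G} (h : r * a = a * r) (k : ℕ) : (a * r) ^ k = a ^ k * r ^ k := by
  have h1 : Commute a r := h.symm
  exact h1.mul_pow k

theorem xt_pow (hG : _root_.Cfsg.Agent.LieClassical.OrthTrans.Good (plusForm 4 F)) {s : G8 F} (hs : TriS s s s) (k : ℕ) :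
    xt hG s ^ k = Psi (plusForm 4 F) (s ^ k) * rho hG ^ k := by
  have h1 := gen_pow (rho_comm hG hs) k
  simp only [xt, h1, map_pow (Psi (plusForm 4 F)) s k]

theorem gen_y {G : Type u} [Group G] {y t u : G} (hu : y ^ 4 = u) (ht : y ^ 3 = t) : t * u = u * t := by
  rw [← hu, ← ht, ← pow_add, ← pow_add]

theorem gen_y2 {G : Type u} [Group G] {y t : G} (h6 : y ^ 6 = 1) (ht : y ^ 3 = t) : t ^ 2 = 1 := by
  rw [← ht, ← pow_mul, h6]

theorem gen_y7 {G : Type u} [Group G] {y t u : G} (h6 : y ^ 6 = 1) (hu : y ^ 4 = u) (ht : y ^ 3 = t) : y = u * t := by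
  rw [← hu, ← ht, ← pow_add]
  calc y = y ^ 6 * y := by rw [h6, one_mul]
    _ = y ^ (4 + 3) := by rw [← pow_succ]

theorem gen_cj4 {G : Type u} [Group G] {a x u t b r s : G} (hx : x = u * t) (h1 : a * u * a⁻¹ = b * r)
    (h2 : a * t * a⁻¹ = s) (h3 : r * s = s * r) : a * x * a⁻¹ = b * s * r := by
  have e : a * (u * t) * a⁻¹ = (a * u * a⁻¹) * (a * t * a⁻¹) := by group
  rw [hx, e, h1, h2, mul_assoc, h3, mul_assoc]

theorem gen_S {G : Type u} [Group G] {p n : G} {H : Type*} [Group H] (f : G →* H) {t : H} (h : f n = t) :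
    f p * t * (f p)⁻¹ = f (p * n * p⁻¹) := by
  rw [map_mul, map_mul, map_inv, h]

set_option maxHeartbeats 4000000 in
/-- the main step -/
theorem normal6_aux [Finite F] (h3 : Nat.card F = 3) (hG : _root_.Cfsg.Agent.LieClassical.OrthTrans.Good (plusForm 4 F)) {y : MulAut (P8 F)}
    (h6 : y ^ 6 = 1) {M M₁ M₂ : G8 F} (hM : TriS M M₁ M₂) (hcub : Cub M M₁ M₂)
    (hy : Psi _ M * rho hG = y ^ 4) :
    ∃ (α : MulAut (P8 F)) (s : G8 F), TriS s s s ∧ α * y * α⁻¹ = xt hG s := by
  obtain ⟨c₀, hc₀⟩ := hcub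
  have inv_apply : ∀ (N : G8 F) (x : V8 F), N⁻¹.1 (N.1 x) = x := fun N x => N.1.symm_apply_apply x
  have apply_inv : ∀ (N : G8 F) (x : V8 F), N.1 (N⁻¹.1 x) = x := fun N x => N.1.apply_symm_apply x
  have h2 := two_ne h3
  set! t := y ^ 3 with ht
  have hct : t * (Psi _ M * rho hG) = Psi _ M * rho hG * t := gen_y hy.symm rfl
  have ht2 : t ^ 2 = 1 := gen_y2 h6 rfl
  (have h_ob := comm_range hG (M := M) ⟨M₁, M₂, hM⟩ hct (n := 2) (by decide) ht2
   revert h_ob; rintro (⟨N, N₁, N₂, hN, hNt⟩))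
  rw [← hNt] at hct
  (have h_ob := comm_mo hG hM hN hct
   revert h_ob; rintro (⟨c, hc0, hcm⟩))
  (have h_ob := M.2
   revert h_ob; rintro (⟨σ, k, hs⟩))
  (have h_ob := aut3 h3 σ
   revert h_ob; rintro (rfl))
  (have h_ob := tc hM hc₀ hs
   revert h_ob; rintro (⟨k', hk', hTC⟩))
  have hnd : Nondeg (k' • plusForm 4 F) := by
    intro x hx
    apply ClassicalGeometry.Triality.nondeg8 x
    intro y
    have h1 := hx y
    have h2 : polar (⇑(k' • plusForm 4 F)) x y = k' * polar (plusForm 4 F) x y := by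
      change k' * plusForm 4 F (x + y) - k' * plusForm 4 F x - k' * plusForm 4 F y =
        k' * (plusForm 4 F (x + y) - plusForm 4 F x - plusForm 4 F y)
      ring
    rw [h2] at h1
    exact (mul_eq_zero.1 h1).resolve_left hk'
  -- the automorphism `T` of the product
  set! N' : G8 F := scal (plusForm 4 F) (Units.mk0 c hc0) * N with hN'
  have hN'a : ∀ v, N'.1 v = c • N.1 v := fun v => rfl
  have hPs : ∀ d : Fˣ, Psi (plusForm 4 F) (scal (plusForm 4 F) d) = 1 := by
    intro d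
    have : scal (plusForm 4 F) d ∈ (Psi (plusForm 4 F)).ker := by
      rw [ker_Psi hG]
      exact ⟨d, rfl⟩
    exact this
  have hN't : Psi (plusForm 4 F) N' = t := by
    simp only [hN', map_mul (Psi (plusForm 4 F)) (scal (plusForm 4 F) (Units.mk0 c hc0)) N, hPs, one_mul, hNt]
  clear_value N'
  (have h_ob := N'.2
   revert h_ob; rintro (⟨ν, l, hl⟩))
  (have h_ob := aut3 h3 ν
   revert h_ob; rintro (rfl))
  have hTm : ∀ u w, N'.1 (mo M M₂ u w) = mo M M₂ (N'.1 u) (N'.1 w) := by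
    intro u w
    rw [hN'a, hN'a, hN'a, hcm, hTC.smul_left, hTC.smul_right]
    rfl
  let T : V8 F →ₗ[F] V8 F :=
    { toFun := N'.1
      map_add' := hl.add
      map_smul' := hl.smul }
  have hTa : ∀ v, T v = N'.1 v := fun v => rfl
  -- a product which is not zero
  have hQ1 : (k' • plusForm 4 F) (one8 F) ≠ 0 := by
    change k' * plusForm 4 F (one8 F) ≠ 0
    rw [norm_one8, mul_one]
    exact hk'
  have hmne : mo M M₂ (one8 F) (one8 F) ≠ 0 := by
    intro h
    have h1 := hTC.left (one8 F) (one8 F)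
    rw [h, hTC.zero_left] at h1
    rcases smul_eq_zero.1 h1.symm with h4 | h4
    · exact hQ1 h4
    · exact one8_ne h4
  have hT2 : ∀ v, T (T v) = v := by
    have h1 : N' * N' ∈ (Psi (plusForm 4 F)).ker := by
      simp_rw [MonoidHom.mem_ker, map_mul (Psi (plusForm 4 F)) N' N', hN't, ← pow_two, ht2]
    rw [ker_Psi hG] at h1
    obtain ⟨d, hd⟩ := h1
    have h4 : ∀ v, N'.1 (N'.1 v) = (d : F) • v := by
      intro v
      have := congrArg (fun z : G8 F => z.1 v) hd
      exact this.symm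
    have h5 : (d : F) • mo M M₂ (one8 F) (one8 F) = (d : F) • (d : F) • mo M M₂ (one8 F) (one8 F) :=
      calc (d : F) • mo M M₂ (one8 F) (one8 F) = N'.1 (N'.1 (mo M M₂ (one8 F) (one8 F))) := (h4 _).symm
        _ = mo M M₂ (N'.1 (N'.1 (one8 F))) (N'.1 (N'.1 (one8 F))) := by rw [hTm, hTm]
        _ = mo M M₂ ((d : F) • one8 F) ((d : F) • one8 F) := by rw [h4]
        _ = _ := by rw [hTC.smul_left, hTC.smul_right]; rfl
    have h7 : (d : F) = 1 := by
      have h8 : (d : F) • ((d : F) - 1) • mo M M₂ (one8 F) (one8 F) = 0 := by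
        rw [sub_smul, one_smul, smul_sub, ← h5, sub_self]
      have h9 := (smul_eq_zero.1 h8).resolve_left d.ne_zero
      exact sub_eq_zero.1 ((smul_eq_zero.1 h9).resolve_right hmne)
    intro v
    rw [hTa, hTa, h4, h7, one_smul]
  have hTQ : ∀ v, (k' • plusForm 4 F) (T v) = (k' • plusForm 4 F) v := by
    intro v
    have h1 := congrArg N'.1 (hTC.left v (one8 F))
    rw [hTm, hTm, hTC.left] at h1
    have h4 : N'.1 (RingEquiv.refl F ((k' • plusForm 4 F) v) • one8 F) =
      RingEquiv.refl F ((k' • plusForm 4 F) v) • N'.1 (one8 F) := hl.smul _ _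
    rw [h4] at h1
    have h5 : ((k' • plusForm 4 F) (N'.1 v) - (k' • plusForm 4 F) v) • N'.1 (one8 F) = 0 := by
      rw [sub_smul, sub_eq_zero]
      exact h1
    have h6 : N'.1 (one8 F) ≠ 0 := by
      intro h
      have h7 := hT2 (one8 F)
      rw [hTa (one8 F), h, map_zero] at h7
      exact one8_ne h7.symm
    exact sub_eq_zero.1 ((smul_eq_zero.1 h5).resolve_right h6)
  have hd8 : 8 ≤ finrank F (V8 F) := by
    rw [Module.finrank_fintype_fun_eq_card, Fintype.card_sum, Fintype.card_fin]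
  (have h_ob := exists_idem_fix h3 h2 hTC hnd hd8 hT2 hTQ hTm
   revert h_ob; rintro (⟨e, he0, he, heT⟩))
  have heN : N'.1 e = e := heT
  have hQe := hTC.norm_idem he0 he
  have hne : plusForm 4 F e ≠ 0 := by
    intro h
    change k' * plusForm 4 F e = 1 at hQe
    rw [h, mul_zero] at hQe
    exact zero_ne_one hQe
  -- first step
  (have h_ob := step hG hM (tri_lG e hne).inv
   revert h_ob; rintro (⟨A, A₁, A₂, hA, hA1, hA2, -⟩))
  set! N0 := (lG e hne)⁻¹ with hN0; rewrite [← hN0] at hA2 hA1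
  have hNe : N0.1 e = one8 F := by
    have h1 : (lG e hne).1 (one8 F) = e := by rw [lG_apply, omul_one]
    have h2 := inv_apply (lG e hne) (one8 F)
    rwa [h1] at h2
  clear_value N0
  have hAe : mo A A₂ (one8 F) (one8 F) = one8 F := by
    have := hA2 e e
    rwa [he, hNe] at this
  -- second step
  have ha : plusForm 4 F (A⁻¹.1 (one8 F)) ≠ 0 := by
    obtain ⟨σ', c', hs'⟩ := A⁻¹.2
    rw [hs'.form, norm_one8, map_one, mul_one]
    exact hs'.ne
  (have h_ob := exists_N ha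
   revert h_ob; rintro (⟨P', P'₁, P'₂, hP', hN1, hN2⟩))
  (have h_ob := step hG hA hP'
   revert h_ob; rintro (⟨B, B₁, B₂, hB, hB1, hB2, hB3⟩))
  have hBe : mo B B₂ (one8 F) (one8 F) = one8 F := by
    have := hB2 (one8 F) (one8 F)
    rwa [hAe, hN1] at this
  have hBi : B⁻¹.1 (one8 F) = one8 F := by
    have := hB3 (one8 F)
    rw [hN1, hN2] at this
    rw [this, oconj_one8]
  (have h_ob := tri_of_one hB hBe hBi
   revert h_ob; rintro (⟨hτ, hB2'⟩))
  subst hB2'
  -- the transported automorphism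
  set! P : G8 F := P' * N0 with hP
  have hPP : Psi (plusForm 4 F) P = Psi (plusForm 4 F) P' * Psi (plusForm 4 F) N0 :=
    map_mul (Psi (plusForm 4 F)) P' N0
  have hPm : ∀ u w, mo B₂ B₂ (P.1 u) (P.1 w) = P.1 (mo M M₂ u w) := by
    intro u w
    change mo B₂ B₂ (P'.1 (N0.1 u)) (P'.1 (N0.1 w)) = P'.1 (N0.1 (mo M M₂ u w))
    rw [hB2, hA2]
  have hPe : P.1 e = one8 F := by
    change P'.1 (N0.1 e) = _
    rw [hNe, hN1]
  clear_value P
  set! S : G8 F := P * N' * P⁻¹ with hS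
  have hSP : ∀ v, S.1 (P.1 v) = P.1 (N'.1 v) := by
    intro v
    change P.1 (N'.1 (P⁻¹.1 (P.1 v))) = _
    rw [inv_apply]
  clear_value S
  have hS1 : S.1 (one8 F) = one8 F := by
    have := hSP e
    rwa [heN, hPe] at this
  have hSm : ∀ u w, S.1 (mo B₂ B₂ u w) = mo B₂ B₂ (S.1 u) (S.1 w) := by
    intro u w
    have e1 : ∀ v, ∃ v', P.1 v' = v := fun v => ⟨P⁻¹.1 v, apply_inv P v⟩
    obtain ⟨u, rfl⟩ := e1 u
    obtain ⟨w, rfl⟩ := e1 w
    rw [hPm, hSP, hTm, ← hPm, hSP, hSP]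
  have hSr : ∀ w, S.1 (B₂.1 (oconj w)) = B₂.1 (oconj (S.1 w)) := by
    intro w
    have := hSm (one8 F) w
    rw [hS1] at this
    simp only [mo] at this
    rwa [hBi, oconj_one8, one_omul, one_omul] at this
  have hSl : ∀ u, S.1 (oconj (B₂⁻¹.1 u)) = oconj (B₂⁻¹.1 (S.1 u)) := by
    intro u
    have := hSm u (one8 F)
    rw [hS1] at this
    simp only [mo] at this
    rwa [oconj_one8, aut_one hτ, omul_one, omul_one] at this
  have hSS : TriS S S S := by
    intro x y
    have e1 : x = oconj (B₂⁻¹.1 (B₂.1 (oconj x))) := by rw [inv_apply, oconj_oconj]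
    have e2 : y = B₂.1 (oconj (oconj (B₂⁻¹.1 y))) := by rw [oconj_oconj, apply_inv]
    have h7 := hSm (B₂.1 (oconj x)) (oconj (B₂⁻¹.1 y))
    simp only [mo] at h7
    rw [← hSl, ← hSr, ← e1, ← e2] at h7
    exact h7
  refine ⟨Psi (plusForm 4 F) P' * Psi (plusForm 4 F) N0, B₂ * S, hτ.mul hSS, ?_⟩
  have hcj := gen_cj hA1 hB1
  have hSt : Psi (plusForm 4 F) P' * Psi (plusForm 4 F) N0 * t * (Psi (plusForm 4 F) P' * Psi (plusForm 4 F) N0)⁻¹ =
      Psi (plusForm 4 F) S := by
    simp only [← hPP, hS]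
    exact gen_S (Psi (plusForm 4 F)) hN't
  have hfin := gen_cj4 (gen_y7 h6 hy.symm rfl) hcj hSt (rho_comm hG hSS)
  simp only [hfin, xt, map_mul (Psi (plusForm 4 F)) B₂ S]

theorem gen_inv {G : Type u} [Group G] {x : G} (n : ℕ) : (x⁻¹) ^ n = (x ^ n)⁻¹ := inv_pow x n

/-- **The normal form.** -/
theorem normal6 [Finite F] (h3 : Nat.card F = 3) (hG : _root_.Cfsg.Agent.LieClassical.OrthTrans.Good (plusForm 4 F)) {x : MulAut (P8 F)}
    (hx : x ^ 2 ∉ (Psi (plusForm 4 F)).range) (h6 : x ^ 6 = 1) :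
    ∃ (α : MulAut (P8 F)) (s : G8 F), TriS s s s ∧ (α * x * α⁻¹ = xt hG s ∨ α * x⁻¹ * α⁻¹ = xt hG s) := by
  have hu : x ^ 4 ∉ (Psi (plusForm 4 F)).range := by
    intro h
    apply hx
    have h1 := mul_mem h h
    have h2 : x ^ 4 * x ^ 4 = x ^ 2 := by
      rw [← pow_add]
      calc x ^ (4 + 4) = x ^ 6 * x ^ 2 := by rw [← pow_add]
        _ = x ^ 2 := by simp only [h6, one_mul]
    (simp only [h2] at h1; assumption)
  have hu3 : (x ^ 4) ^ 3 = 1 := by
    rw [← pow_mul]
    calc x ^ (4 * 3) = (x ^ 6) ^ 2 := by rw [← pow_mul]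
      _ = 1 := by simp only [h6, one_pow]
  (have h_ob := exists_M hG hu hu3
   revert h_ob; rintro (⟨M, M₁, M₂, hM, hcub, h | h⟩))
  · (have h_ob := normal6_aux h3 hG h6 hM hcub h
     revert h_ob; rintro (⟨α, s, hs, h4⟩))
    exact ⟨α, s, hs, Or.inl h4⟩
  · (have h_ob := normal6_aux h3 hG (y := x⁻¹) (by simp only [gen_inv, h6, inv_one]) hM hcub
      (by simp only [gen_inv]; exact h)
     revert h_ob; rintro (⟨α, s, hs, h4⟩))
    exact ⟨α, s, hs, Or.inr h4⟩

end Cfsg.Agent.H281.SN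
end

-- part: H281/SN/GTwo
section
/-!
# The fixed points of the triality automorphism over the field of three elements (helper281, for S3831)

* `simple_Fx` : `Fx (rho hG) ≃ G₂(3)` is simple;
* `eq_one_of_fix` : octonion automorphisms acting trivially on it are trivial;
* `case6` : the induction hypothesis `IH` excludes `Ψ(s) ρ`, `s` of order six or nine.
-/

set_option autoImplicit false
set_option linter.unusedVariables false
set_option linter.unusedSectionVars false

namespace Cfsg.Agent.H281.SN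

open Module QuadraticMap Cfsg.Agent.LieClassical.OrthCore Cfsg.Agent.LieClassical.OrthTrans
  Cfsg.Agent.LieClassical.OrthSimple Cfsg.Agent.ClassicalGeometry.OrthAut1
  Cfsg.Agent.ClassicalGeometry.OrthSemi Cfsg.Agent.H198.Classes
  Cfsg.Agent.LieClassical.QuadForms Cfsg.Agent.H198.ClassesPlus
  Cfsg.Agent.ClassicalGeometry.TrialityOct Cfsg.Agent.ClassicalGeometry.Triality
  Cfsg.Agent.ClassicalGeometry.TrialitySpaces Cfsg.Agent.H198.TriBase Cfsg.Agent.H198.TriAut
  Cfsg.Agent.H206.Balance Cfsg.Agent.H198.BalVar Cfsg.Agent.H198.TriDia Cfsg.Agent.H198.TriSpec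
  Cfsg.Agent.H198.TriTC Cfsg.Agent.H198.TriCls Cfsg.Agent.H459.Rad Cfsg.Agent.H21.SN

universe u

section Simple

open Subgroup Cfsg.Lie Cfsg.Agent.H753.GTwoCore

variable {F : Type u} [Field F]

theorem simple_G2 {K : Type u} [Field K] [Finite K] (h3 : Nat.card K = 3) :
    IsSimpleGroup (Cfsg.Lie.G2 K) ∧ ¬ IsMulCommutative (Cfsg.Lie.G2 K) := by
  obtain ⟨e⟩ := Cfsg.Agent.H638.G2Iso.equiv (F := K)
  have hK : ∃ a : K, a ≠ 0 ∧ a ≠ 1 := by
    rcases two_or (F := K) with h2 | hF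
    · omega
    · exact hF
  obtain ⟨hS0, hnc⟩ := Cfsg.Agent.S1055.result hK
  refine ⟨e.isSimpleGroup, ?_⟩
  intro h
  apply hnc
  constructor
  constructor
  intro a b
  have h1 := h.is_comm.comm (e.symm a) (e.symm b)
  apply e.symm.injective
  rw [_root_.MulEquiv.map_mul, _root_.MulEquiv.map_mul, h1]

/-- the fixed points are `G₂` -/
theorem exists_equiv_Fx (hG : _root_.Cfsg.Agent.LieClassical.OrthTrans.Good (plusForm 4 F)) (hcomm : _root_.commutator
    ↥(Cfsg.Lie.G2 ↥(H513.CoreFG.fixF (RingEquiv.refl F))) = ⊤) :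
    Nonempty (↥(Cfsg.Lie.G2 ↥(H513.CoreFG.fixF (RingEquiv.refl F))) ≃* ↥(Fx (rho hG))) := by
  have hHH : H513.CoreFG.HH (RingEquiv.refl F) = ⊤ := by
    have h1 := H513.CoreFG.comm_le_HH hG (RingEquiv.refl F)
    rw [hcomm] at h1
    exact top_le_iff.1 h1
  have hr : (H513.CoreFG.pP (RingEquiv.refl F)).range = Fx (rho hG) := by
    apply le_antisymm
    · rintro _ ⟨g, rfl⟩
      exact (H513.CoreFG.pP_mem hG (RingEquiv.refl F) g).1
    · intro p hp
      refine H513.CoreFG.le_range hG _ hp ?_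
      simp only [H39.Tri3.fG_refl, map_one]
      rfl
  refine ⟨?_⟩
  refine (Subgroup.topEquiv.symm.trans (MulEquiv.subgroupCongr hHH.symm)).trans ?_
  exact (MonoidHom.ofInjective (H513.CoreFG.pP_inj hG (RingEquiv.refl F))).trans (MulEquiv.subgroupCongr hr)

theorem simple_Fx [Finite F] (h3 : Nat.card F = 3) (hG : _root_.Cfsg.Agent.LieClassical.OrthTrans.Good (plusForm 4 F)) :
    IsSimpleGroup ↥(Fx (rho hG)) ∧ ¬ IsMulCommutative ↥(Fx (rho hG)) := by
  have hK : Nat.card ↥(H513.CoreFG.fixF (RingEquiv.refl F)) = 3 := by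
    rw [← h3]
    exact Nat.card_congr ⟨fun a => a.1, fun a => ⟨a, rfl⟩, fun a => rfl, fun a => rfl⟩
  obtain ⟨hS, hnc⟩ := simple_G2 hK
  obtain ⟨e⟩ := exists_equiv_Fx hG (not_comm_commutator hS hnc)
  refine ⟨e.symm.isSimpleGroup, ?_⟩
  intro h
  apply hnc
  constructor
  constructor
  intro a b
  have h1 := h.is_comm.comm (e a) (e b)
  apply e.injective
  simp only [_root_.MulEquiv.map_mul, _root_.MulEquiv.map_mul, h1]

end Simple

variable {F : Type u} [Field F]

/-- octonion automorphisms acting trivially on the fixed points are trivial -/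
theorem eq_one_of_fix [Finite F] (h3 : Nat.card F = 3) (hG : _root_.Cfsg.Agent.LieClassical.OrthTrans.Good (plusForm 4 F)) {τ : G8 F} (hτ : TriS τ τ τ)
    (h : ∀ m ∈ Fx (rho hG), Psi (plusForm 4 F) τ m = m) : τ = 1 := by
  have h2 : ∀ (u w : V8 F) (hs : Sp u w), Psi (plusForm 4 F) τ ((sg hs : ↥(E (plusForm 4 F))) : P8 F) =
      ((sg hs : ↥(E (plusForm 4 F))) : P8 F) := by
    intro u w hs
    exact h _ (H208.SgAut.rho_sg hG hs)
  obtain ⟨c, σ, h4⟩ := H126.TriRigid.rigid hG (fun u w hs _ _ => h2 u w hs)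
  have hk : kp F τ = 1 := (mem_T1_iff hG).1 ⟨τ, τ, hτ⟩
  have h5 : τ = scal (plusForm 4 F) c * fG σ := by
    rcases h4 with h4 | h4
    · exact h4
    · exfalso
      rw [h4, map_mul, map_mul, kp_scal, kp_fG, kp_kapG, one_mul, one_mul] at hk
      exact absurd hk (by decide)
  have hf1 : (fG σ).1 (one8 F) = one8 F := aut_one (tri_fG σ)
  have hc : c = 1 := by
    have h6 := aut_one hτ
    rw [h5] at h6
    change (c : F) • (fG σ).1 (one8 F) = one8 F at h6
    rw [hf1] at h6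
    have h7 := congrFun h6 (.inl 0)
    apply Units.ext
    simpa [one8] using h7
  rw [hc, map_one, one_mul, aut3 h3 σ, H39.Tri3.fG_refl] at h5
  exact h5

/-- the restriction of an automorphism -/
def resA {K : Type*} [Group K] (C : Subgroup K) (φ : MulAut K) (h : ∀ c ∈ C, φ c ∈ C) (h' : ∀ c ∈ C, φ⁻¹ c ∈ C) :
    MulAut ↥C where
  toFun c := ⟨φ c, h c c.2⟩
  invFun c := ⟨φ⁻¹ c, h' c c.2⟩
  left_inv c := Subtype.ext (MulAut.inv_apply_self _ _ _)
  right_inv c := Subtype.ext (MulAut.apply_inv_self _ _ _)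
  map_mul' c d := Subtype.ext (map_mul φ _ _)

theorem resA_coe {K : Type*} [Group K] (C : Subgroup K) (φ : MulAut K) (h : ∀ c ∈ C, φ c ∈ C)
    (h' : ∀ c ∈ C, φ⁻¹ c ∈ C) (c : ↥C) : ((resA C φ h h' c : ↥C) : K) = φ c := rfl

theorem resA_pow {K : Type*} [Group K] (C : Subgroup K) (φ : MulAut K) (h : ∀ c ∈ C, φ c ∈ C)
    (h' : ∀ c ∈ C, φ⁻¹ c ∈ C) (k : ℕ) (c : ↥C) : (((resA C φ h h' ^ k) c : ↥C) : K) = (φ ^ k) c := by
  induction k generalizing c with
  | zero => rfl
  | succ k ih =>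
    rw [pow_succ, pow_succ]
    change (((resA C φ h h' ^ k) (resA C φ h h' c) : ↥C) : K) = (φ ^ k) (φ c)
    rw [ih, resA_coe]

/-- **The induction hypothesis for `G₂(3)`.** -/
theorem case6 {F : Type} [Field F] [Finite F] (h3 : Nat.card F = 3) (hG : _root_.Cfsg.Agent.LieClassical.OrthTrans.Good (plusForm 4 F)) {s : G8 F}
    (hs : TriS s s s) (ho : orderOf s = 6 ∨ orderOf s = 9) (hP : PS 2 (xt hG s)) (hI : IH (Nat.card (P8 F))) :
    False := by
  have hfin : Finite (P8 F) := ClassicalGeometry.OrthAut2b.finite_P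
  obtain ⟨hS, hnc⟩ := simple_Fx h3 hG
  have hPm : ∀ {τ : G8 F}, TriS τ τ τ → ∀ m ∈ Fx (rho hG), Psi (plusForm 4 F) τ m ∈ Fx (rho hG) := by
    intro τ hτ m hm
    rw [mem_Fx] at hm ⊢
    have h1 := congrArg (fun f : MulAut (P8 F) => f m) (rho_comm hG hτ)
    have h2 : rho hG (Psi (plusForm 4 F) τ m) = Psi (plusForm 4 F) τ (rho hG m) := h1
    simp only [h2, hm]
  have hPi : ∀ m ∈ Fx (rho hG), (Psi (plusForm 4 F) s)⁻¹ m ∈ Fx (rho hG) := by
    intro m hm
    have h1 := hPm hs.inv m hm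
    (simp only [map_inv (Psi (plusForm 4 F)) s] at h1; assumption)
  set! y : MulAut ↥(Fx (rho hG)) := resA _ (Psi (plusForm 4 F) s) (hPm hs) hPi with hy
  have hyo : orderOf y = orderOf s := by
    apply orderOf_eq_orderOf_iff.2
    intro n
    constructor
    · intro h1
      refine eq_one_of_fix h3 hG (tri_pow hs n) fun m hm => ?_
      have h2 := congrArg (fun z : MulAut ↥(Fx (rho hG)) => ((z ⟨m, hm⟩ : ↥(Fx (rho hG))) : P8 F)) h1
      beta_reduce at h2
      ((conv at h2 => enter [@2]; rw [resA_pow]))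
      simp only [map_pow (Psi (plusForm 4 F)) s n]
      exact h2
    · intro h1
      ext m
      ((conv => enter [@2]; rw [resA_pow]); simp only [← map_pow (Psi (plusForm 4 F)) s n]; simp only [h1]; simp only [map_one (Psi (plusForm 4 F))])
      rfl
  have hx : ∀ m ∈ Fx (rho hG), xt hG s m ∈ Fx (rho hG) := by
    intro m hm
    have h1 := hPm hs m hm
    have h2 : xt hG s m = Psi (plusForm 4 F) s (rho hG m) := rfl
    (rewrite [h2]; simp only [mem_Fx.1 hm])
    exact h1
  have hPy : PS 2 y := by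
    refine PS.sec hP hx (MonoidHom.id _) Function.surjective_id y fun m => ?_
    apply Subtype.ext
    change xt hG s (m : P8 F) = Psi (plusForm 4 F) s (m : P8 F)
    have h2 : xt hG s (m : P8 F) = Psi (plusForm 4 F) s (rho hG (m : P8 F)) := rfl
    (rewrite [h2]; simp only [mem_Fx.1 m.2])
  refine hI ↥(Fx (rho hG)) hnc ?_ y (by rw [hyo]; exact ho) hPy
  -- the order
  have hM : Fx (rho hG) ≠ ⊤ := by
    intro h1
    apply rho_not_mem hG
    have h2 : rho hG = 1 := by
      ext m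
      exact (mem_Fx (x := rho hG)).1 (by rw [h1]; trivial)
    simp only [h2]
    exact one_mem _
  by_contra hcon
  push Not at hcon
  exact hM (Subgroup.eq_top_of_le_card _ hcon)

end Cfsg.Agent.H281.SN
end

-- part: H281/SN/Tri6
section
/-!
# `PΩ₈⁺(3)`: triality automorphisms of order six (helper281, for S3831)

* `exists_nil` : an octonion automorphism of order two fixes `n ≠ 0` with `n ^ 2 = 0`;
* `conj_rhoA` : `Ψ(L_a) ρ Ψ(L_a)⁻¹ = Ψ(f) ρ`, `a = 1 + n`;
* `tri6` : `x` of order six with `x ^ 2 ∉ Ψ(Γ)` and `PS 2 x` contradict `IH`;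
* `r69_tri6` : the version for a group isomorphic to `P8 F`.
-/

set_option autoImplicit false
set_option linter.unusedVariables false
set_option linter.unusedSectionVars false

namespace Cfsg.Agent.H281.SN

open Module QuadraticMap Cfsg.Agent.LieClassical.OrthCore Cfsg.Agent.LieClassical.OrthTrans
  Cfsg.Agent.LieClassical.OrthSimple Cfsg.Agent.ClassicalGeometry.OrthAut1
  Cfsg.Agent.ClassicalGeometry.OrthSemi Cfsg.Agent.H198.Classes
  Cfsg.Agent.LieClassical.QuadForms Cfsg.Agent.H198.ClassesPlus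
  Cfsg.Agent.ClassicalGeometry.TrialityOct Cfsg.Agent.ClassicalGeometry.Triality
  Cfsg.Agent.ClassicalGeometry.TrialitySpaces Cfsg.Agent.H198.TriBase Cfsg.Agent.H198.TriAut
  Cfsg.Agent.H206.Balance Cfsg.Agent.H198.BalVar Cfsg.Agent.H198.TriDia Cfsg.Agent.H198.TriSpec
  Cfsg.Agent.H198.TwComp Cfsg.Agent.LieClassical.OrthFinite
  Cfsg.Agent.H198.TriTC Cfsg.Agent.H198.TriCls Cfsg.Agent.H459.Rad Cfsg.Agent.H21.SN

universe u

variable {F : Type u} [Field F]

/-- the para-octonion product -/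
theorem tc_one [Finite F] (h3 : Nat.card F = 3) :
    ∃ k : F, k ≠ 0 ∧ TC (k • plusForm 4 F) (RingEquiv.refl F) (mo (1 : G8 F) 1) := by
  obtain ⟨σ, k, hs⟩ := (1 : G8 F).2
  obtain rfl := aut3 h3 σ
  refine tc (M := (1 : G8 F)) (M₁ := 1) (M₂ := 1) (c₀ := 1) TriS.one (fun v => ?_) hs
  rw [Units.val_one, one_smul]
  change oconj (oconj v) = v
  exact oconj_oconj v

/-- **A fixed nilpotent octonion.** -/
theorem exists_nil [Finite F] (h3 : Nat.card F = 3) {s : G8 F} (hs : TriS s s s) (h2 : s ^ 2 = 1) :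
    ∃ n : V8 F, n ≠ 0 ∧ s.1 n = n ∧ plusForm 4 F n = 0 ∧ polar (plusForm 4 F) n (one8 F) = 0 := by
  obtain ⟨σ, l, hl⟩ := s.2
  obtain rfl := aut3 h3 σ
  obtain rfl := aut_mult hs hl
  obtain ⟨k, hk, hTC⟩ := tc_one (F := F) h3
  let T : V8 F →ₗ[F] V8 F :=
    { toFun := s.1
      map_add' := hl.add
      map_smul' := hl.smul }
  have hnd : Nondeg (k • plusForm 4 F) := by
    intro x hx
    apply ClassicalGeometry.Triality.nondeg8 x
    intro y
    have h1 := hx y
    have h2 : polar (⇑(k • plusForm 4 F)) x y = k * polar (plusForm 4 F) x y := by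
      change k * plusForm 4 F (x + y) - k * plusForm 4 F x - k * plusForm 4 F y =
        k * (plusForm 4 F (x + y) - plusForm 4 F x - plusForm 4 F y)
      ring
    rw [h2] at h1
    exact (mul_eq_zero.1 h1).resolve_left hk
  have hT2 : ∀ v, T (T v) = v := by
    intro v
    have h4 : (s ^ 2).1 v = v := by rw [h2]; rfl
    rw [pow_two] at h4
    exact h4
  have hQ : ∀ v, plusForm 4 F (s.1 v) = plusForm 4 F v := by
    intro v
    rw [hl.form, one_mul]
    rfl
  have hTQ : ∀ v, (k • plusForm 4 F) (T v) = (k • plusForm 4 F) v := by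
    intro v
    change k * plusForm 4 F (s.1 v) = k * plusForm 4 F v
    rw [hQ]
  have hTm : ∀ u w, T (mo (1 : G8 F) 1 u w) = mo (1 : G8 F) 1 (T u) (T w) := by
    intro u w
    change s.1 (omul (oconj u) (oconj w)) = omul (oconj (s.1 u)) (oconj (s.1 w))
    rw [hs, aut_oconj hs, aut_oconj hs]
  have h8 : finrank F (V8 F) = 8 := by
    rw [Module.finrank_fintype_fun_eq_card, Fintype.card_sum, Fintype.card_fin]
  have h4 := finrank_fix (two_ne h3) hT2 hTQ hTC hnd hTm
  rw [h8] at h4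
  -- the orthogonal space of the unit
  let φ : V8 F →ₗ[F] F :=
    { toFun := fun v => polar (plusForm 4 F) v (one8 F)
      map_add' := fun a b => polar_add_left _ _ _ _
      map_smul' := fun c a => polar_smul_left _ _ _ _ }
  have h5 : 7 ≤ finrank F (LinearMap.ker φ) := by
    have h6 := φ.finrank_range_add_finrank_ker
    have h7 : finrank F (LinearMap.range φ) ≤ 1 := by
      have := Submodule.finrank_le (LinearMap.range φ)
      rwa [Module.finrank_self] at this
    omega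
  have h6 := Submodule.finrank_sup_add_finrank_inf_eq (fixS T) (LinearMap.ker φ)
  have h7 : finrank F ↥(fixS T ⊔ LinearMap.ker φ) ≤ 8 := by
    rw [← h8]
    exact Submodule.finrank_le _
  have h9 : 3 ≤ finrank F ↥(fixS T ⊓ LinearMap.ker φ) := by
    have h10 : finrank F ↥(fixS T ⊔ LinearMap.ker φ) + finrank F ↥(fixS T ⊓ LinearMap.ker φ) =
      finrank F ↥(fixS T) + finrank F ↥(LinearMap.ker φ) := h6
    omega
  obtain ⟨n, hn, hn0, hnQ⟩ := exists_sing_mem (Q := plusForm 4 F) (fixS T ⊓ LinearMap.ker φ) h9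
  obtain ⟨hn1, hn2⟩ := Submodule.mem_inf.1 hn
  exact ⟨n, hn0, mem_fixS.1 hn1, hnQ, LinearMap.mem_ker.1 hn2⟩

/-! ### The element `a = 1 + n` -/

section ElA

variable {a : V8 F} (hQ : plusForm 4 F a = 1) (ht : oconj a = -one8 F - a)

theorem flex (a y : V8 F) : omul (omul a y) a = omul a (omul y a) := by
  have h := moufang a (one8 F) y
  rwa [one_omul, omul_one] at h

theorem omul_neg (x y : V8 F) : omul x (-y) = -omul x y := by
  have := omul_smul (-1 : F) x y
  rwa [neg_one_smul, neg_one_smul] at this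

theorem neg_omul (x y : V8 F) : omul (-x) y = -omul x y := by
  have := smul_omul (-1 : F) x y
  rwa [neg_one_smul, neg_one_smul] at this

include hQ ht in
theorem aaw (w : V8 F) : omul a (omul a w) = -omul a w - w := by
  have h := omul_oconj_omul a w
  rw [hQ, one_smul, ht, sub_eq_add_neg, add_omul, neg_omul, one_omul, neg_omul, omul_add, omul_neg, omul_neg] at h
  have h1 : omul a (omul a w) = -omul a w - (-omul a w + -omul a (omul a w)) := by abel
  rw [h1, h]

include hQ ht in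
theorem aaaw (w : V8 F) : omul a (omul a (omul a w)) = w := by
  rw [aaw hQ ht (omul a w), aaw hQ ht w]
  abel

theorem gen_B' {G : Type u} [Group G] {r n c : G} (h : r * n * r⁻¹ = c) : n * r * n⁻¹ = n * c⁻¹ * r := by
  rw [← h]
  group

variable (hne : plusForm 4 F a ≠ 0)

seal omul in
theorem baA_laA : bG a hne * lG a hne = lG a hne * bG a hne := by
  apply Subtype.ext
  ext1 x
  change omul (omul a (omul a x)) a = omul a (omul (omul a x) a)
  exact flex a (omul a x)

seal omul in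
include hQ ht in
theorem thirdA : (lG a hne)⁻¹ * rG a hne = lG a hne * bG a hne := by
  rw [inv_mul_eq_iff_eq_mul]
  apply Subtype.ext
  ext1 x
  change omul x a = omul a (omul a (omul (omul a x) a))
  rw [flex, aaaw hQ ht]

include hQ ht in
theorem tri_laA_baA : TriS (lG a hne * bG a hne) (lG a hne * bG a hne) (lG a hne * bG a hne) := by
  have h := (tri_lG a hne).mul (tri_bG a hne)
  rwa [baA_laA hne, thirdA hQ ht hne] at h

seal omul oconj in
include hQ in
theorem kap_baA : (kapG F * bG a hne * kapG F)⁻¹ = bG a hne := by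
  rw [inv_eq_iff_mul_eq_one]
  apply Subtype.ext
  ext1 x
  change oconj (omul (omul a (oconj (omul (omul a x) a))) a) = x
  rw [oconj_omul, oconj_omul, oconj_oconj, omul_omul_oconj, hQ, one_smul, oconj_omul_omul, hQ, one_smul]

include hQ ht in
theorem conj_rhoA (hG : _root_.Cfsg.Agent.LieClassical.OrthTrans.Good (plusForm 4 F)) :
    Psi (plusForm 4 F) (lG a hne) * rho hG * (Psi (plusForm 4 F) (lG a hne))⁻¹ = xt hG (lG a hne * bG a hne) := by
  have h := rho_conj hG (tri_lG a hne)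
  have h1 : rho hG * Psi (plusForm 4 F) (lG a hne) * (rho hG)⁻¹ =
      Psi (plusForm 4 F) (kapG F * bG a hne * kapG F) := h
  rw [gen_B' h1, ← map_inv (Psi (plusForm 4 F)), kap_baA hQ, ← map_mul (Psi (plusForm 4 F))]
  rfl

include hQ ht in
theorem pow3A (hG : _root_.Cfsg.Agent.LieClassical.OrthTrans.Good (plusForm 4 F)) : (lG a hne * bG a hne) ^ 3 = 1 := by
  refine pow_three_of hG (tri_laA_baA hQ ht hne) ?_
  have h := conj_rhoA hQ ht hne hG
  exact gen_cj3 h (rho_pow_three hG)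

end ElA

theorem gen_conj {G : Type u} [Group G] {l s r f : G} (h1 : l * s = s * l) (h2 : l * r * l⁻¹ = f * r) :
    l * (s * r) * l⁻¹ = s * f * r := by
  rw [← mul_assoc l s r, h1, mul_assoc s l r, mul_assoc s (l * r), h2, mul_assoc]

theorem gen_pw {G : Type u} [Group G] {s f : G} (h : s * f = f * s) (hs2 : s ^ 2 = 1) (hf3 : f ^ 3 = 1) :
    (s * f) ^ 2 = f ^ 2 ∧ (s * f) ^ 3 = s ∧ (s * f) ^ 6 = 1 := by
  have hc : Commute s f := h
  have h3 : s ^ 3 = s := by rw [pow_succ, hs2, one_mul]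
  refine ⟨by rw [hc.mul_pow, hs2, one_mul], by rw [hc.mul_pow, hf3, mul_one, h3], ?_⟩
  have e : (s * f) ^ 6 = ((s * f) ^ 3) ^ 2 := by rw [← pow_mul]
  rw [e, hc.mul_pow, hf3, mul_one, h3, hs2]

theorem gen_o6 {G : Type*} [Group G] {s : G} (h6 : s ^ 6 = 1) (h2 : s ^ 2 ≠ 1) (h3 : s ^ 3 ≠ 1) : orderOf s = 6 := by
  have hd := orderOf_dvd_of_pow_eq_one h6
  have hn2 : ¬ orderOf s ∣ 2 := fun h => h2 (orderOf_dvd_iff_pow_eq_one.1 h)
  have hn3 : ¬ orderOf s ∣ 3 := fun h => h3 (orderOf_dvd_iff_pow_eq_one.1 h)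
  have hle := Nat.le_of_dvd (by norm_num) hd
  interval_cases h : orderOf s <;> simp_all only [_root_.ne_eq, _root_.orderOf_eq_zero_iff, _root_.zero_dvd_iff, _root_.OfNat.ofNat_ne_zero, _root_.orderOf_eq_one_iff, _root_.isUnit_iff_eq_one, _root_.IsUnit.dvd, _root_.not_true_eq_false, _root_.Nat.reduceDvd, _root_.dvd_refl, _root_.not_false_eq_true, _root_.Std.le_refl]

theorem three_eq {F : Type*} [Field F] [Finite F] (h3 : Nat.card F = 3) : (3 : F) = 0 := by
  have : Fintype F := Fintype.ofFinite F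
  obtain ⟨p, hp⟩ := CharP.exists F
  obtain ⟨k, hpp, hk⟩ := FiniteField.card F p
  rw [← Nat.card_eq_fintype_card, h3] at hk
  have h2 : p ∣ 3 := by rw [hk]; exact dvd_pow_self p k.ne_zero
  have h4 := (Nat.prime_dvd_prime_iff_eq hpp Nat.prime_three).1 h2
  rw [h4] at hp
  exact_mod_cast CharP.cast_eq_zero F 3

theorem polar_one_one : polar (plusForm 4 F) (one8 F) (one8 F) = 2 := by
  rw [polar8]
  simp [one8]
  norm_num

seal omul in
/-- the conjugating element -/
theorem exists_f [Finite F] (h3 : Nat.card F = 3) (hG : _root_.Cfsg.Agent.LieClassical.OrthTrans.Good (plusForm 4 F)) {s : G8 F} (hs : TriS s s s)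
    (hs2 : s ^ 2 = 1) : ∃ g f : G8 F, TriS f f f ∧ f ^ 3 = 1 ∧ f ≠ 1 ∧ s * f = f * s ∧ g * s = s * g ∧
      Psi (plusForm 4 F) g * rho hG * (Psi (plusForm 4 F) g)⁻¹ = xt hG f := by
  (have h_ob := exists_nil h3 hs hs2
   revert h_ob; rintro (⟨n, hn0, hsn, hnQ, hn1⟩))
  -- `a = 1 + n`
  have hc3 : (3 : F) = 0 := three_eq h3
  (have h_ob : ∃ a : V8 F, a = one8 F + n := ⟨_, rfl⟩
   revert h_ob; rintro (⟨a, ha⟩))
  have hQ : plusForm 4 F a = 1 := by
    rw [ha, Q_add, norm_one8, hnQ, polar_comm, hn1]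
    ring
  have ht : oconj a = -one8 F - a := by
    rw [oconj_eq, ha, polar_add_left, hn1, add_zero]
    have h8 : (2 : F) = -1 := by linear_combination hc3
    rw [polar_one_one, h8, neg_one_smul]
  have hne : plusForm 4 F a ≠ 0 := by rw [hQ]; exact one_ne_zero
  have hsa : s.1 a = a := by
    obtain ⟨σ, l, hl⟩ := s.2
    rw [ha, hl.add, aut_one hs, hsn]
  refine ⟨lG a hne, lG a hne * bG a hne, tri_laA_baA hQ ht hne, pow3A hQ ht hne hG, ?_, ?_, ?_,
    conj_rhoA hQ ht hne hG⟩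
  · intro h
    have h7 : ∀ y, omul a y = omul y a := by
      intro y
      have h8 := thirdA hQ ht hne
      rw [h, inv_mul_eq_iff_eq_mul, mul_one] at h8
      have h9 := congrArg (fun g : G8 F => g.1 y) h8
      exact h9.symm
    have h8 := scalar_of_comm h7
    have h9 : n = (a (.inl 0) - 1) • one8 F := by
      rw [sub_smul, one_smul, ← h8, ha]
      abel
    have h10 : (a (.inl 0) - 1) * 2 = 0 := by
      have h11 := hn1
      rw [h9, polar_smul_left, polar_one_one] at h11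
      exact h11
    have h13 := (mul_eq_zero.1 h10).resolve_right (two_ne h3)
    rw [h13, zero_smul] at h9
    exact hn0 h9
  · apply Subtype.ext
    ext1 v
    change s.1 (omul a (omul (omul a v) a)) = omul a (omul (omul a (s.1 v)) a)
    rw [hs, hs, hs, hsa]
  · apply Subtype.ext
    ext1 v
    change omul a (s.1 v) = s.1 (omul a v)
    rw [hs, hsa]

theorem gen_c {G H : Type*} [Group G] [Group H] (p : G →* H) {g s : G} (h : g * s = s * g) :
    p g * p s = p s * p g := by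
  rw [← map_mul, h, map_mul]

set_option maxHeartbeats 1000000 in
/-- octonion automorphisms of order two -/
theorem case2 {F : Type} [Field F] [Finite F] (h3 : Nat.card F = 3) (hG : _root_.Cfsg.Agent.LieClassical.OrthTrans.Good (plusForm 4 F)) {s : G8 F}
    (hs : TriS s s s) (hs2 : s ^ 2 = 1) (hs1 : s ≠ 1) (hP : PS 2 (xt hG s)) (hI : IH (Nat.card (P8 F))) : False := by
  obtain ⟨g, f, hfT, hf3, hf1, hsf, hgs, hcr⟩ := exists_f h3 hG hs hs2
  obtain ⟨hp2, hp3, hp6⟩ := gen_pw hsf hs2 hf3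
  have hf2 : f ^ 2 ≠ 1 := by
    intro h
    apply hf1
    have h7 : f ^ 3 = f := by rw [pow_succ, h, one_mul]
    rw [← h7, hf3]
  have ho6 : orderOf (s * f) = 6 := gen_o6 hp6 (by rw [hp2]; exact hf2) (by rw [hp3]; exact hs1)
  have hcj : Psi (plusForm 4 F) g * xt hG s * (Psi (plusForm 4 F) g)⁻¹ = xt hG (s * f) := by
    have h9 := gen_conj (gen_c (Psi (plusForm 4 F)) hgs) hcr
    have h10 : Psi (plusForm 4 F) (s * f) = Psi (plusForm 4 F) s * Psi (plusForm 4 F) f :=
      map_mul (Psi (plusForm 4 F)) s f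
    unfold xt
    simp only [h10]
    exact h9
  have hP' : PS 2 (xt hG (s * f)) := by
    have h11 := hP.tr (Psi (plusForm 4 F) g)
    have h12 : H459.Rad.tr (Psi (plusForm 4 F) g) (xt hG s) =
      Psi (plusForm 4 F) g * xt hG s * (Psi (plusForm 4 F) g)⁻¹ := rfl
    rwa [h12, hcj] at h11
  exact case6 h3 hG (hs.mul hfT) (Or.inl ho6) hP' hI

theorem gen_key {G : Type*} [Group G] {a x z : G} {k : ℕ} (h : a * x * a⁻¹ = z) : z ^ k = a * x ^ k * a⁻¹ := by
  rw [← h, conj_pow]

theorem gen_key1 {G : Type*} [Group G] {a x : G} (h : a * x * a⁻¹ = 1) : x = 1 := by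
  have h8 : x = a⁻¹ * (a * x * a⁻¹) * a := by group
  rw [h8, h]
  group

theorem ps_cj {K : Type*} [Group K] [Finite K] {a x z : MulAut K} (hP : PS 2 x) (h : a * x * a⁻¹ = z) : PS 2 z := by
  rw [← h]
  exact hP.tr a

/-- **No triality automorphism of order six has `PS 2`.** -/
theorem tri6 {F : Type} [Field F] [Finite F] (h3 : Nat.card F = 3) (hG : _root_.Cfsg.Agent.LieClassical.OrthTrans.Good (plusForm 4 F)) {x : MulAut (P8 F)}
    (hx : x ^ 2 ∉ (Psi (plusForm 4 F)).range) (ho : orderOf x = 6) (hP : PS 2 x) (hI : IH (Nat.card (P8 F))) :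
    False := by
  have hfin : Finite (P8 F) := ClassicalGeometry.OrthAut2b.finite_P
  have h6 : x ^ 6 = 1 := by simp only [← ho]; exact pow_orderOf_eq_one x
  have hx3 : x ^ 3 ≠ 1 := by
    intro h
    have := orderOf_dvd_of_pow_eq_one h
    rw [ho] at this
    omega
  obtain ⟨α, s, hs, hα⟩ := normal6 h3 hG hx h6
  -- `PS 2` and the powers of `xt hG s`
  have key : ∃ y : MulAut (P8 F), PS 2 y ∧ y ^ 6 = 1 ∧ y ^ 3 ≠ 1 ∧ α * y * α⁻¹ = xt hG s := by
    rcases hα with h | h
    · exact ⟨x, hP, h6, hx3, h⟩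
    · have hinv : x⁻¹ = x ^ 5 := by
        simp only [inv_eq_iff_mul_eq_one, ← pow_succ', h6]
      refine ⟨x⁻¹, by rw [hinv]; exact PS.pow hP 5, by simp only [inv_pow, h6, inv_one], ?_, h⟩
      intro h7
      rw [inv_pow, inv_eq_one] at h7
      exact hx3 h7
  obtain ⟨y, hPy, hy6, hy3, hy⟩ := key
  have hPs : PS 2 (xt hG s) := ps_cj hPy hy
  have hx6 : xt hG s ^ 6 = 1 := by ((conv => enter [@2]; rw [gen_key hy]); simp only [hy6]; simp only [mul_one]; simp only [mul_inv_cancel])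
  have hx3' : xt hG s ^ 3 ≠ 1 := by
    intro h7
    rw [gen_key hy] at h7
    exact hy3 (gen_key1 h7)
  have hr6 : rho hG ^ 6 = 1 := by
    have e : rho hG ^ 6 = (rho hG ^ 3) ^ 2 := by rw [← pow_mul]
    simp only [e, rho_pow_three, one_pow]
  have hs6 : s ^ 6 = 1 := by
    refine eq_one_of_Psi hG (tri_pow hs 6) ?_
    ((conv at hx6 => enter [@2]; rw [xt_pow hG hs]); simp only [hr6] at hx6; simp only [mul_one] at hx6)
    exact hx6
  have hs3 : s ^ 3 ≠ 1 := by
    intro h
    apply hx3'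
    ((conv => enter [@2]; rw [xt_pow hG hs]); simp only [h]; simp only [rho_pow_three]; simp only [map_one (Psi (plusForm 4 F))]; simp only [mul_one])
  by_cases hs2 : s ^ 2 = 1
  · refine case2 h3 hG hs hs2 ?_ hPs hI
    intro h
    apply hs3
    rw [h, one_pow]
  · exact case6 h3 hG hs (Or.inl (gen_o6 hs6 hs2 hs3)) hPs hI

/-- **The version for a group isomorphic to `P8 F`.** -/
theorem r69_tri6 {K : Type} [Group K] [Finite K] {F : Type} [Field F] [Finite F] (h3 : Nat.card F = 3)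
    (e : K ≃* P8 F) {x : MulAut K} (hx : H459.Rad.tr e x ^ 2 ∉ (Psi (plusForm 4 F)).range) (ho : orderOf x = 6)
    (hP : PS 2 x) (hI : IH (Nat.card K)) : False := by
  have hG : _root_.Cfsg.Agent.LieClassical.OrthTrans.Good (plusForm 4 F) := AutOrth.Main.good_plus (by norm_num)
  have hfin : Finite (P8 F) := ClassicalGeometry.OrthAut2b.finite_P
  refine tri6 h3 hG hx (by rw [orderOf_tr]; exact ho) (hP.tr e) ?_
  rwa [← Nat.card_congr e.toEquiv]

end Cfsg.Agent.H281.SN
end

-- part: H234/SN/PlusFour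
section
/-!
# The row `PΩ₈⁺(3)` of S3831 (helper234; order six of triality type: helper281)
-/

set_option autoImplicit false

namespace Cfsg.Agent.H234.SN

open QuadraticMap Module
open Cfsg.Agent.LieClassical.OrthForms Cfsg.Agent.ClassicalGeometry.OrthAut1
  Cfsg.Agent.ClassicalGeometry.OrthSemi Cfsg.Agent.ClassicalGeometry.OrthSemiForms
open Cfsg.Agent.H459.Rad Cfsg.Agent.H21.SN
open Cfsg.Agent.H198.TriAut (P8)

/-- a subgroup of index three: if `x ^ 2` lies in it then a conjugate of `x` does -/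
theorem exists_conj_mem {G : Type*} [Group G] {H : Subgroup G} (h3 : H.index = 3) {x : G} (hx : x ^ 2 ∈ H) :
    ∃ a : G, a * x * a⁻¹ ∈ H := by
  classical
  by_contra hcon
  push Not at hcon
  have hq : Nat.card (G ⧸ H) = 3 := h3
  have : Finite (G ⧸ H) := Nat.finite_of_card_ne_zero (by rw [hq]; norm_num)
  let _ : Fintype (G ⧸ H) := Fintype.ofFinite _
  have hfix : ∀ c : G ⧸ H, x • c ≠ c := by
    intro c hc
    obtain ⟨a, rfl⟩ := QuotientGroup.mk_surjective c
    have h1 : ((x * a : G) : G ⧸ H) = (a : G ⧸ H) := hc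
    have h2 := QuotientGroup.eq.1 h1.symm
    apply hcon a⁻¹
    rw [inv_inv, mul_assoc]
    exact h2
  have h2 : x • x • ((1 : G) : G ⧸ H) = ((1 : G) : G ⧸ H) := by
    rw [smul_smul, ← pow_two]
    change ((x ^ 2 * 1 : G) : G ⧸ H) = _
    rw [mul_one]
    exact (QuotientGroup.eq.2 (by rw [inv_one, one_mul]; exact hx)).symm
  set c₀ : G ⧸ H := ((1 : G) : G ⧸ H) with hc₀
  -- a third point
  obtain ⟨d, hd⟩ : ∃ d : G ⧸ H, d ∉ ({c₀, x • c₀} : Finset (G ⧸ H)) := by
    by_contra hall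
    push Not at hall
    have h4 : Fintype.card (G ⧸ H) ≤ 2 := by
      rw [← Finset.card_univ]
      refine (Finset.card_le_card fun y _ => hall y).trans Finset.card_le_two
    rw [← Nat.card_eq_fintype_card, hq] at h4
    omega
  simp only [Finset.mem_insert, Finset.mem_singleton, not_or] at hd
  have h5 : x • d ∈ ({c₀, x • c₀, d} : Finset (G ⧸ H)) := by
    by_contra h6
    have h7 : ({x • d, c₀, x • c₀, d} : Finset (G ⧸ H)).card = 4 := by
      simp only [Finset.mem_insert, Finset.mem_singleton, not_or] at h6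
      rw [Finset.card_insert_of_notMem (by simp [h6.1, h6.2.1, h6.2.2]),
        Finset.card_insert_of_notMem (by simp [(hfix c₀).symm, (Ne.symm hd.1)]),
        Finset.card_insert_of_notMem (by simp [Ne.symm hd.2]), Finset.card_singleton]
    have h8 := Finset.card_le_univ ({x • d, c₀, x • c₀, d} : Finset (G ⧸ H))
    rw [h7, ← Nat.card_eq_fintype_card, hq] at h8
    omega
  simp only [Finset.mem_insert, Finset.mem_singleton] at h5
  rcases h5 with h5 | h5 | h5
  · apply hd.2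
    have h6 : x • d = x • x • c₀ := by rw [h5, h2]
    exact smul_left_cancel x h6
  · exact hd.1 (smul_left_cancel x h5)
  · exact hfix d h5

/-- **`PΩ₈⁺(3)`** -/
theorem r69_plus_four {K : Type} [Group K] [Finite K] {F : Type} [Field F] [Fintype F]
    (hF : Fintype.card F = 3) (e : Nonempty (K ≃* Cfsg.POmega F (Cfsg.quadFormPlus 4 F))) : R69 K := by
  have := charP_three hF
  have h3 : Nat.card F = 3 := by rw [Nat.card_eq_fintype_card, hF]
  rw [← coe_plusForm] at e
  obtain ⟨e⟩ := e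
  have hG : Cfsg.Agent.LieClassical.OrthTrans.Good (plusForm 4 F) :=
    Cfsg.Agent.KFacts.SLRow.OmegaPlus.good_plus 4 F (by norm_num)
  have e1 : K ≃* P (plusForm 4 F) := e.trans (pomegaEquiv hG)
  have hfinP : Finite (P (plusForm 4 F)) := ClassicalGeometry.OrthAut2b.finite_P
  rintro x (ho | ho) hP hR hI
  · by_cases hx : H459.Rad.tr e1 x ^ 2 ∈ (Psi (plusForm 4 F)).range
    · exact no69_plus_four hF (exists_conj_mem AutOrth.Final.index_plus_four hx)
        (Or.inl (by rw [orderOf_tr, ho])) (hP.tr e1)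
    · have key : ∀ Q' : QuadraticForm F (Fin 4 ⊕ Fin 4 → F), plusForm 4 F = Q' → ∃ e2 : K ≃* P Q',
          H459.Rad.tr e2 x ^ 2 ∉ (Psi Q').range := by
        rintro Q' rfl
        exact ⟨e1, hx⟩
      obtain ⟨e2, h2⟩ := key _ (AutOrth.Main.plusForm_eq 4)
      exact H281.SN.r69_tri6 h3 e2 h2 ho hP hI
  · have key : ∀ Q' : QuadraticForm F (Fin 4 ⊕ Fin 4 → F), plusForm 4 F = Q' → Nonempty (K ≃* P Q') := by
      rintro Q' rfl
      exact ⟨e1⟩
    obtain ⟨e2⟩ := key _ (AutOrth.Main.plusForm_eq 4)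
    exact r9_plus_four h3 e2 ho hP

end Cfsg.Agent.H234.SN
end

private theorem dce_09b8028998f8 : _root_.True := by
  try have : _root_.True := by simp only [_root_.Cfsg.Agent.H234.SN.xo.eq_1]
  try have : _root_.True := by simp only [_root_.Cfsg.Agent.TitsThree.SiegelGen.WFrame.mk.congr_simp]
  try have : _root_.True := by simp only [_root_.Cfsg.Agent.H281.SN.fixS.eq_1]
  try have : _root_.True := by simp only [_root_.Cfsg.Agent.H281.SN.negS.eq_1]
  try have : _root_.True := by simp only [_root_.Cfsg.Agent.Nodes.WittInst.wplus.eq_1]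
  exact _root_.True.intro
end

-- part: H21/SN/RowsUni
section
prune_inst 0x30100540002210000000050010001c2282000000000808000080000004800c0000000020a0200000100800040030004001000080020000000a200000011c00800000800000000000000000000000000000000000000000000000000000010004000000000
set_option linter.all false
open scoped Cfsg.Agent.FastGrp

-- part: H115/SN/PSU3
section
/-!
# S3831, row B4: `PSU_3(q)` (helper115)

Elements of order three of `PSU_3(q)`, `q ≥ 4`, with two solvable conjugates; follows the rows of S3854/S3832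
(`H724.UThree`, `H223.R3`), with `RN` for `RC`: the invariant subgroups used there are `SU_2(q)` and images of
`SL_2(q)`, which have abelian Sylow `3`-subgroups.
-/

set_option autoImplicit false
set_option linter.unusedSectionVars false
set_option linter.unusedFintypeInType false
set_option linter.unusedDecidableInType false

namespace Cfsg.Agent.H115.SN

open Subgroup Cfsg Cfsg.Agent.H459.Rad Cfsg.Agent.H459.Iface Matrix
open Cfsg.Agent.LieClassical.HermBasic Cfsg.Agent.LieClassical.HermSiegel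
open Cfsg.Agent.LieClassical.GUOrder (ext1 ext1_isom det_ext1 eq_ext1_of_fix submatrix_isom)
open Cfsg.Agent.ClassicalGeometry.PSUAutCount (gm semiConj toAut gm_mul gm_one gm_mul_inv gm_inv_mul eq_of_toAut_eq
  sc gm_sc_mul toAut_sc_mul herm_gm act_semiConj herm_semi gm_mulVec_inv gm_inv_mulVec gm_inj guConjFun act_guConjFun)
open Cfsg.Agent.ClassicalGeometry.UnitAutBasic (pr pr_surjective exists_scalar_of_mem_center exists_ne_zero_orth)
open Cfsg.Agent.Schreier.PSU (f₁ f₂ toAut_eq mapGU conj_field toAut_pr' gm_mapGU act_semiConj_one')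
open Cfsg.Agent.CpAutU.Desc (toAut_mul toAut_one mapGU_one exists_conj exists_scalar)
open Cfsg.Agent.CpAutU.Fld (exists_s' pow_card)
open Cfsg.Agent.CpAut.Psl (fixf mem_fixf)
open Cfsg.Agent.H724.UThree Cfsg.Agent.H223.R3 Cfsg.Agent.H21.SN
open Cfsg.Agent.H959.Rad3 (Inv inv_of_ps)
open Cfsg.Agent

/-- conjugates -/
theorem RN_conj {K : Type*} [Group K] [Finite K] {x : MulAut K} (a : MulAut K) (h : RN x) : RN (a * x * a⁻¹) := by
  have h1 := h.tr a
  have h2 : H459.Rad.tr a x = a * x * a⁻¹ := by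
    ext k
    rfl
  rwa [h2] at h1

theorem rn_center {S K : Type*} [Group S] [Group K] [Finite K] (hS : IsQuasisimple S) (hN : NoS3 S) (φ : S →* K)
    (s : S) (hR : RN (MulAut.conj (φ s))) : φ s = 1 ∨ s ∈ center S := by
  by_cases h1 : φ s = 1
  · exact Or.inl h1
  right
  have hnt : Nontrivial φ.range := ⟨⟨⟨φ s, ⟨s, rfl⟩⟩, 1, fun h => h1 (congrArg Subtype.val h)⟩⟩
  have hq : IsQuasisimple φ.range := CpQuot.Quo.quasisimple hS φ.rangeRestrict φ.rangeRestrict_surjective
  have hx : ∀ m ∈ φ.range, MulAut.conj (φ s) m ∈ φ.range := by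
    rintro _ ⟨t, rfl⟩
    exact ⟨s * t * s⁻¹, by rw [MulAut.conj_apply, map_mul, map_mul, map_inv]⟩
  rw [← CpQuot.Quo.mem_center_iff' hS φ.rangeRestrict φ.rangeRestrict_surjective, mem_center_iff]
  rintro ⟨m, hm⟩
  have h2 := hR.eq_of_quasisimple (hN.of_surjective _ φ.rangeRestrict_surjective) hx hq hm
  rw [MulAut.conj_apply, mul_inv_eq_iff_eq_mul] at h2
  exact Subtype.ext h2.symm

variable {F : Type*} [Field F] [Fintype F] {q : ℕ}

local notation "hh" => hermForm 3 F q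

theorem noS3_su_two (hF : Fintype.card F = q ^ 2) : NoS3 (SU 2 F q) := by
  obtain ⟨K, _, _, hK⟩ := exists_field hF
  obtain ⟨e⟩ := Cfsg.Agent.S0281.result hF hK
  exact (noS3_sl2 K).congr e.symm

theorem noS3_MM (hF : Fintype.card F = q ^ 2) : NoS3 (MM F q) :=
  (noS3_su_two hF).of_surjective _ ((pr 3 F q).comp (blk F q)).rangeRestrict_surjective

/-- **The main lemma.** -/
theorem blk_fixed (hF : Fintype.card F = q ^ 2) (hq : 4 ≤ q) {A : GU 3 F q} {ρ : F ≃+* F}
    (hA : gm A *ᵥ e0 F = e0 F) (hR : RN (toAut A ρ)) (B : SU 2 F q) :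
    gm A * (ext1 1 (mat B)).map ρ = ext1 1 (mat B) * gm A := by
  have hAi : gm A⁻¹ *ᵥ e0 F = e0 F := by
    conv_lhs => rw [← hA]
    rw [gm_inv_mulVec]
  have hρ : (fun i => ρ ((e0 F) i)) = e0 F := by
    funext i
    (revert i; simp only [e0, _root_.Fin.forall_fin_succ, Fin.isValue, _root_.Pi.single_eq_same, _root_.map_one, _root_.ne_eq, _root_.Fin.succ_ne_zero, _root_.not_false_eq_true, _root_.Pi.single_eq_of_ne, _root_.map_zero, _root_.implies_true, _root_.and_self])
  have hfix : ∀ B : SU 2 F q, act (semiConj A ρ (blk F q B)) (e0 F) = e0 F := by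
    intro B
    have h1 := act_semiConj A ρ (blk F q B) (e0 F)
    rw [hρ, hA, act_blk_e0, hρ, hA] at h1
    exact h1
  have hinv : ∀ m ∈ MM F q, toAut A ρ m ∈ MM F q := by
    rintro _ ⟨B, rfl⟩
    obtain ⟨B', hB'⟩ := mem_blk hF (hfix B)
    refine ⟨B', ?_⟩
    rw [MonoidHom.comp_apply, MonoidHom.comp_apply, toAut_pr', hB']
  have h1 := hR.eq_of_quasisimple (noS3_MM hF) hinv (quasi_MM hF hq) (m := pr 3 F q (blk F q B)) ⟨B, rfl⟩
  rw [toAut_pr'] at h1
  have h2 := pr_inj_of_fix hF h1 e0_ne_zero (hfix B) (act_blk_e0 B)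
  have h3 := congrArg mat h2
  rw [gm_semi, mat_blk] at h3
  calc gm A * (ext1 1 (mat B)).map ρ = gm A * (ext1 1 (mat B)).map ρ * (gm A⁻¹ * gm A) := by
        rw [gm_inv_mul, mul_one]
    _ = (gm A * (ext1 1 (mat B)).map ρ * gm A⁻¹) * gm A := by simp only [mul_assoc]
    _ = _ := by rw [h3]

/-- **Linear automorphisms fixing a nondegenerate vector.** -/
theorem lin_scalar (hF : Fintype.card F = q ^ 2) (hq : 4 ≤ q) {A : GU 3 F q}
    (hA : gm A *ᵥ e0 F = e0 F) (hR : RN (toAut A 1)) : ∃ a : F, gm A = ext1 1 (a • (1 : Matrix (Fin 2) (Fin 2) F)) := by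
  have h1 : gm A = ext1 1 ((gm A).submatrix Fin.succ Fin.succ) := eq_ext1_of_fix hF (gm A) (herm_gm A) hA
  obtain ⟨C, hC⟩ : ∃ C, gm A = ext1 1 C := ⟨_, h1⟩
  refine ⟨C 0 0, ?_⟩
  rw [hC]
  congr 1
  apply scalar_of_comm hF
  intro B
  have h2 := blk_fixed hF hq hA hR B
  have h3 : (ext1 1 (mat B)).map (1 : F ≃+* F) = ext1 1 (mat B) := by
    ext i j; rfl
  rw [h3, hC, ext1_mul, ext1_mul] at h2
  exact ext1_inj h2

/-- **No field automorphisms.** -/
theorem field_false (hF : Fintype.card F = q ^ 2) {p : ℕ} (hp : p.Prime) (hp2 : 3 ≤ p) {A : GU 3 F q} {ρ : F ≃+* F}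
    (hx : toAut A ρ ^ p = 1) (hρ : ρ ≠ 1) (hR : RN (toAut A ρ)) : False := by
  have hodd := hp.odd_of_ne_two (by omega)
  obtain ⟨hord, M, hM⟩ := exists_conj hF le_rfl hp (by omega) hx hρ
  obtain ⟨s, hs2, hs, hq⟩ := exists_s' hF hord hodd
  have hR' : RN (toAut (1 : GU 3 F q) ρ) := by
    have h1 := RN_conj (toAut M 1)⁻¹ hR
    rw [hM] at h1
    have h2 : (toAut M 1)⁻¹ * (toAut M 1 * toAut 1 ρ * (toAut M 1)⁻¹) * ((toAut M 1)⁻¹)⁻¹ = toAut 1 ρ := by group
    rwa [h2] at h1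
  have hqs : s ^ 3 ≤ q := by rw [hq]; exact Nat.pow_le_pow_right (by omega) hp2
  have hs3 : s ^ 2 * 2 ≤ s ^ 3 := by rw [pow_succ s 2]; exact Nat.mul_le_mul_left _ hs2
  have hs4 : 2 ^ 2 ≤ s ^ 2 := Nat.pow_le_pow_left hs2 2
  obtain ⟨c, hc, hcg⟩ := exists_gen_norm hF
  have hc0 : c ≠ 0 := left_ne_zero_of_mul_eq_one hc
  have h1 := blk_fixed hF (by omega) (A := 1) (by rw [gm_one, one_mulVec]) hR' (dg hF c hc)
  rw [gm_one, one_mul, mul_one] at h1
  have h2 := congrFun (congrFun h1 1) 1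
  have h3 : ρ c = c := by
    simpa [ext1, dg, mat_mkSU] using h2
  have h4 : c ∈ fixf ρ := mem_fixf.2 h3
  have h5 := pow_card h4
  rw [hs] at h5
  have h6 : c ^ (s ^ 2 - 1) = 1 := by
    have h7 : c ^ (s ^ 2 - 1) * c = 1 * c := by
      rw [← pow_succ, Nat.sub_add_cancel (by omega), h5, one_mul]
    exact mul_right_cancel₀ hc0 h7
  have h7 := Nat.le_of_dvd (by omega) (hcg _ h6)
  omega

/-- **An automorphism fixing a nondegenerate line is trivial.** -/
theorem eq_one_of_fix (hF : Fintype.card F = q ^ 2) (hq : 4 ≤ q) {A : GU 3 F q} (hA : A ∈ Hst hF)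
    (hR : RN (f₁ A)) : f₁ A = 1 := by
  obtain ⟨c, A1, hc0, hA1, hf1, hfix, -⟩ := exists_fix hF hA
  rw [← hf1] at hR ⊢
  obtain ⟨a, ha⟩ := lin_scalar hF hq hfix hR
  -- the second basis vector
  have h1 : gm A1 *ᵥ (Pi.single 1 1 : Fin 3 → F) = a • (Pi.single 1 1 : Fin 3 → F) := by
    rw [ha, ext1_smul_one, mulVec_single_one]
    ext i
    (revert i; simp only [Matrix.col, _root_.Fin.forall_fin_succ, Fin.isValue, _root_.Matrix.transpose_apply, _root_.Matrix.of_apply, _root_.Matrix.cons_val', _root_.Matrix.cons_val_one, _root_.Matrix.cons_val_zero, _root_.Matrix.cons_val_fin_one, _root_.Pi.smul_apply, _root_.smul_eq_mul, _root_.ne_eq, _root_.zero_ne_one, _root_.not_false_eq_true, _root_.Pi.single_eq_of_ne, _root_.MulZeroClass.mul_zero, _root_.Matrix.cons_val_succ, _root_.Fin.succ_zero_eq_one, _root_.Pi.single_eq_same, _root_.mul_one, _root_.zero_eq_mul, _root_.Fin.succ_one_eq_two, Fin.reduceEq, _root_.or_true, _root_.IsEmpty.forall_iff, _root_.and_self])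
  have ha1 := norm_of_eig hF h1
  have ha0 : a ≠ 0 := left_ne_zero_of_mul_eq_one ha1
  set W := toGU (rot hF) with hW
  have hWm : gm W = !![0, 1, 0; -1, 0, 0; 0, 0, 1] := rfl
  have hWe : gm W *ᵥ e0 F = -(Pi.single 1 1 : Fin 3 → F) := by
    rw [hWm, e0, mulVec_single_one]
    ext i
    (revert i; simp only [Matrix.col, _root_.Fin.forall_fin_succ, Fin.isValue, _root_.Matrix.transpose_apply, _root_.Matrix.of_apply, _root_.Matrix.cons_val', _root_.Matrix.cons_val_zero, _root_.Matrix.cons_val_fin_one, _root_.Pi.neg_apply, _root_.ne_eq, _root_.zero_ne_one, _root_.not_false_eq_true, _root_.Pi.single_eq_of_ne, _root_.neg_zero, _root_.Matrix.cons_val_succ, _root_.Fin.succ_zero_eq_one, _root_.Pi.single_eq_same, _root_.zero_eq_neg, _root_.Fin.succ_one_eq_two, Fin.reduceEq, _root_.IsEmpty.forall_iff, _root_.and_self])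
  have hmem : W⁻¹ * A1 * W ∈ Hst hF := by
    refine ⟨a, ?_⟩
    rw [gm_mul, gm_mul, ← mulVec_mulVec, ← mulVec_mulVec, hWe, mulVec_neg, h1, ← smul_neg, ← hWe, mulVec_smul,
      gm_inv_mulVec]
  obtain ⟨c', A2, hc0', hA2, hf2, hfix2, hc2⟩ := exists_fix hF hmem
  have hca : c' = a := by
    have h3 : gm (W⁻¹ * A1 * W) *ᵥ e0 F = a • e0 F := by
      rw [gm_mul, gm_mul, ← mulVec_mulVec, ← mulVec_mulVec, hWe, mulVec_neg, h1, ← smul_neg, ← hWe, mulVec_smul,
        gm_inv_mulVec]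
    rw [hc2] at h3
    have := congrFun h3 0
    simpa [e0] using this
  subst hca
  have hR2 : RN (f₁ A2) := by
    rw [hf2, map_mul, map_mul, map_inv]
    have := RN_conj (f₁ W)⁻¹ hR
    rwa [inv_inv] at this
  obtain ⟨b, hb⟩ := lin_scalar hF hq hfix2 hR2
  have h4 : gm W * gm A2 = c'⁻¹ • (gm A1 * gm W) := by
    rw [hA2, gm_mul, gm_mul, Matrix.mul_smul, ← mul_assoc, ← mul_assoc, gm_mul_inv, one_mul]
  rw [hb, ha, hWm, ext1_smul_one, ext1_smul_one] at h4
  have e1 := congrFun (congrFun h4 0) 1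
  have e2 := congrFun (congrFun h4 2) 2
  simp [Matrix.mul_apply, Fin.sum_univ_three, hc0'] at e1 e2
  have e3 : c' = 1 := by
    rw [e2] at e1
    exact (inv_eq_one.1 e1.symm)
  have h5 : A1 = 1 := by
    apply gm_inj
    rw [ha, e3, one_smul, ext1_one, gm_one]
  rw [h5, map_one]

theorem semi_eq_one (hF : Fintype.card F = q ^ 2) (hq : 4 ≤ q) {p : ℕ} [hp : Fact p.Prime]
    (hpq : ¬ p ∣ q ^ 2 * (q ^ 2 - q + 1)) {A : GU 3 F q} (hA : A ^ p = 1) (hR : RN (f₁ A)) : f₁ A = 1 := by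
  obtain ⟨B, hB⟩ := exists_vec hF hpq hA
  have h4 := eq_one_of_fix hF hq hB (by
    rw [map_mul, map_mul, map_inv]
    have := RN_conj (f₁ B)⁻¹ hR
    rwa [inv_inv] at this)
  rw [map_mul, map_mul, map_inv] at h4
  have h5 : f₁ A = f₁ B * ((f₁ B)⁻¹ * f₁ A * f₁ B) * (f₁ B)⁻¹ := by group
  rw [h5, h4, mul_one, mul_inv_cancel]

/-- **Unipotent elements of order three.** -/
theorem unip_three (hF : Fintype.card F = q ^ 2) [hcp : CharP F 3] (hq : 4 ≤ q) {g : SU 3 F q}
    (hg : g ^ 3 = 1) (hR : RN (f₁ (toGU g))) : f₁ (toGU g) = 1 := by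
  have hp : Fact (Nat.Prime 3) := ⟨Nat.prime_three⟩
  have h2 : (2 : F) ≠ 0 := by
    intro h
    have h3 : 3 ∣ 2 := (CharP.cast_eq_zero_iff F 3 2).1 (by exact_mod_cast h)
    omega
  obtain ⟨N, hN⟩ : ∃ N, N = mat g - 1 := ⟨_, rfl⟩
  have hgN : mat g = 1 + N := by rw [hN]; abel
  have hN3 : N * N * N = 0 := by
    have := cube_zero hg
    rw [← hN, pow_succ, pow_two] at this
    exact this
  by_cases hN2 : N * N = 0
  · by_cases hN0 : N = 0
    · have : toGU g = 1 := by
        apply gm_inj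
        rw [gm_toGU, hgN, hN0, add_zero, gm_one]
      rw [this, map_one]
    obtain ⟨v, hv, hNv⟩ := exists_fixed hF hgN hN2 hN0
    obtain ⟨B, hB⟩ := LieClassical.GUOrder.exists_gu_map hF (herm_single 0 hF) hv
    have h3 : B⁻¹ * toGU g * B ∈ Hst hF := by
      refine ⟨1, ?_⟩
      have hB' : gm B *ᵥ e0 F = v := hB
      rw [gm_mul, gm_mul, ← mulVec_mulVec, ← mulVec_mulVec, hB', gm_toGU, hgN, add_mulVec, one_mulVec, hNv, add_zero,
        ← hB', gm_inv_mulVec, one_smul]
    have h4 := eq_one_of_fix hF hq h3 (by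
      rw [map_mul, map_mul, map_inv]
      have := RN_conj (f₁ B)⁻¹ hR
      rwa [inv_inv] at this)
    rw [map_mul, map_mul, map_inv] at h4
    have h5 : f₁ (toGU g) = f₁ B * ((f₁ B)⁻¹ * f₁ (toGU g) * f₁ B) * (f₁ B)⁻¹ := by group
    rw [h5, h4, mul_one, mul_inv_cancel]
  · obtain ⟨X, w, r, h⟩ := exists_adapted hF hgN hN3 hN2 h2
    have hfin : Finite (PSU 3 F q) := inferInstance
    have h3 := rn_center (SignalizersComponents.SLQuasisimple.isQuasisimple_two (by rw [card_FF hF]; exact hq))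
      (noS3_sl2 _) ((pr 3 F q).comp (sym hF h2 h)) (uu hF) (by
        rw [MonoidHom.comp_apply, sym_uu, ← f₁_toGU]
        exact hR)
    rcases h3 with h3 | h3
    · rw [MonoidHom.comp_apply, sym_uu] at h3
      rw [f₁_toGU, h3, map_one]
    · exact absurd h3 (uu_not_central hF)

/-- a non-isotropic eigenvector gives the contradiction -/
theorem eq_one_of_eig (hF : Fintype.card F = q ^ 2) (hq : 4 ≤ q) {A : GU 3 F q} (hR : RN (f₁ A)) {v : Fin 3 → F}
    (hv : hh v v ≠ 0) {c : F} (hc : gm A *ᵥ v = c • v) : f₁ A = 1 := by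
  obtain ⟨l, hl0, hl⟩ := exists_unit hF hv
  obtain ⟨B, hB⟩ := LieClassical.GUOrder.exists_gu_map hF (herm_single 0 hF) hl
  have hB' : gm B *ᵥ e0 F = l • v := hB
  have h3 : B⁻¹ * A * B ∈ Hst hF := by
    refine ⟨c, ?_⟩
    rw [gm_mul, gm_mul, ← mulVec_mulVec, ← mulVec_mulVec, hB', mulVec_smul, hc, smul_comm, ← hB', mulVec_smul,
      gm_inv_mulVec]
  have h4 := eq_one_of_fix hF hq h3 (by
    rw [map_mul, map_mul, map_inv]
    have := RN_conj (f₁ B)⁻¹ hR
    rwa [inv_inv] at this)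
  rw [map_mul, map_mul, map_inv] at h4
  have h5 : f₁ A = f₁ B * ((f₁ B)⁻¹ * f₁ A * f₁ B) * (f₁ B)⁻¹ := by group
  rw [h5, h4, mul_one, mul_inv_cancel]

/-- **Diagonalisable elements.** -/
theorem cube_eq_one (hF : Fintype.card F = q ^ 2) (hq : 4 ≤ q) (h3q : 3 ∣ q + 1) {A : GU 3 F q}
    (hA : A ^ 3 = 1) (hR : RN (f₁ A)) : f₁ A = 1 := by
  -- a cube root of unity
  obtain ⟨g, hg1, hg⟩ := exists_gen_norm hF
  obtain ⟨m, hm⟩ := h3q
  have hm0 : 0 < m := by omega
  obtain ⟨z, hz⟩ : ∃ z, z = g ^ m := ⟨_, rfl⟩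
  have hgq : g ^ (q + 1) = 1 := by rw [pow_succ', hg1]
  have hz3 : z ^ 3 = 1 := by rw [hz, ← pow_mul, mul_comm, ← hm, hgq]
  have hz1 : z ≠ 1 := by
    intro h
    rw [hz] at h
    have := Nat.le_of_dvd hm0 (hg m h)
    omega
  have hzn : z * z ^ q = 1 := by rw [← pow_succ', hz, ← pow_mul, mul_comm, pow_mul, hgq, one_pow]
  have hzs : z ^ 2 + z + 1 = 0 := by
    have : (z - 1) * (z ^ 2 + z + 1) = 0 := by linear_combination hz3
    exact (mul_eq_zero.1 this).resolve_left (sub_ne_zero.2 hz1)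
  have h30 : (3 : F) ≠ 0 := by
    intro h
    have : (z - 1) ^ 3 = 0 := by linear_combination hz3 - (z ^ 2 - z) * h
    exact hz1 (sub_eq_zero.1 (pow_eq_zero_iff (by norm_num) |>.1 this))
  have hA3 : ∀ x : Fin 3 → F, gm A *ᵥ (gm A *ᵥ (gm A *ᵥ x)) = x := by
    intro x
    have : gm A *ᵥ (gm A *ᵥ (gm A *ᵥ x)) = gm (A ^ 3) *ᵥ x := by
      rw [mulVec_mulVec, mulVec_mulVec, gm_pow, pow_succ, pow_two]
    rw [this, hA, gm_one, one_mulVec]
  -- the projections
  by_contra hne
  have key : ∀ t : F, t ^ 3 = 1 → ∀ x : Fin 3 → F,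
      hh (x + (t ^ 2) • (gm A *ᵥ x) + t • (gm A *ᵥ (gm A *ᵥ x)))
        (x + (t ^ 2) • (gm A *ᵥ x) + t • (gm A *ᵥ (gm A *ᵥ x))) = 0 := by
    intro t ht x
    by_contra hcon
    apply hne
    refine eq_one_of_eig hF hq hR hcon (c := t) ?_
    rw [mulVec_add, mulVec_add, mulVec_smul, mulVec_smul, hA3]
    funext i
    simp only [Pi.add_apply, Pi.smul_apply, smul_eq_mul]
    linear_combination (-(gm A *ᵥ x) i) * ht
  obtain ⟨x, hx⟩ : ∃ x : Fin 3 → F, x = e0 F := ⟨_, rfl⟩
  have hxx : hh x x = 1 := by rw [hx]; exact herm_single 0 hF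
  obtain ⟨y1, hy1⟩ : ∃ y1, y1 = gm A *ᵥ x := ⟨_, rfl⟩
  obtain ⟨y2, hy2⟩ : ∃ y2, y2 = gm A *ᵥ y1 := ⟨_, rfl⟩
  have hAy2 : gm A *ᵥ y2 = x := by rw [hy2, hy1, hA3]
  have h11 : hh y1 y1 = 1 := by rw [hy1, herm_gm, hxx]
  have h22 : hh y2 y2 = 1 := by rw [hy2, herm_gm, h11]
  have h12 : hh y2 y1 = hh y1 x := by
    have := herm_gm A y1 x
    rw [← hy2, ← hy1] at this
    exact this
  have h20 : hh x y2 = hh y1 x := by
    have := herm_gm A y2 y1
    rw [hAy2, ← hy2] at this
    rw [this, h12]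
  have h21 : hh y1 y2 = hh x y1 := by
    have := herm_gm A x y1
    rw [← hy1, ← hy2] at this
    exact this
  have h02 : hh y2 x = hh x y1 := by
    have := herm_gm A y1 y2
    rw [← hy2, hAy2] at this
    rw [this, h21]
  have e := fun t ht => key t ht x
  simp only [← hy1, ← hy2, herm_add_left, herm_add_right hF, herm_smul_left, herm_smul_right, hxx, h11, h22, h12, h20,
    h21, h02] at e
  obtain ⟨α, hα⟩ : ∃ α, α = hh y1 x := ⟨_, rfl⟩
  obtain ⟨β, hβ⟩ : ∃ β, β = hh x y1 := ⟨_, rfl⟩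
  simp only [← hα, ← hβ] at e
  have a1 := e 1 (one_pow 3)
  have a2 := e z hz3
  have a3 := e (z ^ 2) (by rw [← pow_mul, mul_comm, pow_mul, hz3, one_pow])
  have hzq : z ^ q = z ^ 2 := by
    have h4 : z * (z ^ q - z ^ 2) = 0 := by linear_combination hzn - hz3
    have hz0 : z ≠ 0 := by
      rintro rfl
      rw [zero_pow (by norm_num)] at hz3
      exact zero_ne_one hz3
    exact sub_eq_zero.1 ((mul_eq_zero.1 h4).resolve_left hz0)
  have hz2q : (z ^ 2) ^ q = z := by
    rw [← pow_mul, mul_comm, pow_mul, hzq]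
    linear_combination z * hz3
  have hz4 : ((z ^ 2) ^ 2) ^ q = z ^ 2 := by
    have : (z ^ 2) ^ 2 = z := by linear_combination z * hz3
    rw [this, hzq]
  simp only [one_pow, one_mul, mul_one] at a1
  rw [hz2q, hzq] at a2
  rw [hz4, hz2q] at a3
  -- the sum of the three equations is `9 = 0`
  have h9 : (9 : F) = 0 := by
    linear_combination a1 + a2 + a3 - (z * β + 2 + (z ^ 3 + 1) + 1 + 2 * z * α + z ^ 2 * β) * hz3 - 3 * (α + β) * hzs
  have : (3 : F) * 3 = 0 := by linear_combination h9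
  exact h30 (mul_self_eq_zero.1 this)

/-- **Linear automorphisms.** -/
theorem lin_false (hF : Fintype.card F = q ^ 2) (hq : 4 ≤ q) {A : GU 3 F q} (hx : f₁ A ^ 3 = 1) (hx1 : f₁ A ≠ 1)
    (hR : RN (f₁ A)) (hI : _root_.Cfsg.Agent.H959.Rad3.Inv (f₁ A)) : False := by
  obtain ⟨r, k, hr, hrc, hk, hk0⟩ := LieClassical.HermBasic.exists_prime_pow hF
  have hrf : Fact r.Prime := ⟨hr⟩
  have h1 : toAut (1 : GU 3 F q) 1 = toAut (A ^ 3) 1 := by
    change f₁ (1 : GU 3 F q) = f₁ (A ^ 3)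
    rw [map_one, map_pow, hx]
  obtain ⟨-, c, hc, hc'⟩ := eq_of_toAut_eq hF le_rfl h1
  rw [gm_one] at hc'
  by_cases hex : ∃ d : F, d * d ^ q = 1 ∧ d ^ 3 = c
  · obtain ⟨d, hd, hd3⟩ := hex
    have hd0 : d ≠ 0 := left_ne_zero_of_mul_eq_one hd
    obtain ⟨B, hB⟩ : ∃ B : GU 3 F q, B = sc 3 ⟨d⁻¹, inv_norm hd⟩ * A := ⟨_, rfl⟩
    have hfB : f₁ B = f₁ A := by
      rw [hB]
      exact toAut_sc_mul _ _ _
    have hB3 : B ^ 3 = 1 := by
      apply gm_inj
      rw [gm_pow, hB, gm_sc_mul, smul_pow, ← gm_pow, hc', smul_smul, inv_pow, hd3, gm_one]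
      have hc0 : c ≠ 0 := left_ne_zero_of_mul_eq_one hc
      rw [inv_mul_cancel₀ hc0, one_smul]
    rw [← hfB] at hx1 hR
    by_cases h3q : 3 ∣ q + 1
    · exact hx1 (cube_eq_one hF hq h3q hB3 hR)
    by_cases h3 : 3 ∣ q
    · -- characteristic three
      have hr3 : r = 3 := by
        rw [hk] at h3
        exact ((Nat.prime_dvd_prime_iff_eq Nat.prime_three hr).1 (Nat.prime_three.dvd_of_dvd_pow h3)).symm
      subst hr3
      have hdet : (gm B).det = 1 := by
        have h5 := congrArg Matrix.det (congrArg gm hB3)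
        rw [gm_pow, Matrix.det_pow, gm_one, Matrix.det_one] at h5
        have h30 : (3 : F) = 0 := by exact_mod_cast CharP.cast_eq_zero F 3
        have h6 : ((gm B).det - 1) ^ 3 = 0 := by
          linear_combination h5 + ((gm B).det - (gm B).det ^ 2) * h30
        exact sub_eq_zero.1 (pow_eq_zero_iff (by norm_num) |>.1 h6)
      obtain ⟨g, hg⟩ := exists_toGU B hdet
      rw [← hg] at hx1 hR
      exact hx1 (unip_three hF hq (toGU_injective (by rw [toGU_pow, hg, hB3]; exact gm_inj rfl)) hR)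
    · have hp : Fact (Nat.Prime 3) := ⟨Nat.prime_three⟩
      refine hx1 (semi_eq_one hF hq (p := 3) ?_ hB3 hR)
      intro h
      rcases (Nat.Prime.dvd_mul Nat.prime_three).1 h with h | h
      · exact h3 (Nat.prime_three.dvd_of_dvd_pow h)
      · have h4 : q % 3 = 1 := by omega
        obtain ⟨m, hm⟩ : ∃ m, q = 3 * m + 1 := ⟨q / 3, by omega⟩
        have h5 : q ^ 2 - q + 1 = 3 * (3 * m ^ 2 + m) + 1 := by
          have h6 : q ≤ q ^ 2 := Nat.le_self_pow (by norm_num) q
          zify [h6]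
          rw [hm]
          push_cast
          ring
        omega
  · -- irreducible elements
    have h3q : 3 ∣ q + 1 := by
      by_contra h
      exact hex (exists_cube_root hc h)
    have hnc : ∀ d : F, d ^ 3 ≠ c := by
      intro d hd
      apply hex
      refine ⟨d, ?_, hd⟩
      have he3 : (d * d ^ q) ^ 3 = 1 := by
        have : (d * d ^ q) ^ 3 = d ^ 3 * (d ^ 3) ^ q := by ring
        rw [this, hd, hc]
      have heq : (d * d ^ q) ^ q = d * d ^ q := norm_pow_q hF d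
      have hq1 : ∃ m, q = 3 * m + 2 := ⟨q / 3, by omega⟩
      obtain ⟨m, hm⟩ := hq1
      have h5 : (d * d ^ q) ^ q = (d * d ^ q) ^ 2 := by
        conv_lhs => rw [show (d * d ^ q) ^ q = (d * d ^ q) ^ (3 * m + 2) by rw [← hm]]
        rw [pow_add, pow_mul, he3, one_pow, one_mul]
      rw [heq] at h5
      have h6 : d * d ^ q ≠ 0 := by
        intro h
        rw [h, zero_pow (by norm_num)] at he3
        exact zero_ne_one he3
      have h7 : d * d ^ q * (d * d ^ q - 1) = 0 := by linear_combination -h5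
      exact sub_eq_zero.1 ((mul_eq_zero.1 h7).resolve_left h6)
    have hA3 : gm A ^ 3 = c • 1 := by rw [← gm_pow, hc']
    by_cases hr2 : r = 2
    · subst hr2
      have hodd : q % 2 = 0 := by
        rw [hk]
        exact Nat.mod_eq_zero_of_dvd (dvd_pow_self 2 hk0.ne')
      obtain ⟨s, hs, hsd⟩ := Nat.exists_prime_and_dvd (n := q - 1) (by (clear * - hq; omega))
      have hsf : Fact s.Prime := ⟨hs⟩
      have hs5 : 5 ≤ s := by
        by_contra hlt
        have h2 := hs.two_le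
        have : s = 2 ∨ s = 3 ∨ s = 4 := by omega
        rcases this with rfl | rfl | rfl
        · (clear * - hq hodd hsd; omega)
        · (clear * - h3q hsd; omega)
        · exact absurd hs (by norm_num)
      exact lam_two hF (by exact_mod_cast CharP.cast_eq_zero F 2) hs5 hsd hA3 hnc hI
    · have hr3 : r ≠ 3 := by
        rintro rfl
        have h4 : 3 ∣ q := by rw [hk]; exact dvd_pow_self 3 hk0.ne'
        omega
      have hr5 : 5 ≤ r := by
        by_contra hlt
        have h2 := hr.two_le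
        have : r = 4 := by omega
        subst this
        exact absurd hr (by norm_num)
      exact lam_odd hF hr5 hA3 hnc hI

theorem g3_psu (hF : Fintype.card F = q ^ 2) (hq : 4 ≤ q) : G3 (PSU 3 F q) := by
  intro x hx hP hR
  have hI : _root_.Cfsg.Agent.H959.Rad3.Inv x := inv_of_ps le_rfl hP
  have hxp : x ^ 3 = 1 := orderOf_dvd_iff_pow_eq_one.1 hx.dvd
  have hx1 : x ≠ 1 := by
    rintro rfl
    rw [orderOf_one] at hx
    omega
  obtain ⟨A, ρ, rfl⟩ := ClassicalGeometry.PSUAutMain.exists_toAut hF le_rfl (fun h => by omega) x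
  by_cases hρ : ρ = 1
  swap
  · exact (field_false hF Nat.prime_three le_rfl hxp hρ hR).elim
  subst hρ
  exact lin_false hF hq hxp hx1 hR hI

/-- **row B4** -/
theorem g3_psu3 {K : Type} [Group K] [Finite K] [IsSimpleGroup K] {F : Type} [Field F] [Fintype F] {q : ℕ}
    (hF : Fintype.card F = q ^ 2) (hq : q ≠ 3) (e : Nonempty (K ≃* PSU 3 F q)) : G3 K := by
  obtain ⟨e⟩ := e
  have hq2 := H223.R3.ne_two hF e
  have hq1 := LieClassical.GUOrder.two_le hF
  exact (g3_psu hF (by omega)).congr e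

end Cfsg.Agent.H115.SN
end

-- part: H858/SN/PsuA
section
/-!
# S3831, row C3 (helper858): `PSU_n(q)`, `n ≥ 4`, characteristic not three, `q ≠ 2`: planes

* `jj_equiv` : the group `JJ W` of a nondegenerate plane is `SL₂(q)`;
* `fix_jj` : `RN x` and `W` invariant: `x` is trivial on `JJ W`;
* `eigen` : the isotropic vectors of `W` are eigenvectors.
-/

set_option autoImplicit false
set_option linter.unusedSectionVars false

namespace Cfsg.Agent.H858.SN

open Cfsg Cfsg.Agent.LieClassical.HermBasic Cfsg.Agent.LieClassical.HermSiegel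
  Cfsg.Agent.LieClassical.HermGen Cfsg.Agent.LieClassical.SUBasic Matrix
  Cfsg.Agent.ClassicalGeometry.PSUAutBasic Cfsg.Agent.ClassicalGeometry.HermOrtho Module

open Cfsg.Agent.ClassicalGeometry.PSUAutCount (gm semiConj toAut herm_gm act_semiConj herm_semi
  gm_inv_mulVec gm_mulVec_inv eq_of_toAut_eq)

open Cfsg.Agent.KFacts.Unit (sg sg_add sg_smul herm_sg exists_sg exists_GU_of_semi act_semiConj' toAut_eq_conj)

open Cfsg.Agent.Cit.LongBlock Cfsg.Agent.Cit.LongQuot Cfsg.Agent.Cit.LongMain Cfsg.Agent.Cit.LongModel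
  Cfsg.Agent.Cit.LongInst

open Cfsg.Agent.UGT.U2.FOne.PSU Cfsg.Agent.H21.SN Cfsg.Agent.H459.Rad

variable {F : Type} [Field F] [Fintype F] {q n : ℕ}

/-- **the group of a nondegenerate plane** -/
theorem jj_equiv (hF : Fintype.card F = q ^ 2) (hn : 3 ≤ n) (W : Submodule F (Fin n → F))
    (hW : ∀ u ∈ W, (∀ v ∈ W, hermForm n F q u v = 0) → u = 0) (hk : finrank F W = 2) :
    Nonempty (↥(JJ q W) ≃* _root_.Matrix.SpecialLinearGroup (Fin 2) (KK hF)) := by
  obtain ⟨k, rfl⟩ : ∃ k, n = 2 + k := ⟨n - 2, by omega⟩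
  have hk1 : 1 ≤ k := by omega
  have : Nonempty (Fin k) := ⟨⟨0, by omega⟩⟩
  obtain ⟨P, hP, hPW⟩ := exists_GU_adapted hF (finSumFinEquiv : Fin 2 ⊕ Fin k ≃ Fin (2 + k)) W hW hk
  set A : GU (2 + k) F q := ⟨P, hP⟩ with hA
  have hAW : ∀ x : Fin (2 + k) → F, sg A 1 x ∈ W ↔ ∀ j : Fin k, x (Fin.natAdd 2 j) = 0 := fun x => hPW x
  set R := suRep hF k hk1 with hR
  have h1 : (D1 R).map (toAut A 1).toMonoidHom = JJ q W := map_E1 hF hk1 hAW
  obtain ⟨f⟩ := ((suRep_model hF k hk1).toW).equiv1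
  obtain ⟨e⟩ := un2_equiv hF
  rw [← h1]
  exact ⟨(((D1 R).equivMapOfInjective (toAut A 1).toMonoidHom (toAut A 1).injective).symm.trans
    (D1Equiv R).symm).trans (f.trans e)⟩


/-- the criterion of task T1 -/
def Crit : Prop :=
  ∀ (H : Type) [Group H] [Finite H], (∃ P : Sylow 3 H, IsMulCommutative (P : Subgroup H)) → NoS3 H

theorem noS3_SL2 (hC : Crit) (K : Type) [Field K] [Finite K] : NoS3 (_root_.Matrix.SpecialLinearGroup (Fin 2) K) :=
  hC _ ⟨default, sylow_comm_SL2 _⟩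

/-- **`x` is trivial on the group of an invariant nondegenerate plane** -/
theorem fix_jj (hC : Crit) (hF : Fintype.card F = q ^ 2) (hn : 3 ≤ n) (hq : 4 ≤ q) {x : MulAut (PSU n F q)}
    {T : (Fin n → F) → (Fin n → F)} {σ : F ≃+* F} (h : _root_.Cfsg.Agent.UGT.U2.FOne.PSU.Rep x T σ) (hR : RN x) (W : Submodule F (Fin n → F))
    (hW : ∀ u ∈ W, (∀ v ∈ W, hermForm n F q u v = 0) → u = 0) (hk : finrank F W = 2)
    (hT : ∀ w ∈ W, T w ∈ W) : ∀ j ∈ JJ q W, x j = j := by
  obtain ⟨e⟩ := jj_equiv hF hn W hW hk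
  have hfin : Finite (PSU n F q) := Finite.of_surjective _ (pr_surjective (n := n) (F := F) (q := q))
  have hN : NoS3 ↥(JJ q W) := NoS3.congr e.symm (noS3_SL2 hC (KK hF))
  have hQ : IsQuasisimple ↥(JJ q W) := by
    refine SignalizersComponents.Components.isQuasisimple_of_mulEquiv e.symm
      (SignalizersComponents.SLQuasisimple.isQuasisimple_two ?_)
    rw [Nat.card_eq_fintype_card, card_KK hF]
    exact hq
  have hinv : ∀ m ∈ JJ q W, x m ∈ JJ q W := by
    intro m hm
    have h1 : x m ∈ (JJ q W).map x.toMonoidHom := ⟨m, hm, rfl⟩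
    rwa [map_JJ h W hT] at h1
  intro j hj
  exact hR.eq_of_quasisimple hN hinv hQ hj

/-- **the isotropic vectors of an invariant nondegenerate plane are eigenvectors** -/
theorem eigen (hC : Crit) (hF : Fintype.card F = q ^ 2) (hn : 3 ≤ n) (hq : 4 ≤ q) {p : ℕ} [Fact p.Prime] [CharP F p]
    {x : MulAut (PSU n F q)} {T : (Fin n → F) → (Fin n → F)} {σ : F ≃+* F} (h : _root_.Cfsg.Agent.UGT.U2.FOne.PSU.Rep x T σ) (hR : RN x)
    (W : Submodule F (Fin n → F)) (hW : ∀ u ∈ W, (∀ v ∈ W, hermForm n F q u v = 0) → u = 0)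
    (hk : finrank F W = 2) (hT : ∀ w ∈ W, T w ∈ W) {u : Fin n → F} (hu : u ∈ W) (hu0 : u ≠ 0)
    (huu : hermForm n F q u u = 0) :
    ∃ c : F, T u = c • u ∧ ∀ lam : F, lam + lam ^ q = 0 → σ lam * (c * c ^ q) = lam := by
  have hfix := fix_jj hC hF hn hq h hR W hW hk hT
  refine eigen_of_comm hF h hu0 (fun lam hlam v => ?_)
  have h3 : transv hF u huu lam hlam ∈ fixG q W := by
    intro v hv
    rw [act_transv, hv u hu, mul_zero, zero_smul, add_zero]
  have h4 := h.act_of_fix hF hn (p := p) (g := transv hF u huu lam hlam)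
    (siegel_pow_prime_pow hF p (isSiegel_zero huu hlam)) (hfix _ ⟨_, h3, rfl⟩) v
  rwa [act_transv, act_transv] at h4

/-- the plane spanned by two vectors -/
theorem plane_facts {e f : Fin n → F}
    (hdet : hermForm n F q e e * hermForm n F q f f - hermForm n F q e f * hermForm n F q f e ≠ 0) :
    (∀ u ∈ Submodule.span F {e, f}, (∀ v ∈ Submodule.span F {e, f}, hermForm n F q u v = 0) → u = 0) ∧
      finrank F (Submodule.span F {e, f}) = 2 := by
  set W : Submodule F (Fin n → F) := Submodule.span F {e, f} with hWdef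
  have hmem : ∀ u, u ∈ W ↔ ∃ x y : F, x • e + y • f = u := fun u => Submodule.mem_span_pair
  have heW : e ∈ W := Submodule.subset_span (by simp)
  have hfW : f ∈ W := Submodule.subset_span (by simp)
  have hzero : ∀ x y : F, hermForm n F q (x • e + y • f) e = 0 → hermForm n F q (x • e + y • f) f = 0 →
      x = 0 ∧ y = 0 := by
    intro x y h3 h4
    rw [herm_add_left, herm_smul_left, herm_smul_left] at h3 h4
    constructor
    · apply mul_right_cancel₀ hdet
      linear_combination hermForm n F q f f * h3 - hermForm n F q f e * h4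
    · apply mul_right_cancel₀ hdet
      linear_combination hermForm n F q e e * h4 - hermForm n F q e f * h3
  refine ⟨?_, ?_⟩
  · intro u hu hu0
    obtain ⟨x, y, rfl⟩ := (hmem u).1 hu
    obtain ⟨h3, h4⟩ := hzero x y (hu0 e heW) (hu0 f hfW)
    rw [h3, h4, zero_smul, zero_smul, add_zero]
  · have hli : LinearIndependent F ![e, f] := by
      rw [LinearIndependent.pair_iff]
      intro x y hxy
      exact hzero x y (by rw [hxy, herm_zero_left]) (by rw [hxy, herm_zero_left])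
    have h3 := finrank_span_eq_card (R := F) hli
    rw [Fintype.card_fin] at h3
    have h4 : Set.range ![e, f] = {e, f} := by
      rw [Matrix.range_cons, Matrix.range_cons, Matrix.range_empty, Set.union_empty]
      rfl
    rw [h4] at h3
    exact h3

/-- **no nondegenerate plane spanned by eigenvectors with different eigenvalues** -/
theorem kill_eig (hC : Crit) (hF : Fintype.card F = q ^ 2) (hn : 3 ≤ n) (hq : 4 ≤ q) {p : ℕ} [Fact p.Prime]
    [CharP F p] {x : MulAut (PSU n F q)} {T : (Fin n → F) → (Fin n → F)} (h : _root_.Cfsg.Agent.UGT.U2.FOne.PSU.Rep x T 1) (hR : RN x)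
    {e f : Fin n → F} {a b m : F} (he : T e = a • e) (hf : T f = b • f) (hm : m ≠ 0)
    (hdet : hermForm n F q e e * hermForm n F q f f - hermForm n F q e f * hermForm n F q f e ≠ 0)
    (hiso : hermForm n F q (e + m • f) (e + m • f) = 0) : a = b := by
  obtain ⟨hW, hk⟩ := plane_facts (q := q) hdet
  set W : Submodule F (Fin n → F) := Submodule.span F {e, f} with hWdef
  have heW : e ∈ W := Submodule.subset_span (by simp)
  have hfW : f ∈ W := Submodule.subset_span (by simp)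
  have hsm : ∀ (c : F) v, T (c • v) = c • T v := fun c v => h.smul c v
  have hT : ∀ w ∈ W, T w ∈ W := by
    intro w hw
    obtain ⟨x, y, rfl⟩ := Submodule.mem_span_pair.1 hw
    rw [h.add, hsm, hsm, he, hf]
    exact W.add_mem (W.smul_mem _ (W.smul_mem _ heW)) (W.smul_mem _ (W.smul_mem _ hfW))
  have hli : ∀ x y : F, x • e + y • f = 0 → x = 0 ∧ y = 0 := by
    intro x y hxy
    have h3 := congrArg (fun v => hermForm n F q v e) hxy
    have h4 := congrArg (fun v => hermForm n F q v f) hxy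
    simp only [herm_add_left, herm_smul_left, herm_zero_left] at h3 h4
    constructor
    · apply mul_right_cancel₀ hdet
      linear_combination hermForm n F q f f * h3 - hermForm n F q f e * h4
    · apply mul_right_cancel₀ hdet
      linear_combination hermForm n F q e e * h4 - hermForm n F q e f * h3
  have hu0 : e + m • f ≠ 0 := by
    intro h0
    have := (hli 1 m (by rw [one_smul, h0])).1
    exact one_ne_zero this
  obtain ⟨c, hc, -⟩ := eigen hC hF hn hq (p := p) h hR W hW hk hT (W.add_mem heW (W.smul_mem m hfW)) hu0 hiso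
  rw [h.add, hsm, he, hf] at hc
  have h5 : (a - c) • e + (m * (b - c)) • f = 0 := by
    have h6 : a • e + m • b • f - c • (e + m • f) = 0 := by rw [hc, sub_self]
    rw [← h6]
    module
  obtain ⟨h6, h7⟩ := hli _ _ h5
  have h8 : b - c = 0 := (mul_eq_zero.1 h7).resolve_left hm
  rw [sub_eq_zero.1 h6, sub_eq_zero.1 h8]

/-- **no invariant nondegenerate plane for field automorphisms of odd order** -/
theorem kill_field (hC : Crit) (hF : Fintype.card F = q ^ 2) (hn : 3 ≤ n) (hq : 4 ≤ q) {p : ℕ} [Fact p.Prime]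
    [CharP F p] {x : MulAut (PSU n F q)} {T : (Fin n → F) → (Fin n → F)} {σ : F ≃+* F} (h : _root_.Cfsg.Agent.UGT.U2.FOne.PSU.Rep x T σ) (hR : RN x)
    (W : Submodule F (Fin n → F)) (hW : ∀ u ∈ W, (∀ v ∈ W, hermForm n F q u v = 0) → u = 0)
    (hk : finrank F W = 2) (hT : ∀ w ∈ W, T w ∈ W) {m : ℕ} (hm : Odd m) (hσ : σ ^ m = 1) : σ = 1 := by
  obtain ⟨u, hu, hu0, huu⟩ := exists_iso hF W hW hk.ge
  obtain ⟨c, -, hc⟩ := eigen hC hF hn hq (p := p) h hR W hW hk hT hu hu0 huu
  exact field_of_trace hF hc hm hσ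

end Cfsg.Agent.H858.SN
end

-- part: H858/SN/PsuB
section
/-!
# S3831, row C3 (helper858): `PSU_n(q)`, linear automorphisms with `T ^ 3 = 1`

* `exists_omega` : a primitive third root of unity;
* `kill_one` : `T ^ 3 = 1` is impossible for `RN x`, `x ≠ 1`.
-/

set_option autoImplicit false
set_option linter.unusedSectionVars false

namespace Cfsg.Agent.H858.SN

open Cfsg Cfsg.Agent.LieClassical.HermBasic Cfsg.Agent.LieClassical.HermSiegel
  Cfsg.Agent.LieClassical.HermGen Cfsg.Agent.LieClassical.SUBasic Matrix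
  Cfsg.Agent.ClassicalGeometry.PSUAutBasic Cfsg.Agent.ClassicalGeometry.HermOrtho Module

open Cfsg.Agent.UGT.U2.FOne.PSU Cfsg.Agent.H21.SN Cfsg.Agent.H459.Rad

section Omega

variable {F : Type} [Field F] [Fintype F] {q : ℕ}

theorem three_ne {p : ℕ} [hp : Fact p.Prime] [CharP F p] (hp3 : p ≠ 3) : (3 : F) ≠ 0 := by
  intro h
  have h1 : ((3 : ℕ) : F) = 0 := by exact_mod_cast h
  rw [CharP.cast_eq_zero_iff F p] at h1
  exact hp3 ((Nat.prime_dvd_prime_iff_eq hp.out Nat.prime_three).1 h1)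

theorem not_three_dvd {p : ℕ} [hp : Fact p.Prime] [CharP F p] (hp3 : p ≠ 3) (hF : Fintype.card F = q ^ 2) :
    ¬ 3 ∣ q := by
  intro h
  obtain ⟨k, -, hk⟩ := FiniteField.card F p
  have h1 : 3 ∣ p ^ (k : ℕ) := by
    rw [← hk, hF]
    exact dvd_pow h (by norm_num)
  exact hp3 ((Nat.prime_dvd_prime_iff_eq Nat.prime_three hp.out).1 (Nat.prime_three.dvd_of_dvd_pow h1)).symm

/-- a primitive third root of unity -/
theorem exists_omega {p : ℕ} [hp : Fact p.Prime] [CharP F p] (hp3 : p ≠ 3) (hF : Fintype.card F = q ^ 2) :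
    ∃ w : F, w ≠ 1 ∧ w ^ 3 = 1 ∧ w ^ 2 + w + 1 = 0 := by
  have hq := not_three_dvd (F := F) hp3 hF
  have hq2 := two_le hF
  have hcard : 3 ∣ Nat.card Fˣ := by
    rw [card_units_eq hF]
    have h1 : q % 3 = 1 ∨ q % 3 = 2 := by omega
    rcases h1 with h1 | h1
    · exact Dvd.dvd.mul_left (by omega) _
    · exact Dvd.dvd.mul_right (by omega) _
  have hf3 : Fact (Nat.Prime 3) := ⟨Nat.prime_three⟩
  obtain ⟨u, hu⟩ := exists_prime_orderOf_dvd_card' 3 hcard
  have hu1 : u ≠ 1 := by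
    intro h
    rw [h, orderOf_one] at hu
    omega
  have hu3 : u ^ 3 = 1 := by rw [← hu, pow_orderOf_eq_one]
  have hw3 : (u : F) ^ 3 = 1 := by rw [← Units.val_pow_eq_pow_val, hu3, Units.val_one]
  have hw1 : (u : F) ≠ 1 := fun h => hu1 (Units.ext h)
  refine ⟨u, hw1, hw3, ?_⟩
  have h2 : ((u : F) - 1) * ((u : F) ^ 2 + u + 1) = 0 := by linear_combination hw3
  exact (mul_eq_zero.1 h2).resolve_left (sub_ne_zero.2 hw1)

/-- the conjugate of a third root of unity -/
theorem omega_pow_q {w : F} (hw : w ^ 3 = 1) (hq : ¬ 3 ∣ q) : w ^ q = w ∨ w ^ q = w ^ 2 := by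
  have h1 : q % 3 = 1 ∨ q % 3 = 2 := by omega
  have h2 : w ^ q = w ^ (q % 3) := by
    conv_lhs => rw [← Nat.div_add_mod q 3, pow_add, pow_mul, hw, one_pow, one_mul]
  rcases h1 with h1 | h1
  · left; rw [h2, h1, pow_one]
  · right; rw [h2, h1]

end Omega

section One

variable {F : Type} [Field F] [Fintype F] {q n : ℕ} {x : MulAut (PSU n F q)} {T : (Fin n → F) → (Fin n → F)}

theorem herm_eig (h : _root_.Cfsg.Agent.UGT.U2.FOne.PSU.Rep x T 1) {u v : Fin n → F} {a b : F} (hu : T u = a • u) (hv : T v = b • v)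
    (hab : a * b ^ q ≠ 1) : hermForm n F q u v = 0 := by
  have h1 := h.herm u v
  rw [hu, hv, herm_smul_left, herm_smul_right] at h1
  change _ = hermForm n F q u v at h1
  have h2 : (a * b ^ q - 1) * hermForm n F q u v = 0 := by linear_combination h1
  exact (mul_eq_zero.1 h2).resolve_left (sub_ne_zero.2 hab)

/-- an eigenvector for `ω` with `ω ^ q = ω` -/
theorem kill_aux (hC : Crit) (hF : Fintype.card F = q ^ 2) (hn : 3 ≤ n) (hq : 4 ≤ q) {p : ℕ} [Fact p.Prime]
    [CharP F p] (hp3 : p ≠ 3) (h : _root_.Cfsg.Agent.UGT.U2.FOne.PSU.Rep x T 1) (hR : RN x) (hT : ∀ v, T (T (T v)) = v) {w : F} (hw1 : w ≠ 1)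
    (hw3 : w ^ 3 = 1) (hw : w ^ 2 + w + 1 = 0) (hwq : w ^ q = w) {e : Fin n → F} (he : T e = w • e) (he0 : e ≠ 0) :
    False := by
  have h3 := three_ne (F := F) hp3
  have hsm : ∀ (c : F) v, T (c • v) = c • T v := fun c v => h.smul c v
  have hw2 : w ^ 2 ≠ 1 := by
    intro h2
    apply hw1
    calc w = w ^ 3 * w⁻¹ ^ 2 := by
          have : w ≠ 0 := by rintro rfl; simp at hw3
          field_simp
      _ = 1 := by rw [hw3, one_mul, inv_pow, h2, inv_one]
  obtain ⟨z, hz⟩ := exists_herm_ne_zero hF he0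
  have e0 : T (z + T z + T (T z)) = (1 : F) • (z + T z + T (T z)) := by
    rw [h.add, h.add, hT, one_smul]
    abel
  have e1 : T (z + w ^ 2 • T z + w • T (T z)) = w • (z + w ^ 2 • T z + w • T (T z)) := by
    rw [h.add, h.add, hsm, hsm, hT, smul_add, smul_add, smul_smul, smul_smul]
    rw [show w * w ^ 2 = 1 by linear_combination hw3, one_smul, ← sq]
    abel
  have e2 : T (z + w • T z + w ^ 2 • T (T z)) = (w ^ 2) • (z + w • T z + w ^ 2 • T (T z)) := by
    rw [h.add, h.add, hsm, hsm, hT, smul_add, smul_add, smul_smul, smul_smul]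
    rw [show w ^ 2 * w = 1 by linear_combination hw3, one_smul,
      show w ^ 2 * w ^ 2 = w by linear_combination w * hw3]
    abel
  have hsum : (z + T z + T (T z)) + (z + w ^ 2 • T z + w • T (T z)) + (z + w • T z + w ^ 2 • T (T z)) = (3 : F) • z := by
    have : (z + T z + T (T z)) + (z + w ^ 2 • T z + w • T (T z)) + (z + w • T z + w ^ 2 • T (T z)) =
        (3 : F) • z + (w ^ 2 + w + 1) • T z + (w ^ 2 + w + 1) • T (T z) := by module
    rw [this, hw, zero_smul, zero_smul, add_zero, add_zero]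
  set f0 := z + w • T z + w ^ 2 • T (T z) with hf0
  have i0 : hermForm n F q e (z + T z + T (T z)) = 0 :=
    herm_eig h he e0 (by rw [one_pow, mul_one]; exact hw1)
  have i1 : hermForm n F q e (z + w ^ 2 • T z + w • T (T z)) = 0 :=
    herm_eig h he e1 (by rw [hwq, ← sq]; exact hw2)
  have hee : hermForm n F q e e = 0 := herm_eig h he he (by rw [hwq, ← sq]; exact hw2)
  have hff : hermForm n F q f0 f0 = 0 := herm_eig h e2 e2 (by
    rw [← pow_mul, mul_comm 2 q, pow_mul, hwq]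
    intro h4
    apply hw1
    linear_combination h4 - w * hw3)
  have hef : hermForm n F q e f0 ≠ 0 := by
    intro h4
    apply hz
    have h5 := congrArg (fun v => hermForm n F q e v) hsum
    simp only [herm_add_right hF, herm_smul_right] at h5
    rw [herm_add_right hF, herm_add_right hF] at i0 i1
    simp only [herm_smul_right] at i0 i1
    have h6 : (3 : F) ^ q * hermForm n F q e z = 0 := by linear_combination -h5 + i0 + i1 + h4
    exact (mul_eq_zero.1 h6).resolve_left (pow_ne_zero _ h3)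
  set s : F := ((hermForm n F q e f0)⁻¹) ^ q with hs
  have hsq : s ^ q = (hermForm n F q e f0)⁻¹ := pow_q_pow_q hF _
  have hTf : T (s • f0) = w ^ 2 • (s • f0) := by rw [hsm, e2, smul_comm]
  have hef1 : hermForm n F q e (s • f0) = 1 := by rw [herm_smul_right, hsq, inv_mul_cancel₀ hef]
  have hfe1 : hermForm n F q (s • f0) e = 1 := by rw [herm_swap hF, hef1, one_pow]
  have hff1 : hermForm n F q (s • f0) (s • f0) = 0 := by rw [herm_smul_left, herm_smul_right, hff, mul_zero, mul_zero]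
  obtain ⟨m, hm0, hm⟩ := exists_trace_zero_ne hF
  have key := kill_eig hC hF hn hq (p := p) h hR he hTf hm0 (by
    rw [hee, hff1, hef1, hfe1]
    norm_num) (by
    rw [herm_add_left, herm_add_right hF, herm_add_right hF, herm_smul_left m, herm_smul_right m, herm_smul_left m,
      herm_smul_right m, hee, hff1, hef1, hfe1]
    linear_combination hm)
  apply hw1
  have hw0 : w ≠ 0 := by rintro rfl; simp at hw3
  apply mul_left_cancel₀ hw0
  rw [mul_one, ← sq]
  exact key.symm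

/-- eigenspaces with `a ≠ b`, mutually orthogonal to the complement: two nondegenerate eigenspaces -/
theorem kill_two (hC : Crit) (hF : Fintype.card F = q ^ 2) (hn : 3 ≤ n) (hq : 4 ≤ q) {p : ℕ} [Fact p.Prime]
    [CharP F p] (h : _root_.Cfsg.Agent.UGT.U2.FOne.PSU.Rep x T 1) (hR : RN x) {a b : F} (hab : a ≠ b)
    (ha : ∃ e, T e = a • e ∧ hermForm n F q e e = 1) (hb : ∃ f, T f = b • f ∧ hermForm n F q f f = 1)
    (hort : ∀ u v, T u = a • u → T v = b • v → hermForm n F q u v = 0) : False := by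
  obtain ⟨e, he, hee⟩ := ha
  obtain ⟨f, hf, hff⟩ := hb
  have hef := hort e f he hf
  have hfe := herm_eq_zero_swap hF hef
  obtain ⟨m, hm⟩ := _root_.Cfsg.Agent.LieClassical.HermBasic.exists_norm_eq hF (c := -1) (by rw [neg_pow_q hF, one_pow])
  have hm0 : m ≠ 0 := by
    rintro rfl
    rw [zero_mul] at hm
    exact one_ne_zero (neg_eq_zero.1 hm.symm)
  refine hab (kill_eig hC hF hn hq (p := p) h hR he hf hm0 ?_ ?_)
  · rw [hee, hff, hef, hfe]
    norm_num
  · rw [herm_add_left, herm_add_right hF, herm_add_right hF, herm_smul_left, herm_smul_right, herm_smul_left,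
      herm_smul_right, hee, hff, hef, hfe]
    linear_combination hm

/-- a norm one eigenvector, if the eigenspace is nonzero and orthogonal to the other ones -/
theorem exists_unit_eig (hF : Fintype.card F = q ^ 2) (h : _root_.Cfsg.Agent.UGT.U2.FOne.PSU.Rep x T 1) {a : F} {e : Fin n → F} (he : T e = a • e)
    (he0 : e ≠ 0) (hnd : ∀ u, T u = a • u → (∀ v, T v = a • v → hermForm n F q u v = 0) → u = 0) :
    ∃ f, T f = a • f ∧ hermForm n F q f f = 1 := by
  have hsm : ∀ (c : F) v, T (c • v) = c • T v := fun c v => h.smul c v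
  obtain ⟨f, hf, hff⟩ := exists_norm_one_vector hF (eig h.add hsm a) (fun u hu hu' => hnd u hu fun v hv => hu' v hv)
    (fun hb => he0 ((Submodule.mem_bot F).1 (hb ▸ (show e ∈ eig h.add hsm a from he))))
  exact ⟨f, hf, hff⟩

/-- **`T ^ 3 = 1`** -/
theorem kill_one (hC : Crit) (hF : Fintype.card F = q ^ 2) (hn : 3 ≤ n) (hq : 4 ≤ q) {p : ℕ} [Fact p.Prime]
    [CharP F p] (hp3 : p ≠ 3) (h : _root_.Cfsg.Agent.UGT.U2.FOne.PSU.Rep x T 1) (hR : RN x) (hT : ∀ v, T (T (T v)) = v) : x = 1 := by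
  have h3 := three_ne (F := F) hp3
  have hq3 := not_three_dvd (F := F) hp3 hF
  have hsm : ∀ (c : F) v, T (c • v) = c • T v := fun c v => h.smul c v
  obtain ⟨w, hw1, hw3, hw⟩ := exists_omega (F := F) (q := q) hp3 hF
  have hw0 : w ≠ 0 := by rintro rfl; simp at hw3
  have hw2 : w ^ 2 ≠ 1 := by
    intro h2
    apply hw1
    linear_combination hw3 - w * h2
  have e0 : ∀ z, T (z + T z + T (T z)) = (1 : F) • (z + T z + T (T z)) := by
    intro z
    rw [h.add, h.add, hT, one_smul]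
    abel
  have e1 : ∀ z, T (z + w ^ 2 • T z + w • T (T z)) = w • (z + w ^ 2 • T z + w • T (T z)) := by
    intro z
    rw [h.add, h.add, hsm, hsm, hT, smul_add, smul_add, smul_smul, smul_smul]
    rw [show w * w ^ 2 = 1 by linear_combination hw3, one_smul, ← sq]
    abel
  have e2 : ∀ z, T (z + w • T z + w ^ 2 • T (T z)) = (w ^ 2) • (z + w • T z + w ^ 2 • T (T z)) := by
    intro z
    rw [h.add, h.add, hsm, hsm, hT, smul_add, smul_add, smul_smul, smul_smul]
    rw [show w ^ 2 * w = 1 by linear_combination hw3, one_smul,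
      show w ^ 2 * w ^ 2 = w by linear_combination w * hw3]
    abel
  have hsum : ∀ z, (z + T z + T (T z)) + (z + w ^ 2 • T z + w • T (T z)) + (z + w • T z + w ^ 2 • T (T z)) =
      (3 : F) • z := by
    intro z
    have : (z + T z + T (T z)) + (z + w ^ 2 • T z + w • T (T z)) + (z + w • T z + w ^ 2 • T (T z)) =
        (3 : F) • z + (w ^ 2 + w + 1) • T z + (w ^ 2 + w + 1) • T (T z) := by module
    rw [this, hw, zero_smul, zero_smul, add_zero, add_zero]
  by_contra hx
  -- `T` is not a scalar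
  have hns : ∀ c : F, c ≠ 0 → ∃ v, T v ≠ c • v := by
    intro c hc
    by_contra hcon
    push Not at hcon
    exact hx (h.eq_one hc hcon)
  -- nonzero components
  have hcomp : ∀ z c, T z ≠ c • z → ∃ a e, (a = 1 ∨ a = w ∨ a = w ^ 2) ∧ a ≠ c ∧ T e = a • e ∧ e ≠ 0 := by
    intro z c hz
    by_contra hcon
    push Not at hcon
    have k : ∀ a e, (a = 1 ∨ a = w ∨ a = w ^ 2) → T e = a • e → T e = c • e := by
      intro a e ha he
      by_cases hac : a = c
      · rw [he, hac]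
      · rw [hcon a e ha hac he, h.zero, smul_zero]
    apply hz
    have k0 := k _ _ (Or.inl rfl) (e0 z)
    have k1 := k _ _ (Or.inr (Or.inl rfl)) (e1 z)
    have k2 := k _ _ (Or.inr (Or.inr rfl)) (e2 z)
    have hs := congrArg T (hsum z)
    rw [hsm, h.add, h.add, k0, k1, k2, ← smul_add, ← smul_add, hsum, smul_comm] at hs
    exact (smul_right_injective _ h3 hs).symm
  rcases omega_pow_q hw3 hq3 with hwq | hwq
  · -- `ω ^ q = ω`
    obtain ⟨v, hv⟩ := hns 1 one_ne_zero
    obtain ⟨a, e, ha, ha1, he, he0⟩ := hcomp v 1 hv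
    rcases ha with rfl | rfl | rfl
    · exact ha1 rfl
    · exact kill_aux hC hF hn hq (p := p) hp3 h hR hT hw1 hw3 hw hwq he he0
    · refine kill_aux hC hF hn hq (p := p) hp3 h hR hT (w := w ^ 2) hw2 ?_ ?_ ?_ he he0
      · rw [← pow_mul, mul_comm, pow_mul, hw3, one_pow]
      · linear_combination hw + w * hw3
      · rw [← pow_mul, mul_comm, pow_mul, hwq]
  · -- `ω ^ q = ω ^ 2`
    have hnorm : ∀ a : F, (a = 1 ∨ a = w ∨ a = w ^ 2) → a * a ^ q = 1 := by
      rintro a (rfl | rfl | rfl)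
      · rw [one_pow, mul_one]
      · rw [hwq]; linear_combination hw3
      · rw [← pow_mul, mul_comm 2 q, pow_mul, hwq]
        linear_combination (w ^ 3 + 1) * hw3
    have hne : ∀ a b : F, (a = 1 ∨ a = w ∨ a = w ^ 2) → (b = 1 ∨ b = w ∨ b = w ^ 2) → a ≠ b → a * b ^ q ≠ 1 := by
      intro a b _ hb hab h1
      apply hab
      have hb' := hnorm b hb
      have hb0 : b ^ q ≠ 0 := by
        intro h0
        rw [h0, mul_zero] at hb'
        exact zero_ne_one hb'
      exact mul_right_cancel₀ hb0 (h1.trans hb'.symm)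
    have hort : ∀ a b : F, (a = 1 ∨ a = w ∨ a = w ^ 2) → (b = 1 ∨ b = w ∨ b = w ^ 2) → a ≠ b →
        ∀ u v, T u = a • u → T v = b • v → hermForm n F q u v = 0 :=
      fun a b ha hb hab u v hu hv => herm_eig h hu hv (hne a b ha hb hab)
    have hnd : ∀ a : F, (a = 1 ∨ a = w ∨ a = w ^ 2) → ∀ u, T u = a • u →
        (∀ v, T v = a • v → hermForm n F q u v = 0) → u = 0 := by
      intro a ha u hu hu'
      have k : ∀ b v, (b = 1 ∨ b = w ∨ b = w ^ 2) → T v = b • v → hermForm n F q u v = 0 := by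
        intro b v hb hv
        by_cases hab : a = b
        · subst hab; exact hu' v hv
        · exact hort a b ha hb hab u v hu hv
      refine herm_nondeg hF fun z => ?_
      have hs := congrArg (fun v => hermForm n F q u v) (hsum z)
      rw [herm_add_right hF, herm_add_right hF, k _ _ (Or.inl rfl) (e0 z), k _ _ (Or.inr (Or.inl rfl)) (e1 z),
        k _ _ (Or.inr (Or.inr rfl)) (e2 z), add_zero, add_zero, herm_smul_right] at hs
      exact (mul_eq_zero.1 hs.symm).resolve_left (pow_ne_zero _ h3)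
    obtain ⟨v, hv⟩ := hns 1 one_ne_zero
    obtain ⟨a, e, ha, -, he, he0⟩ := hcomp v 1 hv
    have ha0 : a ≠ 0 := by
      rcases ha with rfl | rfl | rfl
      · exact one_ne_zero
      · exact hw0
      · exact pow_ne_zero 2 hw0
    obtain ⟨v', hv'⟩ := hns a ha0
    obtain ⟨b, f, hb, hba, hf, hf0⟩ := hcomp v' a hv'
    exact kill_two hC hF hn hq (p := p) h hR hba.symm (exists_unit_eig hF h he he0 (hnd a ha))
      (exists_unit_eig hF h hf hf0 (hnd b hb)) (hort a b ha hb hba.symm)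

/-- **`T ^ 3 = c` with `c` a cube of an element of norm one** -/
theorem kill_cube (hC : Crit) (hF : Fintype.card F = q ^ 2) (hn : 3 ≤ n) (hq : 4 ≤ q) {p : ℕ} [Fact p.Prime]
    [CharP F p] (hp3 : p ≠ 3) (h : _root_.Cfsg.Agent.UGT.U2.FOne.PSU.Rep x T 1) (hR : RN x) {c d : F} (hT : ∀ v, T (T (T v)) = c • v)
    (hd : d * d ^ q = 1) (hdc : d ^ 3 = c) : x = 1 := by
  have hsm : ∀ (c : F) v, T (c • v) = c • T v := fun c v => h.smul c v
  have hd0 : d ≠ 0 := by
    rintro rfl
    rw [zero_mul] at hd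
    exact zero_ne_one hd
  have hd' : d⁻¹ * d⁻¹ ^ q = 1 := by rw [inv_pow, ← mul_inv, hd, inv_one]
  refine kill_one hC hF hn hq (p := p) hp3 (h.smulc hd') hR fun v => ?_
  rw [hsm, hsm, hsm, hT, smul_smul, smul_smul, smul_smul, ← hdc]
  have : d⁻¹ * d⁻¹ * d⁻¹ * d ^ 3 = 1 := by field_simp
  rw [this, one_smul]

end One

section Cube

variable {F : Type} [Field F] [Fintype F] {q : ℕ}

/-- a cube of norm one is the cube of an element of norm one -/
theorem exists_cube {p : ℕ} [Fact p.Prime] [CharP F p] (hp3 : p ≠ 3) (hF : Fintype.card F = q ^ 2) {a c : F}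
    (hc : c * c ^ q = 1) (ha : a ^ 3 = c) : ∃ d : F, d * d ^ q = 1 ∧ d ^ 3 = c := by
  have hq3 := not_three_dvd (F := F) hp3 hF
  have hq2 := two_le hF
  have ha0 : a ≠ 0 := by
    rintro rfl
    rw [← ha] at hc
    simp at hc
  have h1 : q % 3 = 1 ∨ q % 3 = 2 := by omega
  rcases h1 with h1 | h1
  · -- `3 ∣ q - 1`: cubing is bijective on the elements of norm one
    obtain ⟨s, hs⟩ : ∃ s, 3 * s = 2 * (q + 1) - 1 := ⟨(2 * (q + 1) - 1) / 3, by omega⟩
    have hc1 : c ^ (q + 1) = 1 := by rw [pow_succ, mul_comm]; exact hc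
    have hc0 : c ≠ 0 := by
      rintro rfl
      simp at hc
    -- `c ^ (3 s) = c ^ (-1)`
    refine ⟨(c⁻¹) ^ s, ?_, ?_⟩
    · rw [← pow_mul, mul_comm s q, pow_mul, ← mul_pow, ← pow_succ', inv_pow, hc1, inv_one, one_pow]
    · rw [← pow_mul, mul_comm, hs]
      apply mul_right_cancel₀ (inv_ne_zero hc0)
      rw [← pow_succ, show 2 * (q + 1) - 1 + 1 = (q + 1) * 2 by omega, pow_mul, inv_pow, hc1, inv_one, one_pow,
        mul_inv_cancel₀ hc0]
  · refine ⟨a, ?_, ha⟩
    have hN3 : (a * a ^ q) ^ 3 = 1 := by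
      rw [mul_pow, ← pow_mul, mul_comm q 3, pow_mul, ha, hc]
    have hNq : (a * a ^ q) ^ (q - 1) = 1 := by
      have hN0 : a * a ^ q ≠ 0 := mul_ne_zero ha0 (pow_ne_zero _ ha0)
      apply mul_right_cancel₀ hN0
      rw [← pow_succ, one_mul, Nat.sub_add_cancel (by omega)]
      exact norm_pow_q hF a
    have h3 : orderOf (a * a ^ q) ∣ 3 := orderOf_dvd_of_pow_eq_one hN3
    have h4 : orderOf (a * a ^ q) ∣ q - 1 := orderOf_dvd_of_pow_eq_one hNq
    rcases (Nat.dvd_prime Nat.prime_three).1 h3 with h5 | h5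
    · exact orderOf_eq_one_iff.1 h5
    · rw [h5] at h4
      omega

end Cube

end Cfsg.Agent.H858.SN
end

-- part: H858/SN/PsuC
section
/-!
# S3831, row C3 (helper858): `PSU_n(q)`, `n ≥ 4`, linear automorphisms with `T ^ 3 = c` not a cube

`kill_irr` : there is a totally isotropic invariant irreducible subspace of dimension three, its stabiliser maps onto
`PSL_3`, and `irr_false`.
-/

set_option autoImplicit false
set_option linter.unusedSectionVars false

namespace Cfsg.Agent.H858.SN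

open Cfsg Cfsg.Agent.LieClassical.HermBasic Cfsg.Agent.LieClassical.HermSiegel
  Cfsg.Agent.LieClassical.HermGen Cfsg.Agent.LieClassical.SUBasic Matrix
  Cfsg.Agent.ClassicalGeometry.PSUAutBasic Cfsg.Agent.ClassicalGeometry.HermOrtho Module

open Cfsg.Agent.UGT.U2.FOne.PSU Cfsg.Agent.H21.SN Cfsg.Agent.H459.Rad

section Lin

open Polynomial

variable {F : Type*} [Field F] {V : Type*} [AddCommGroup V] [Module F V]

/-- `v, L v, L² v` are linearly independent if `L³ = c` is not a cube -/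
theorem li_three {L : V →ₗ[F] V} {c : F} (hL : ∀ v, L (L (L v)) = c • v) (hc : ∀ a : F, a ^ 3 ≠ c) {v : V}
    (hv : v ≠ 0) : LinearIndependent F ![v, L v, L (L v)] := by
  rw [Fintype.linearIndependent_iff]
  intro g hg
  rw [Fin.sum_univ_three] at hg
  change g 0 • v + g 1 • L v + g 2 • L (L v) = 0 at hg
  have hirr : Irreducible (X ^ 3 - C c : F[X]) := X_pow_sub_C_irreducible_of_prime Nat.prime_three hc
  have hdeg : (X ^ 3 - C c : F[X]).natDegree = 3 := natDegree_X_pow_sub_C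
  set P : F[X] := C (g 0) + C (g 1) * X + C (g 2) * X ^ 2 with hP
  have hPdeg : P.natDegree ≤ 2 := by
    rw [hP]
    compute_degree
  have hPv : aeval L P v = 0 := by
    rw [hP]
    simp only [map_add, map_mul, aeval_C, aeval_X, map_pow, Module.algebraMap_end_eq_smul_id, LinearMap.add_apply]
    simp only [LinearMap.smul_apply, LinearMap.id_coe, id_eq, Module.End.mul_apply, pow_two]
    exact hg
  have hQv : aeval L (X ^ 3 - C c : F[X]) = 0 := by
    apply LinearMap.ext
    intro u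
    rw [map_sub, map_pow, aeval_X, aeval_C, LinearMap.sub_apply, Module.algebraMap_end_eq_smul_id,
      LinearMap.smul_apply, pow_succ, pow_two, Module.End.mul_apply, Module.End.mul_apply, hL]
    simp
  have hP0 : P = 0 := by
    by_contra hne
    have hco : IsCoprime (X ^ 3 - C c : F[X]) P := by
      rw [hirr.coprime_iff_not_dvd]
      intro hd
      have := natDegree_le_of_dvd hd hne
      omega
    obtain ⟨a, b, hab⟩ := hco
    apply hv
    have h1 : aeval L (a * (X ^ 3 - C c) + b * P) v = v := by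
      rw [hab, map_one]
      rfl
    rw [← h1, map_add, map_mul, map_mul, hQv, mul_zero, zero_add, Module.End.mul_apply, hPv, map_zero]
  have hcoef : ∀ i, P.coeff i = 0 := fun i => by rw [hP0, coeff_zero]
  have c0 := hcoef 0
  have c1 := hcoef 1
  have c2 := hcoef 2
  simp only [hP, coeff_add, coeff_C_mul, coeff_C, coeff_X, coeff_X_pow] at c0 c1 c2
  norm_num at c0 c1 c2
  intro i
  fin_cases i
  · exact c0
  · exact c1
  · exact c2

end Lin

section Comp

variable {F : Type*} [Field F]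

/-- the companion matrix of `X ^ 3 - c` -/
def cmp (c : F) : Matrix (Fin 3) (Fin 3) F := !![0, 0, c; 1, 0, 0; 0, 1, 0]

theorem cmp_mulVec (c : F) (u : Fin 3 → F) : cmp c *ᵥ u = ![c * u 2, u 0, u 1] := by
  ext i
  (revert i; simp only [cmp, Matrix.mulVec, dotProduct, Fin.sum_univ_three, _root_.Fin.forall_fin_succ, _root_.Matrix.of_apply, _root_.Matrix.cons_val', _root_.Matrix.cons_val_fin_one, Fin.isValue, _root_.Matrix.cons_val_zero, _root_.Matrix.cons_val_one, _root_.Matrix.cons_val, _root_.Nat.succ_eq_add_one, Nat.reduceAdd, _root_.MulZeroClass.zero_mul, _root_.add_zero, _root_.zero_add, _root_.Matrix.cons_val_succ, _root_.one_mul, _root_.implies_true, _root_.and_self])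

theorem det_cmp (c : F) : (cmp c).det = c := by
  rw [cmp, Matrix.det_fin_three]
  simp

theorem cmp_cube (c : F) : cmp c ^ 3 = c • 1 := by
  apply Matrix.ext_of_mulVec_single
  intro i
  rw [pow_succ, pow_two, ← mulVec_mulVec, ← mulVec_mulVec, cmp_mulVec, cmp_mulVec, cmp_mulVec, smul_mulVec, one_mulVec]
  ext j
  (revert j; simp only [_root_.Fin.forall_fin_succ, _root_.Nat.succ_eq_add_one, Nat.reduceAdd, Fin.isValue, _root_.Matrix.cons_val, _root_.Matrix.cons_val_zero, _root_.Matrix.cons_val_one, _root_.Pi.smul_apply, _root_.smul_eq_mul, _root_.Matrix.cons_val_succ, _root_.Fin.succ_zero_eq_one, _root_.Matrix.cons_val_fin_one, _root_.mul_eq_mul_left_iff, _root_.Fin.succ_one_eq_two, _root_.true_or, _root_.IsEmpty.forall_iff, _root_.and_self])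

/-- the companion matrix has no invariant subspaces -/
theorem cmp_irr {c : F} (hc : ∀ a : F, a ^ 3 ≠ c) (W : Submodule F (Fin 3 → F)) (hW : ∀ w ∈ W, cmp c *ᵥ w ∈ W) :
    W = ⊥ ∨ W = ⊤ := by
  by_cases h : W = ⊥
  · exact Or.inl h
  right
  obtain ⟨w, hw, hw0⟩ := Submodule.exists_mem_ne_zero_of_ne_bot h
  have hL : ∀ v, (Matrix.mulVecLin (cmp c)) ((Matrix.mulVecLin (cmp c)) ((Matrix.mulVecLin (cmp c)) v)) = c • v := by
    intro v
    rw [Matrix.mulVecLin_apply, Matrix.mulVecLin_apply, Matrix.mulVecLin_apply, mulVec_mulVec, mulVec_mulVec]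
    have h1 : cmp c * (cmp c) * cmp c = c • 1 := by rw [← cmp_cube, pow_succ, pow_two]
    rw [h1, smul_mulVec, one_mulVec]
  have hli := li_three hL hc hw0
  have hW1 := hW w hw
  have hW2 := hW _ hW1
  have hle : Submodule.span F (Set.range ![w, (Matrix.mulVecLin (cmp c)) w,
      (Matrix.mulVecLin (cmp c)) ((Matrix.mulVecLin (cmp c)) w)]) ≤ W := by
    rw [Submodule.span_le]
    rintro _ ⟨i, rfl⟩
    fin_cases i
    · exact hw
    · exact hW1
    · exact hW2
  have h2 := hli.span_eq_top_of_card_eq_finrank (by rw [Fintype.card_fin, Module.finrank_fin_fun])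
  rw [h2] at hle
  exact top_le_iff.1 hle

end Comp

section Stab

variable {F : Type} [Field F] [Fintype F] {q n : ℕ}

/-- the matrix -/
def sm (s : _root_.Matrix.SpecialLinearGroup (Fin 3) F) : Matrix (Fin 3) (Fin 3) F := s.1

theorem sm_one : sm (1 : _root_.Matrix.SpecialLinearGroup (Fin 3) F) = 1 := rfl

theorem sm_mul (s t : _root_.Matrix.SpecialLinearGroup (Fin 3) F) : sm (s * t) = sm s * sm t := rfl

theorem sm_mul_inv (s : _root_.Matrix.SpecialLinearGroup (Fin 3) F) : sm s * sm s⁻¹ = 1 := by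
  rw [← sm_mul, mul_inv_cancel, sm_one]

theorem sm_inj {s t : _root_.Matrix.SpecialLinearGroup (Fin 3) F} (h : sm s = sm t) : s = t := Subtype.ext h

/-- the elements of `SU` acting on the image of `β` by elements of `SL_3` -/
def Mt (q : ℕ) (β : (Fin 3 → F) →ₗ[F] (Fin n → F)) : Subgroup (SU n F q) where
  carrier := {g | ∃ s : _root_.Matrix.SpecialLinearGroup (Fin 3) F, ∀ u, act g (β u) = β (sm s *ᵥ u)}
  one_mem' := ⟨1, fun u => by rw [act_one, sm_one, one_mulVec]⟩
  mul_mem' := by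
    rintro a b ⟨s, hs⟩ ⟨t, ht⟩
    exact ⟨s * t, fun u => by rw [act_mul, ht, hs, mulVec_mulVec, sm_mul]⟩
  inv_mem' := by
    rintro a ⟨s, hs⟩
    refine ⟨s⁻¹, fun u => ?_⟩
    have h1 : β u = act a (β (sm s⁻¹ *ᵥ u)) := by
      rw [hs, mulVec_mulVec, sm_mul_inv, one_mulVec]
    rw [h1, act_inv_act]

variable {β : (Fin 3 → F) →ₗ[F] (Fin n → F)}

theorem sl_ext (hβ : Function.Injective β) {s t : _root_.Matrix.SpecialLinearGroup (Fin 3) F}
    (h : ∀ u, β (sm s *ᵥ u) = β (sm t *ᵥ u)) : s = t := by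
  apply sm_inj
  apply Matrix.ext_of_mulVec_single
  intro i
  exact hβ (h _)

/-- the restriction -/
noncomputable def rs (q : ℕ) (hβ : Function.Injective β) : Mt q β →* _root_.Matrix.SpecialLinearGroup (Fin 3) F where
  toFun g := g.2.choose
  map_one' := by
    apply sl_ext hβ
    intro u
    rw [← (1 : Mt q β).2.choose_spec, sm_one, one_mulVec]
    exact act_one _
  map_mul' a b := by
    apply sl_ext hβ
    intro u
    rw [← (a * b).2.choose_spec, sm_mul, ← mulVec_mulVec, ← a.2.choose_spec, ← b.2.choose_spec]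
    exact act_mul _ _ _

theorem rs_spec (hβ : Function.Injective β) (g : Mt q β) (u : Fin 3 → F) :
    act (g : SU n F q) (β u) = β (sm (rs q hβ g) *ᵥ u) := g.2.choose_spec u

theorem rs_eq (hβ : Function.Injective β) {g : Mt q β} {s : _root_.Matrix.SpecialLinearGroup (Fin 3) F}
    (h : ∀ u, act (g : SU n F q) (β u) = β (sm s *ᵥ u)) : rs q hβ g = s :=
  sl_ext hβ fun u => by rw [← rs_spec, h]

/-- **surjectivity of the restriction** -/
theorem rs_surjective (hF : Fintype.card F = q ^ 2) (hβ : Function.Injective β)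
    (hiso : ∀ u v, hermForm n F q (β u) (β v) = 0) : Function.Surjective (rs q hβ) := by
  have hli : LinearIndependent F fun i : Fin 3 => β (Pi.single i 1) := by
    rw [Fintype.linearIndependent_iff]
    intro g hg i
    have h1 : β (∑ j, g j • (Pi.single j 1 : Fin 3 → F)) = β 0 := by
      rw [map_sum, map_zero, ← hg]
      exact Finset.sum_congr rfl fun j _ => map_smul _ _ _
    have h2 := congrFun (hβ h1) i
    rw [Finset.sum_apply, Pi.zero_apply] at h2
    rw [← h2, Finset.sum_eq_single i]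
    · rw [Pi.smul_apply, Pi.single_eq_same, smul_eq_mul, mul_one]
    · intro j _ hj
      rw [Pi.smul_apply, Pi.single_eq_of_ne (Ne.symm hj), smul_zero]
    · intro h
      exact absurd (Finset.mem_univ i) h
  obtain ⟨f, hf, hff⟩ := ClassicalGeometry.HermFrame.exists_hyperbolic hF hli fun i j => hiso _ _
  have hβf : ∀ u j, hermForm n F q (β u) (f j) = u j := by
    intro u j
    have h1 : u = ∑ i, u i • (Pi.single i 1 : Fin 3 → F) := by
      funext k
      rw [Finset.sum_apply, Finset.sum_eq_single k]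
      · rw [Pi.smul_apply, Pi.single_eq_same, smul_eq_mul, mul_one]
      · intro j _ hj
        rw [Pi.smul_apply, Pi.single_eq_of_ne (Ne.symm hj), smul_zero]
      · intro h
        exact absurd (Finset.mem_univ k) h
    conv_lhs => rw [h1]
    rw [map_sum, herm_sum_left, Finset.sum_eq_single j]
    · rw [map_smul, herm_smul_left, hf, if_pos rfl, mul_one]
    · intro k _ hk
      rw [map_smul, herm_smul_left, hf, if_neg hk, mul_zero]
    · intro h
      exact absurd (Finset.mem_univ j) h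
  intro s
  have key : ∀ s, s ∈ (rs q hβ).range := by
    refine Cfsg.Agent.LieClassical.SLGen.transvection_induction _ (fun i j hij c => ?_) fun _ _ => mul_mem
    have hs : IsSiegel q (f j) (c • β (Pi.single i 1)) 0 := by
      refine ⟨hff _ _, ?_, ?_⟩
      · rw [herm_smul_left, hf, if_neg hij, mul_zero]
      · rw [herm_smul_left, herm_smul_right, hiso, mul_zero, mul_zero, zero_pow_q hF, add_zero, add_zero]
    have hact : ∀ u, act (siegel hF (f j) (c • β (Pi.single i 1)) 0 hs) (β u) =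
        β (sm (SpecialLinearGroup.transvection hij c : _root_.Matrix.SpecialLinearGroup (Fin 3) F) *ᵥ u) := by
      intro u
      have h1 := Cfsg.Agent.LieClassical.SLGen.transvection_smul hij c u
      rw [Matrix.SpecialLinearGroup.smul_def] at h1
      have h2 : sm (SpecialLinearGroup.transvection hij c : _root_.Matrix.SpecialLinearGroup (Fin 3) F) *ᵥ u =
          u + (c * u j) • Pi.single i (1 : F) := h1
      rw [h2, act_siegel, map_add, map_smul, hβf, herm_smul_right, hiso, mul_zero, zero_mul, sub_zero, zero_smul,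
        add_zero, smul_smul, mul_comm (u j) c]
    exact ⟨⟨_, _, hact⟩, rs_eq hβ hact⟩
  exact key s

end Stab

section Kill

open Cfsg.Agent.ClassicalGeometry.AutPSL.Auto (cj coe_cj lift_pr)
open Cfsg.Agent.ClassicalGeometry.PSUAutCount (gm)

variable {F : Type} [Field F] [Fintype F] {q n : ℕ} {x : MulAut (PSU n F q)} {T : (Fin n → F) → (Fin n → F)}

/-- **no totally isotropic irreducible invariant three-space** -/
theorem kill_irr (hF : Fintype.card F = q ^ 2) (hn : 4 ≤ n) (h : _root_.Cfsg.Agent.UGT.U2.FOne.PSU.Rep x T 1) (hP : PS 2 x) {c : F} (hc0 : c ≠ 0)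
    (hT : ∀ v, T (T (T v)) = c • v) (hc : ∀ a : F, a ^ 3 ≠ c) : False := by
  have hfin : Finite (PSU n F q) := Finite.of_surjective _ (pr_surjective (n := n) (F := F) (q := q))
  have hsm : ∀ (c : F) v, T (c • v) = c • T v := fun c v => h.smul c v
  obtain ⟨A, hA, -⟩ := h.exists_sg hF
  have hA' : ∀ v, gm A *ᵥ v = T v := fun v => hA v
  obtain ⟨v, hv0, hvv, hvT⟩ := Cfsg.Agent.H858.FixPsu.exists_isotropic hF hn (gm A)
  rw [hA'] at hvT
  let L : (Fin n → F) →ₗ[F] (Fin n → F) := { toFun := T, map_add' := h.add, map_smul' := fun c v => hsm c v }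
  have hli : LinearIndependent F ![v, L v, L (L v)] := li_three (L := L) hT hc hv0
  have swap : ∀ {a b : Fin n → F}, hermForm n F q a b = 0 → hermForm n F q b a = 0 := fun h => herm_eq_zero_swap hF h
  have hherm : ∀ a b, hermForm n F q (T a) (T b) = hermForm n F q a b := fun a b => h.herm a b
  have h11 : hermForm n F q (T v) (T v) = 0 := by rw [hherm, hvv]
  have h22 : hermForm n F q (T (T v)) (T (T v)) = 0 := by rw [hherm, h11]
  have h12 : hermForm n F q (T v) (T (T v)) = 0 := by rw [hherm, hvT]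
  have h02 : hermForm n F q v (T (T v)) = 0 := by
    rw [← hherm, hT, herm_smul_right, swap hvT, mul_zero]
  let β : (Fin 3 → F) →ₗ[F] (Fin n → F) := Fintype.linearCombination F ![v, L v, L (L v)]
  have hβ : Function.Injective β := linearIndependent_iff_injective_fintypeLinearCombination.1 hli
  have hβa : ∀ u, β u = u 0 • v + u 1 • T v + u 2 • T (T v) := by
    intro u
    change Fintype.linearCombination F ![v, L v, L (L v)] u = _
    rw [Fintype.linearCombination_apply, Fin.sum_univ_three]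
    rfl
  have hiso : ∀ u w, hermForm n F q (β u) (β w) = 0 := by
    intro u w
    rw [hβa, hβa]
    simp only [herm_add_left, herm_add_right hF, herm_smul_left, herm_smul_right, hvv, hvT, h11, h22, h12, h02,
      swap hvT, swap h12, swap h02, mul_zero, add_zero]
  have hTβ : ∀ u, T (β u) = β (cmp c *ᵥ u) := by
    intro u
    rw [hβa, hβa, cmp_mulVec, h.add, h.add, hsm, hsm, hsm, hT, smul_smul]
    change _ = (c * u 2) • v + u 0 • T v + u 1 • T (T v)
    rw [mul_comm (u 2) c]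
    abel
  let B : GL (Fin 3) F := Matrix.GeneralLinearGroup.mkOfDetNeZero (cmp c) (by rw [det_cmp]; exact hc0)
  have hB : (B : Matrix (Fin 3) (Fin 3) F) = cmp c := rfl
  -- the subgroup and the homomorphism
  set M : Subgroup (PSU n F q) := (Mt q β).map (pr n F q) with hM
  let g0 : Mt q β →* M := (pr n F q).subgroupMap (Mt q β)
  have hg0 : Function.Surjective g0 := (pr n F q).subgroupMap_surjective (Mt q β)
  let f0 : Mt q β →* Matrix.ProjectiveSpecialLinearGroup (Fin 3) F :=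
    (Cfsg.Agent.ClassicalGeometry.AutPSL.Root.pr).comp (rs q hβ)
  have hker : g0.ker ≤ f0.ker := by
    intro g hg
    have h1 : pr n F q (g : SU n F q) = 1 := congrArg Subtype.val (MonoidHom.mem_ker.1 hg)
    obtain ⟨ζ, hζ0, -, hζ⟩ := exists_scalar_of_mem_center hF (by omega) (pr_eq_one_iff.1 h1)
    rw [MonoidHom.mem_ker]
    change Cfsg.Agent.ClassicalGeometry.AutPSL.Root.pr (rs q hβ g) = 1
    rw [Cfsg.Agent.ClassicalGeometry.AutPSL.Root.pr_eq_one_iff, Matrix.SpecialLinearGroup.mem_center_iff]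
    have h2 : sm (rs q hβ g) = ζ • 1 := by
      apply Matrix.ext_of_mulVec_single
      intro i
      apply hβ
      rw [← rs_spec, hζ, smul_mulVec, one_mulVec, map_smul]
    refine ⟨ζ, ?_, ?_⟩
    · have h3 : (sm (rs q hβ g)).det = 1 := (rs q hβ g).2
      rw [h2, Matrix.det_smul, Matrix.det_one, mul_one] at h3
      exact h3
    · rw [Matrix.scalar_apply, ← Matrix.smul_one_eq_diagonal]
      exact h2.symm
  let f : M →* Matrix.ProjectiveSpecialLinearGroup (Fin 3) F := g0.liftOfSurjective hg0 ⟨f0, hker⟩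
  have hf : ∀ g : Mt q β, f (g0 g) = f0 g := fun g =>
    MonoidHom.liftOfRightInverse_comp_apply g0 _ _ ⟨f0, hker⟩ g
  have hfs : Function.Surjective f := by
    intro y
    obtain ⟨s, rfl⟩ := Cfsg.Agent.ClassicalGeometry.AutPSL.Root.pr_surjective y
    obtain ⟨g, rfl⟩ := rs_surjective hF hβ hiso s
    exact ⟨g0 g, hf g⟩
  -- the action of `x`
  have hx : ∀ g : Mt q β, ∃ g' : Mt q β, x (pr n F q (g : SU n F q)) = pr n F q (g' : SU n F q) ∧
      rs q hβ g' = cj B (rs q hβ g) := by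
    intro g
    obtain ⟨g', h1, h2⟩ := h.lift g
    have h3 : ∀ u, act g' (β u) = β (sm (cj B (rs q hβ g)) *ᵥ u) := by
      intro u
      have e1 : u = cmp c *ᵥ (((B⁻¹ : GL (Fin 3) F) : Matrix (Fin 3) (Fin 3) F) *ᵥ u) := by
        rw [← hB, mulVec_mulVec, ← Units.val_mul, mul_inv_cancel, Units.val_one, one_mulVec]
      have e2 : sm (cj B (rs q hβ g)) = cmp c * sm (rs q hβ g) * ((B⁻¹ : GL (Fin 3) F) : Matrix (Fin 3) (Fin 3) F) :=
        coe_cj B (rs q hβ g)
      conv_lhs => rw [e1]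
      rw [← hTβ, h2, rs_spec hβ, hTβ, e2, mulVec_mulVec, mulVec_mulVec]
    exact ⟨⟨g', _, h3⟩, h1, rs_eq hβ h3⟩
  have hMx : ∀ m ∈ M, x m ∈ M := by
    rintro _ ⟨g, hg, rfl⟩
    obtain ⟨g', h1, -⟩ := hx ⟨g, hg⟩
    change x (pr n F q g) ∈ M
    rw [h1]
    exact ⟨g', g'.2, rfl⟩
  have hy : ∀ m : M, f ⟨x m, hMx m m.2⟩ = Cfsg.Agent.ClassicalGeometry.AutPSL.Auto.lift (cj B) (f m) := by
    intro m
    obtain ⟨g, rfl⟩ := hg0 m
    obtain ⟨g', h1, h2⟩ := hx g
    have h3 : (⟨x (g0 g), hMx _ (g0 g).2⟩ : M) = g0 g' := Subtype.ext h1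
    rw [h3, hf, hf]
    change Cfsg.Agent.ClassicalGeometry.AutPSL.Root.pr (rs q hβ g') =
      Cfsg.Agent.ClassicalGeometry.AutPSL.Auto.lift (cj B) (Cfsg.Agent.ClassicalGeometry.AutPSL.Root.pr (rs q hβ g))
    rw [lift_pr, h2]
  have hPy := PS.sec hP hMx f hfs _ hy
  refine Cfsg.Agent.H746.PslThree.irr_false (A := B) (c := c) ?_ ?_ (Cfsg.Agent.H959.Rad3.inv_of_ps le_rfl hPy)
  · rw [hB, cmp_cube]
  · intro W hW
    exact cmp_irr hc W fun w hw => hW w hw

end Kill

end Cfsg.Agent.H858.SN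
end

-- part: H858/SN/PsuD
section
/-!
# S3831, row C3 (helper858): `PSU_n(q)`, `n ≥ 4`, characteristic not three, `q ≠ 2`

* `g3_PSU`, `g3_psu` : **the row**.
-/

set_option autoImplicit false
set_option linter.unusedSectionVars false

namespace Cfsg.Agent.H858.SN

open Cfsg Cfsg.Agent.LieClassical.HermBasic Cfsg.Agent.LieClassical.HermSiegel
  Cfsg.Agent.LieClassical.HermGen Cfsg.Agent.LieClassical.SUBasic Matrix
  Cfsg.Agent.ClassicalGeometry.PSUAutBasic Cfsg.Agent.ClassicalGeometry.HermOrtho Module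

open Cfsg.Agent.UGT.U2.FOne.PSU Cfsg.Agent.H21.SN Cfsg.Agent.H459.Rad
open Cfsg.Agent.ClassicalGeometry.PSUAutCount (gm toAut gm_one)
open Cfsg.Agent.KFacts.Unit (sg sg_add sg_smul herm_sg)

variable {F : Type} [Field F] [Fintype F] {q n : ℕ}

/-- **field automorphisms** -/
theorem kill_fld (hC : Crit) (hF : Fintype.card F = q ^ 2) (hn : 3 ≤ n) (hq : 4 ≤ q) {p : ℕ} [Fact p.Prime]
    [CharP F p] {A : GU n F q} {ρ : F ≃+* F} (hρ : ρ ≠ 1) (h3 : toAut A ρ ^ 3 = 1)
    (hR : RN (toAut A ρ : MulAut (PSU n F q))) : False := by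
  have hfin : Finite (PSU n F q) := Finite.of_surjective _ (pr_surjective (n := n) (F := F) (q := q))
  obtain ⟨hord, M, hM⟩ := CpAutU.Desc.exists_conj hF hn Nat.prime_three (by norm_num) h3 hρ
  set y : MulAut (PSU n F q) := toAut M 1 with hy
  have hR1 : RN (toAut 1 ρ : MulAut (PSU n F q)) := by
    have h1 := hR.tr y⁻¹
    have h2 : tr y⁻¹ (toAut A ρ : MulAut (PSU n F q)) = toAut 1 ρ := by
      rw [hM]
      ext k
      rw [tr_apply]
      have e1 : (y⁻¹ : MulAut (PSU n F q)).symm k = y k := rfl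
      rw [e1]
      have e2 : (y⁻¹ * (y * toAut 1 ρ * y⁻¹) * y : MulAut (PSU n F q)) = toAut 1 ρ := by group
      exact congrArg (fun z : MulAut (PSU n F q) => z k) e2
    rwa [h2] at h1
  have hRep := rep_toAut (1 : GU n F q) ρ
  set T := sg (1 : GU n F q) ρ with hT
  have hTs : ∀ i : Fin n, T (Pi.single i 1) = Pi.single i 1 := by
    intro i
    change gm (1 : GU n F q) *ᵥ (fun j => ρ ((Pi.single i 1 : Fin n → F) j)) = _
    rw [gm_one, one_mulVec]
    funext j
    by_cases hj : j = i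
    · subst hj; rw [Pi.single_eq_same, map_one]
    · rw [Pi.single_eq_of_ne hj, map_zero]
  obtain ⟨i0, hi0⟩ : ∃ i : Fin n, i = ⟨0, by omega⟩ := ⟨_, rfl⟩
  obtain ⟨i1, hi1⟩ : ∃ i : Fin n, i = ⟨1, by omega⟩ := ⟨_, rfl⟩
  have hne : i0 ≠ i1 := by rw [hi0, hi1]; simp
  have hs : ∀ i j : Fin n, hermForm n F q (Pi.single i 1) (Pi.single j 1) = if i = j then 1 else 0 := by
    intro i j
    rw [herm_single_right hF, one_pow, mul_one, Pi.single_apply]
    by_cases hij : i = j
    · rw [if_pos hij, if_pos hij.symm]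
    · rw [if_neg hij, if_neg (Ne.symm hij)]
  obtain ⟨hW, hk⟩ := plane_facts (F := F) (q := q) (e := Pi.single i0 1) (f := Pi.single i1 1) (by
    rw [hs, hs, hs, hs, if_pos rfl, if_pos rfl, if_neg hne, if_neg hne.symm]
    norm_num)
  refine hρ (kill_field hC hF hn hq (p := p) hRep hR1 _ hW hk ?_ (m := 3) (by decide) ?_)
  · intro w hw
    obtain ⟨a, b, rfl⟩ := Submodule.mem_span_pair.1 hw
    rw [hRep.add, hRep.smul, hRep.smul, hTs, hTs]
    exact Submodule.mem_span_pair.2 ⟨_, _, rfl⟩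
  · rw [← hord, pow_orderOf_eq_one]

/-- **the row `PSU_n(q)`** -/
theorem g3_PSU (hC : Crit) {r : ℕ} [Fact r.Prime] [CharP F r] (hr : r ≠ 3) (hF : Fintype.card F = q ^ 2)
    (hn : 4 ≤ n) (hq2 : q ≠ 2) : G3 (PSU n F q) := by
  intro x hx hP hR
  have hfin : Finite (PSU n F q) := Finite.of_surjective _ (pr_surjective (n := n) (F := F) (q := q))
  have hq3 := not_three_dvd (F := F) hr hF
  have hq : 4 ≤ q := by
    have h1 := two_le hF
    have h2 : q ≠ 3 := by rintro rfl; exact hq3 (dvd_refl 3)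
    omega
  have hn3 : 3 ≤ n := by omega
  have hx1 : x ≠ 1 := by
    rintro rfl
    rw [orderOf_one] at hx
    omega
  have hx3 : x ^ 3 = 1 := by rw [← hx, pow_orderOf_eq_one]
  obtain ⟨A, ρ, rfl⟩ := ClassicalGeometry.PSUAutMain.exists_toAut hF hn3 (by omega) x
  by_cases hρ : ρ = 1
  · subst hρ
    have h := rep_toAut A (1 : F ≃+* F)
    have h3 := h.pow 3
    rw [hx3] at h3
    obtain ⟨-, c, hc, hT⟩ := h3.of_one hF hn3
    have hT' : ∀ v, sg A 1 (sg A 1 (sg A 1 v)) = c • v := fun v => hT v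
    by_cases ha : ∃ a : F, a ^ 3 = c
    · obtain ⟨a, ha⟩ := ha
      obtain ⟨d, hd, hdc⟩ := exists_cube (F := F) hr hF hc ha
      exact hx1 (kill_cube hC hF hn3 hq (p := r) hr h hR hT' hd hdc)
    · push Not at ha
      have hc0 : c ≠ 0 := by
        rintro rfl
        rw [zero_mul] at hc
        exact zero_ne_one hc
      exact kill_irr hF hn h hP hc0 hT' ha
  · exact kill_fld hC hF hn3 hq (p := r) hρ hx3 hR

theorem crit : Crit := fun _ _ _ h => Cfsg.Agent.H95.SN.noS3_of_sylow3 h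

/-- **C3** -/
theorem g3_psu {K : Type} [Group K] [Finite K] [IsSimpleGroup K] {r : ℕ} [Fact r.Prime] (hr : r ≠ 3) {F : Type}
    [Field F] [Fintype F] [CharP F r] {n q : ℕ} (hF : Fintype.card F = q ^ 2) (hn : 4 ≤ n) (hq : q ≠ 2)
    (e : Nonempty (K ≃* PSU n F q)) : G3 K := by
  have hfin : Finite (PSU n F q) := Finite.of_surjective _ (pr_surjective (n := n) (F := F) (q := q))
  obtain ⟨e⟩ := e
  exact G3.congr e (g3_PSU crit hr hF hn hq)

end Cfsg.Agent.H858.SN
end

-- part: H951/SN/Emb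
section
/-!
# Isometries of a nondegenerate subspace of a hermitian space, in coordinates (for S3831, D3)

`P` is the matrix of a basis of the subspace, `G` its Gram matrix, `Q` the dual coordinates; `T P Q B = 1 + P (B - 1) Q`
is the linear map with matrix `B` on the subspace and trivial on the orthogonal space.

* `Fr` : the conditions on `P, Q, G`; `T_mul`, `T_one`, `det_T`, `T_isom`, `T_inj`;
* `conj_T` : `A T(B) = T(B') A` if `A P = P A₁`, `A₁ B = B' A₁` and `A` is an isometry;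
* `Phi` : the homomorphism `H → SU_n(q)` given by `ψ : H →* M_k(F)` preserving `G`.
-/

set_option autoImplicit false
set_option linter.unusedSectionVars false

namespace Cfsg.Agent.H951.SN

open Matrix Subgroup Cfsg
open Cfsg.Agent.LieClassical.HermBasic Cfsg.Agent.LieClassical.HermSiegel
open Cfsg.Agent.ClassicalGeometry.PSUAutCount (gm herm_gm gm_mul gm_inv_mul gm_mul_inv)

variable {F : Type*} [Field F] [Fintype F] {q n k : ℕ}

theorem isom_of_matrix (hF : Fintype.card F = q ^ 2) {M : Matrix (Fin n) (Fin n) F}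
    (h : Mᵀ * M.map (conj hF) = 1) (u v : Fin n → F) :
    hermForm n F q (M *ᵥ u) (M *ᵥ v) = hermForm n F q u v := by
  have h1 : ∀ u v : Fin n → F, hermForm n F q u v = u ⬝ᵥ (conj hF ∘ v) := fun u v => rfl
  have h2 : conj hF ∘ (M *ᵥ v) = M.map (conj hF) *ᵥ (conj hF ∘ v) := by
    ext i
    simp only [mulVec, dotProduct, map_sum, _root_.Function.comp_apply, _root_.map_mul, _root_.Matrix.map_apply]
  rw [h1, h1, h2, ← Matrix.vecMul_transpose, ← Matrix.dotProduct_mulVec, Matrix.mulVec_mulVec, h, Matrix.one_mulVec]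

theorem matrix_of_isom (hF : Fintype.card F = q ^ 2) {M : Matrix (Fin n) (Fin n) F}
    (h : ∀ u v, hermForm n F q (M *ᵥ u) (M *ᵥ v) = hermForm n F q u v) : Mᵀ * M.map (conj hF) = 1 := by
  ext i j
  have h1 := h (Pi.single i 1) (Pi.single j 1)
  rw [herm_single_left, Matrix.mulVec_single_one, Matrix.mulVec_single_one] at h1
  rw [Matrix.mul_apply, Matrix.one_apply]
  have h2 : ∑ l, Mᵀ i l * M.map (conj hF) l j = hermForm n F q (M.col i) (M.col j) := rfl
  rw [h2, h1, one_mul]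
  by_cases hij : i = j
  · subst hij
    rw [if_pos rfl, Pi.single_eq_same, one_pow]
  · rw [if_neg hij, Pi.single_eq_of_ne hij, zero_pow_q hF]

/-- the conditions on a basis of a nondegenerate subspace -/
structure Fr (hF : Fintype.card F = q ^ 2) (P : Matrix (Fin n) (Fin k) F) (Q : Matrix (Fin k) (Fin n) F)
    (G : Matrix (Fin k) (Fin k) F) : Prop where
  QP : Q * P = 1
  gram : Pᵀ * P.map (conj hF) = G
  PQ : P.map (conj hF) = Qᵀ * G
  GG : (G.map (conj hF))ᵀ = G

/-- the linear map with matrix `B` on the subspace, trivial on the orthogonal space -/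
def T (P : Matrix (Fin n) (Fin k) F) (Q : Matrix (Fin k) (Fin n) F) (B : Matrix (Fin k) (Fin k) F) :
    Matrix (Fin n) (Fin n) F := 1 + P * (B - 1) * Q

section

variable {P : Matrix (Fin n) (Fin k) F} {Q : Matrix (Fin k) (Fin n) F} {G : Matrix (Fin k) (Fin k) F}
  {hF : Fintype.card F = q ^ 2}

theorem T_one (P : Matrix (Fin n) (Fin k) F) (Q : Matrix (Fin k) (Fin n) F) : T P Q 1 = 1 := by
  rw [T, sub_self, Matrix.mul_zero, Matrix.zero_mul, add_zero]

theorem T_mul (h : Fr hF P Q G) (B C : Matrix (Fin k) (Fin k) F) : T P Q (B * C) = T P Q B * T P Q C := by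
  have h1 : P * (B - 1) * Q * (P * (C - 1) * Q) = P * ((B - 1) * (C - 1)) * Q := by
    calc P * (B - 1) * Q * (P * (C - 1) * Q) = P * (B - 1) * (Q * P) * (C - 1) * Q := by
          simp only [Matrix.mul_assoc]
      _ = P * ((B - 1) * (C - 1)) * Q := by
          rw [h.QP, Matrix.mul_one]
          simp only [Matrix.mul_assoc]
  have h2 : B * C - 1 = (B - 1) + (C - 1) + (B - 1) * (C - 1) := by noncomm_ring
  unfold T
  rw [h2, Matrix.mul_add, Matrix.mul_add, Matrix.add_mul, Matrix.add_mul, add_mul, one_mul, mul_add, mul_one, h1]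
  abel

theorem det_T (h : Fr hF P Q G) (B : Matrix (Fin k) (Fin k) F) : (T P Q B).det = B.det := by
  unfold T
  rw [Matrix.det_one_add_mul_comm, ← Matrix.mul_assoc, h.QP, Matrix.one_mul]
  congr 1
  abel

theorem T_inj (h : Fr hF P Q G) {B C : Matrix (Fin k) (Fin k) F} (hBC : T P Q B = T P Q C) : B = C := by
  have key : ∀ B : Matrix (Fin k) (Fin k) F, Q * T P Q B * P = B := by
    intro B
    unfold T
    rw [Matrix.mul_add, Matrix.add_mul, Matrix.mul_one, h.QP]
    have : Q * (P * (B - 1) * Q) * P = (Q * P) * (B - 1) * (Q * P) := by simp only [Matrix.mul_assoc]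
    rw [this, h.QP, Matrix.one_mul, Matrix.mul_one]
    abel
  rw [← key B, ← key C, hBC]

theorem Fr.PT (h : Fr hF P Q G) : Pᵀ = G * Q.map (conj hF) := by
  have h1 : (P.map (conj hF)).map (conj hF) = P := by
    ext i j
    rw [Matrix.map_apply, Matrix.map_apply, conj_apply, conj_apply, pow_q_pow_q hF]
  have h2 : P = (Qᵀ).map (conj hF) * G.map (conj hF) := by
    rw [← Matrix.map_mul, ← h.PQ, h1]
  rw [h2, Matrix.transpose_mul, h.GG]
  rfl

theorem T_isom (h : Fr hF P Q G) {B : Matrix (Fin k) (Fin k) F} (hB : Bᵀ * G * B.map (conj hF) = G)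
    (u v : Fin n → F) :
    hermForm n F q (T P Q B *ᵥ u) (T P Q B *ᵥ v) = hermForm n F q u v := by
  apply isom_of_matrix hF
  set D := B - 1 with hD
  have hB' : B = 1 + D := by rw [hD]; abel
  have h0 : (T P Q B).map (conj hF) = 1 + P.map (conj hF) * D.map (conj hF) * Q.map (conj hF) := by
    unfold T
    rw [← hD]
    have e1 : (1 + P * D * Q).map (conj hF) = (1 : Matrix (Fin n) (Fin n) F).map (conj hF) + (P * D * Q).map (conj hF) :=
      Matrix.map_add _ (map_add _) _ _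
    rw [e1, Matrix.map_mul, Matrix.map_mul, Matrix.map_one _ (map_zero _) (map_one _)]
  have h1 : (T P Q B)ᵀ = 1 + Qᵀ * Dᵀ * Pᵀ := by
    unfold T
    rw [← hD, Matrix.transpose_add, Matrix.transpose_one, Matrix.transpose_mul, Matrix.transpose_mul, Matrix.mul_assoc]
  have h2 : Dᵀ * G + G * D.map (conj hF) + Dᵀ * G * D.map (conj hF) = 0 := by
    have e1 : B.map (conj hF) = 1 + D.map (conj hF) := by
      rw [hB']
      have : (1 + D).map (conj hF) = (1 : Matrix (Fin k) (Fin k) F).map (conj hF) + D.map (conj hF) :=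
        Matrix.map_add _ (map_add _) _ _
      rw [this, Matrix.map_one _ (map_zero _) (map_one _)]
    have e2 : Bᵀ = 1 + Dᵀ := by rw [hB', Matrix.transpose_add, Matrix.transpose_one]
    rw [e1, e2] at hB
    have e3 : (1 + Dᵀ) * G * (1 + D.map (conj hF)) =
        G + (Dᵀ * G + G * D.map (conj hF) + Dᵀ * G * D.map (conj hF)) := by noncomm_ring
    rw [e3] at hB
    exact add_eq_left.1 hB
  rw [h0, h1, Matrix.add_mul, Matrix.one_mul, Matrix.mul_add, Matrix.mul_one]
  have h3 : Qᵀ * Dᵀ * Pᵀ = Qᵀ * (Dᵀ * G) * Q.map (conj hF) := by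
    rw [h.PT]; simp only [Matrix.mul_assoc]
  have h4 : P.map (conj hF) * D.map (conj hF) * Q.map (conj hF) = Qᵀ * (G * D.map (conj hF)) * Q.map (conj hF) := by
    rw [h.PQ]; simp only [Matrix.mul_assoc]
  have h5 : Qᵀ * Dᵀ * Pᵀ * (P.map (conj hF) * D.map (conj hF) * Q.map (conj hF)) =
      Qᵀ * (Dᵀ * G * D.map (conj hF)) * Q.map (conj hF) := by
    calc Qᵀ * Dᵀ * Pᵀ * (P.map (conj hF) * D.map (conj hF) * Q.map (conj hF))
        = Qᵀ * Dᵀ * (Pᵀ * P.map (conj hF)) * D.map (conj hF) * Q.map (conj hF) := by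
          simp only [Matrix.mul_assoc]
      _ = _ := by rw [h.gram]; simp only [Matrix.mul_assoc]
  rw [h5, h3, h4]
  have h6 : (1 : Matrix (Fin n) (Fin n) F) + Qᵀ * (G * D.map (conj hF)) * Q.map (conj hF) +
      (Qᵀ * (Dᵀ * G) * Q.map (conj hF) + Qᵀ * (Dᵀ * G * D.map (conj hF)) * Q.map (conj hF)) =
      1 + Qᵀ * (Dᵀ * G + G * D.map (conj hF) + Dᵀ * G * D.map (conj hF)) * Q.map (conj hF) := by
    rw [Matrix.mul_add, Matrix.mul_add, Matrix.add_mul, Matrix.add_mul]
    abel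
  rw [h6, h2, Matrix.mul_zero, Matrix.zero_mul, add_zero]

/-- **Conjugation by an isometry leaving the subspace invariant.** -/
theorem conj_T (h : Fr hF P Q G) (hG : IsUnit G.det) {A : Matrix (Fin n) (Fin n) F} {A₁ B B' : Matrix (Fin k) (Fin k) F}
    (hA : ∀ u v, hermForm n F q (A *ᵥ u) (A *ᵥ v) = hermForm n F q u v) (hAP : A * P = P * A₁)
    (hB : A₁ * B = B' * A₁) : A * T P Q B = T P Q B' * A := by
  have hA' := matrix_of_isom hF hA
  have h1 : A.map (conj hF) * P.map (conj hF) = P.map (conj hF) * A₁.map (conj hF) := by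
    rw [← Matrix.map_mul, ← Matrix.map_mul, hAP]
  -- the Gram matrix is preserved
  have h2 : A₁ᵀ * G * A₁.map (conj hF) = G := by
    have e : (A * P)ᵀ * (A * P).map (conj hF) = G := by
      rw [Matrix.transpose_mul, Matrix.map_mul]
      calc Pᵀ * Aᵀ * (A.map (conj hF) * P.map (conj hF)) = Pᵀ * (Aᵀ * A.map (conj hF)) * P.map (conj hF) := by
            simp only [Matrix.mul_assoc]
        _ = G := by rw [hA', Matrix.mul_one, h.gram]
    rw [hAP, Matrix.transpose_mul, Matrix.map_mul] at e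
    calc A₁ᵀ * G * A₁.map (conj hF) = A₁ᵀ * (Pᵀ * P.map (conj hF)) * A₁.map (conj hF) := by rw [h.gram]
      _ = A₁ᵀ * Pᵀ * (P.map (conj hF) * A₁.map (conj hF)) := by simp only [Matrix.mul_assoc]
      _ = G := e
  have h3 : Aᵀ * (Qᵀ * (G * A₁.map (conj hF))) = Qᵀ * A₁ᵀ * (G * A₁.map (conj hF)) := by
    calc Aᵀ * (Qᵀ * (G * A₁.map (conj hF))) = Aᵀ * ((Qᵀ * G) * A₁.map (conj hF)) := by simp only [Matrix.mul_assoc]
      _ = Aᵀ * (P.map (conj hF) * A₁.map (conj hF)) := by rw [h.PQ]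
      _ = (Aᵀ * A.map (conj hF)) * P.map (conj hF) := by rw [← h1]; simp only [Matrix.mul_assoc]
      _ = Qᵀ * G := by rw [hA', Matrix.one_mul, h.PQ]
      _ = Qᵀ * (A₁ᵀ * G * A₁.map (conj hF)) := by rw [h2]
      _ = _ := by simp only [Matrix.mul_assoc]
  have hu : IsUnit (G * A₁.map (conj hF)).det := by
    have e := congrArg Matrix.det h2
    rw [Matrix.mul_assoc, Matrix.det_mul] at e
    rw [← e] at hG
    exact isUnit_of_mul_isUnit_right hG
  have h4 : Aᵀ * Qᵀ = Qᵀ * A₁ᵀ := by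
    have e : Aᵀ * (Qᵀ * (G * A₁.map (conj hF))) * (G * A₁.map (conj hF))⁻¹ =
        Qᵀ * A₁ᵀ * (G * A₁.map (conj hF)) * (G * A₁.map (conj hF))⁻¹ := by rw [h3]
    rw [← Matrix.mul_assoc Aᵀ, Matrix.mul_assoc (Aᵀ * Qᵀ), Matrix.mul_nonsing_inv _ hu, Matrix.mul_one,
      Matrix.mul_assoc (Qᵀ * A₁ᵀ), Matrix.mul_nonsing_inv _ hu, Matrix.mul_one] at e
    exact e
  have h5 : Q * A = A₁ * Q := by
    have := congrArg Matrix.transpose h4
    rwa [Matrix.transpose_mul, Matrix.transpose_mul, Matrix.transpose_transpose, Matrix.transpose_transpose,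
      Matrix.transpose_transpose] at this
  unfold T
  rw [Matrix.mul_add, Matrix.add_mul, Matrix.mul_one, Matrix.one_mul]
  congr 1
  calc A * (P * (B - 1) * Q) = (A * P) * (B - 1) * Q := by simp only [Matrix.mul_assoc]
    _ = P * (A₁ * B - A₁) * Q := by rw [hAP, Matrix.mul_assoc P A₁, Matrix.mul_sub, Matrix.mul_one]
    _ = P * (B' * A₁ - A₁) * Q := by rw [hB]
    _ = P * (B' - 1) * (A₁ * Q) := by
        rw [← Matrix.mul_assoc, Matrix.mul_assoc P (B' - 1) A₁, Matrix.sub_mul, Matrix.one_mul]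
    _ = P * (B' - 1) * Q * A := by rw [← h5, Matrix.mul_assoc (P * (B' - 1))]

/-- the homomorphism to `SU_n(q)` -/
def Phi (h : Fr hF P Q G) {H : Type*} [Group H] (ψ : H →* Matrix (Fin k) (Fin k) F) (hd : ∀ x, (ψ x).det = 1)
    (hi : ∀ x, (ψ x)ᵀ * G * (ψ x).map (conj hF) = G) : H →* SU n F q where
  toFun x := mkSU (T P Q (ψ x)) (by rw [det_T h, hd]) (T_isom h (hi x))
  map_one' := by
    apply mat_injective
    rw [mat_mkSU, map_one, T_one]
    rfl
  map_mul' x y := by
    apply mat_injective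
    rw [mat_mkSU, map_mul, T_mul h]
    rfl

theorem mat_Phi (h : Fr hF P Q G) {H : Type*} [Group H] (ψ : H →* Matrix (Fin k) (Fin k) F) (hd : ∀ x, (ψ x).det = 1)
    (hi : ∀ x, (ψ x)ᵀ * G * (ψ x).map (conj hF) = G) (x : H) : mat (Phi h ψ hd hi x) = T P Q (ψ x) := rfl

end

end Cfsg.Agent.H951.SN
end

-- part: H951/SN/Key
section
/-!
# Subgroups `SL_2(E)`, `SL_2(E)` on the quadratic polynomials, in `SU_n(q)` of characteristic three (for S3831, D3)

* `key` : an automorphism `x` of `PSU_n(q)` with `RN x` fixes the elements of order three of an `x`-invariant image of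
  `SL_2(E)`, `|E| > 3`;
* `psi2`, `psi3` : the natural module and the quadratic polynomials; `Gm2`, `Gm3` their Gram matrices;
* `Fr.mk'` : frames from vectors.
-/

set_option autoImplicit false
set_option linter.unusedSectionVars false

namespace Cfsg.Agent.H951.SN

open Matrix Subgroup Cfsg Cfsg.Agent.H21.SN Cfsg.Agent.H459.Rad
open Cfsg.Agent.LieClassical.HermBasic Cfsg.Agent.LieClassical.HermSiegel
open Cfsg.Agent.ClassicalGeometry.PSUAutBasic (pr eq_of_pr_eq)

section Key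

variable {F : Type} [Field F] [Fintype F] {q n : ℕ}

/-- **The elements of order three of an invariant image of `SL_2(E)` are fixed.** -/
theorem key (hF : Fintype.card F = q ^ 2) (hn : 3 ≤ n) [CharP F 3] {E : Type} [Field E] [Fintype E]
    (hE : 3 < Fintype.card E) (hN : NoS3 (Matrix.SpecialLinearGroup (Fin 2) E))
    (Φ : Matrix.SpecialLinearGroup (Fin 2) E →* SU n F q) {x : MulAut (PSU n F q)} (hR : RN x)
    {τ : MulAut (SU n F q)} (hx : ∀ g, x (pr n F q g) = pr n F q (τ g))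
    {α : Matrix.SpecialLinearGroup (Fin 2) E → Matrix.SpecialLinearGroup (Fin 2) E}
    (hα : ∀ h, τ (Φ h) = Φ (α h)) {h : Matrix.SpecialLinearGroup (Fin 2) E} (h3 : h ^ 3 = 1) (h1 : Φ h ≠ 1) :
    Φ (α h) = Φ h := by
  have h3f : Fact (Nat.Prime 3) := ⟨Nat.prime_three⟩
  set M : Subgroup (PSU n F q) := ((pr n F q).comp Φ).range with hM
  have hΦ3 : Φ h ^ 3 ^ 1 = 1 := by rw [pow_one, ← map_pow, h3, map_one]
  have hNM : NoS3 M := hN.of_surjective ((pr n F q).comp Φ).rangeRestrict (MonoidHom.rangeRestrict_surjective _)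
  have hxM : ∀ m ∈ M, x m ∈ M := by
    rintro _ ⟨a, rfl⟩
    exact ⟨α a, by rw [MonoidHom.comp_apply, MonoidHom.comp_apply, hx, hα]⟩
  have hne : pr n F q (Φ h) ≠ 1 := by
    intro h4
    exact h1 (eq_of_pr_eq hF hn (p := 3) (k := 1) (l := 0) hΦ3 (one_pow _) (by rw [h4, map_one]))
  have hnt : Nontrivial M := ⟨⟨⟨pr n F q (Φ h), ⟨h, rfl⟩⟩, 1, fun h4 => hne (congrArg Subtype.val h4)⟩⟩
  have hqs : IsQuasisimple (Matrix.SpecialLinearGroup (Fin 2) E) :=
    ⟨Group.isPerfect_def.2 (TwoFusion.SLTwoFacts.commutator_eq_top hE), TwoFusion.SLTwoFacts.isSimpleGroup_psl hE⟩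
  have hq : IsQuasisimple M :=
    SignalizersComponents.QuasisimpleQuotient.isQuasisimple_of_surjective ((pr n F q).comp Φ).rangeRestrict
      (MonoidHom.rangeRestrict_surjective _) hqs
  have e := hR.eq_of_quasisimple hNM hxM hq (m := pr n F q (Φ h)) ⟨h, rfl⟩
  rw [hx, hα] at e
  refine eq_of_pr_eq hF hn (p := 3) (k := 1) (l := 1) ?_ hΦ3 e
  rw [← hα, ← map_pow, hΦ3, map_one]

end Key

section Psi

variable {F : Type*} [Field F] {E : Type*} [Field E] (ι : E →+* F)

/-- the natural module -/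
def psi2 : Matrix.SpecialLinearGroup (Fin 2) E →* Matrix (Fin 2) (Fin 2) F where
  toFun h := (h : Matrix (Fin 2) (Fin 2) E).map ι
  map_one' := by
    rw [Matrix.SpecialLinearGroup.coe_one, Matrix.map_one _ (map_zero _) (map_one _)]
  map_mul' a b := by
    rw [Matrix.SpecialLinearGroup.coe_mul, Matrix.map_mul]

theorem psi2_apply (h : Matrix.SpecialLinearGroup (Fin 2) E) (i j : Fin 2) : psi2 ι h i j = ι (h i j) := rfl

theorem psi2_eq (h : Matrix.SpecialLinearGroup (Fin 2) E) :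
    psi2 ι h = !![ι (h 0 0), ι (h 0 1); ι (h 1 0), ι (h 1 1)] := by
  ext i j
  fin_cases i <;> fin_cases j <;> rfl

theorem det_eq (h : Matrix.SpecialLinearGroup (Fin 2) E) :
    ι (h 0 0) * ι (h 1 1) - ι (h 0 1) * ι (h 1 0) = 1 := by
  have h1 := h.2
  rw [Matrix.det_fin_two] at h1
  rw [← map_mul, ← map_mul, ← map_sub]
  exact (congrArg ι h1).trans (map_one ι)

theorem det_psi2 (h : Matrix.SpecialLinearGroup (Fin 2) E) : (psi2 ι h).det = 1 := by
  rw [psi2_eq, Matrix.det_fin_two_of, det_eq]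

/-- the quadratic polynomials: columns are the images of `X², XY, Y²` -/
def psi3 : Matrix.SpecialLinearGroup (Fin 2) E →* Matrix (Fin 3) (Fin 3) F where
  toFun h := !![ι (h 0 0) ^ 2, ι (h 0 0) * ι (h 0 1), ι (h 0 1) ^ 2;
    2 * ι (h 0 0) * ι (h 1 0), ι (h 0 0) * ι (h 1 1) + ι (h 0 1) * ι (h 1 0), 2 * ι (h 0 1) * ι (h 1 1);
    ι (h 1 0) ^ 2, ι (h 1 0) * ι (h 1 1), ι (h 1 1) ^ 2]
  map_one' := by
    have h1 : ((1 : Matrix.SpecialLinearGroup (Fin 2) E) 0 0 : E) = 1 := rfl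
    have h2 : ((1 : Matrix.SpecialLinearGroup (Fin 2) E) 0 1 : E) = 0 := rfl
    have h3 : ((1 : Matrix.SpecialLinearGroup (Fin 2) E) 1 0 : E) = 0 := rfl
    have h4 : ((1 : Matrix.SpecialLinearGroup (Fin 2) E) 1 1 : E) = 1 := rfl
    rw [h1, h2, h3, h4, map_one, map_zero]
    ext i j
    (revert i j; simp only [_root_.Fin.forall_fin_succ, _root_.one_pow, _root_.MulZeroClass.mul_zero, _root_.ne_eq, _root_.OfNat.ofNat_ne_zero, _root_.not_false_eq_true, _root_.zero_pow, _root_.mul_one, _root_.add_zero, _root_.Matrix.of_apply, _root_.Matrix.cons_val', _root_.Matrix.cons_val_fin_one, Fin.isValue, _root_.Matrix.cons_val_zero, _root_.Matrix.cons_val_succ, _root_.IsEmpty.forall_iff, _root_.and_true, _root_.Matrix.one_apply_eq, Nat.reduceAdd, _root_.Fin.succ_zero_eq_one, _root_.zero_ne_one, _root_.Matrix.one_apply_ne, _root_.Fin.succ_one_eq_two, Fin.reduceEq, _root_.and_self, _root_.Fin.succ_ne_zero, _root_.true_and])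
  map_mul' a b := by
    have h : ∀ i j : Fin 2, ((a * b : Matrix.SpecialLinearGroup (Fin 2) E) i j : E) = a i 0 * b 0 j + a i 1 * b 1 j := by
      intro i j
      rw [Matrix.SpecialLinearGroup.coe_mul, Matrix.mul_apply, Fin.sum_univ_two]
    simp only [h, map_add, map_mul]
    ext i j
    (revert i j; simp only [Matrix.mul_apply, Fin.sum_univ_three, _root_.Fin.forall_fin_succ, Fin.isValue, _root_.Matrix.of_apply, _root_.Matrix.cons_val', _root_.Matrix.cons_val_fin_one, _root_.Matrix.cons_val_zero, _root_.Matrix.cons_val_one, _root_.Matrix.cons_val, _root_.Matrix.cons_val_succ, _root_.forall_const]) <;> (repeat' with_reducible apply And.intro) <;> ring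

theorem psi3_eq (h : Matrix.SpecialLinearGroup (Fin 2) E) :
    psi3 ι h = !![ι (h 0 0) ^ 2, ι (h 0 0) * ι (h 0 1), ι (h 0 1) ^ 2;
    2 * ι (h 0 0) * ι (h 1 0), ι (h 0 0) * ι (h 1 1) + ι (h 0 1) * ι (h 1 0), 2 * ι (h 0 1) * ι (h 1 1);
    ι (h 1 0) ^ 2, ι (h 1 0) * ι (h 1 1), ι (h 1 1) ^ 2] := rfl

theorem det_psi3 (h : Matrix.SpecialLinearGroup (Fin 2) E) : (psi3 ι h).det = 1 := by
  have h1 := det_eq ι h
  rw [psi3_eq, Matrix.det_fin_three]
  simp only [Matrix.of_apply, Matrix.cons_val', Matrix.cons_val_zero, Matrix.cons_val_one, Matrix.cons_val,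
    Matrix.cons_val_fin_one]
  set a := ι (h 0 0)
  set b := ι (h 0 1)
  set c := ι (h 1 0)
  set d := ι (h 1 1)
  have h2 : (a * d - b * c) ^ 3 = 1 := by rw [h1, one_pow]
  linear_combination h2

/-- the Gram matrix of a hyperbolic plane -/
def Gm2 (c : F) : Matrix (Fin 2) (Fin 2) F := !![0, c; -c, 0]

/-- the Gram matrix of the quadratic polynomials (characteristic three) -/
def Gm3 (c : F) : Matrix (Fin 3) (Fin 3) F := !![0, 0, c; 0, c, 0; c, 0, 0]

theorem det_Gm2 {c : F} (hc : c ≠ 0) : IsUnit (Gm2 c).det := by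
  rw [Gm2, Matrix.det_fin_two_of, isUnit_iff_ne_zero]
  simpa using hc

theorem det_Gm3 {c : F} (hc : c ≠ 0) : IsUnit (Gm3 c).det := by
  rw [Gm3, Matrix.det_fin_three, isUnit_iff_ne_zero]
  simpa using hc

variable [Fintype F] {q : ℕ}

theorem psi2_isom (hF : Fintype.card F = q ^ 2) (hι : ∀ e, ι e ^ q = ι e) (c : F)
    (h : Matrix.SpecialLinearGroup (Fin 2) E) :
    (psi2 ι h)ᵀ * Gm2 c * (psi2 ι h).map (conj hF) = Gm2 c := by
  have h0 : (psi2 ι h).map (conj hF) = psi2 ι h := by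
    ext i j
    rw [Matrix.map_apply, psi2_apply, conj_apply, hι]
  have h1 := det_eq ι h
  rw [h0, psi2_eq, Gm2]
  set a := ι (h 0 0)
  set b := ι (h 0 1)
  set c' := ι (h 1 0)
  set d := ι (h 1 1)
  ext i j
  fin_cases i <;> fin_cases j <;> simp only [Matrix.mul_apply, Fin.sum_univ_two, _root_.Fin.zero_eta, _root_.Fin.isValue, _root_.Matrix.transpose_apply, _root_.Matrix.of_apply, _root_.Matrix.cons_val', _root_.Matrix.cons_val_zero, _root_.Matrix.cons_val_fin_one, _root_.Matrix.cons_val_one, _root_.MulZeroClass.mul_zero, _root_.mul_neg, _root_.zero_add, _root_.neg_mul, _root_.add_zero, _root_.Fin.mk_one]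
  · ring
  · linear_combination c * h1
  · linear_combination (-c) * h1
  · ring

theorem psi3_isom (hF : Fintype.card F = q ^ 2) (h3 : (3 : F) = 0) (hι : ∀ e, ι e ^ q = ι e) (c : F)
    (h : Matrix.SpecialLinearGroup (Fin 2) E) :
    (psi3 ι h)ᵀ * Gm3 c * (psi3 ι h).map (conj hF) = Gm3 c := by
  have h0 : (psi3 ι h).map (conj hF) = psi3 ι h := by
    have h2 : (2 : F) ^ q = 2 := by
      have e : (2 : F) = ι 1 + ι 1 := by rw [map_one]; norm_num
      rw [e, ← map_add, hι]
    rw [psi3_eq]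
    ext i j
    fin_cases i <;> fin_cases j <;>
      simp only [Matrix.map_apply, Matrix.of_apply, Matrix.cons_val', Matrix.cons_val_zero, Matrix.cons_val_one,
        Matrix.cons_val, Matrix.cons_val_fin_one, Fin.zero_eta, Fin.mk_one, Fin.reduceFinMk, map_mul, map_pow, map_add,
        conj_apply, hι, h2]
  have h1 := det_eq ι h
  rw [h0, psi3_eq, Gm3]
  set a := ι (h 0 0)
  set b := ι (h 0 1)
  set c' := ι (h 1 0)
  set d := ι (h 1 1)
  ext i j
  fin_cases i <;> fin_cases j <;> simp only [Matrix.mul_apply, Fin.sum_univ_three, _root_.Fin.zero_eta, _root_.Fin.isValue, _root_.Matrix.transpose_apply, _root_.Matrix.of_apply, _root_.Matrix.cons_val', _root_.Matrix.cons_val_zero, _root_.Matrix.cons_val_fin_one, _root_.Matrix.cons_val_one, _root_.Matrix.cons_val, _root_.MulZeroClass.mul_zero, _root_.add_zero, _root_.zero_add, _root_.Fin.mk_one, _root_.Fin.reduceFinMk]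
  · linear_combination (2 * c * a ^ 2 * c' ^ 2) * h3
  · linear_combination (c * a * c' * (a * d + b * c')) * h3
  · linear_combination (c * (a * d - b * c' + 1)) * h1 + (2 * c * a * b * c' * d) * h3
  · linear_combination (c * a * c' * (a * d + b * c')) * h3
  · linear_combination (c * (a * d - b * c' + 1)) * h1 + (2 * c * a * b * c' * d) * h3
  · linear_combination (c * b * d * (a * d + b * c')) * h3
  · linear_combination (c * (a * d - b * c' + 1)) * h1 + (2 * c * a * b * c' * d) * h3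
  · linear_combination (c * b * d * (a * d + b * c')) * h3
  · linear_combination (2 * c * b ^ 2 * d ^ 2) * h3

end Psi

section Frames

variable {F : Type*} [Field F] [Fintype F] {q n k : ℕ}

/-- the matrix of a family of vectors -/
def vm (f : Fin k → Fin n → F) : Matrix (Fin n) (Fin k) F := Matrix.of fun l i => f i l

/-- the dual coordinates -/
noncomputable def qm (hF : Fintype.card F = q ^ 2) (f : Fin k → Fin n → F) (G : Matrix (Fin k) (Fin k) F) :
    Matrix (Fin k) (Fin n) F := (Gᵀ)⁻¹ * ((vm f).map (conj hF))ᵀ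

theorem Fr.mk' (hF : Fintype.card F = q ^ 2) {f : Fin k → Fin n → F} {G : Matrix (Fin k) (Fin k) F}
    (hG : ∀ i j, hermForm n F q (f i) (f j) = G i j) (hu : IsUnit G.det) : Fr hF (vm f) (qm hF f G) G := by
  have hgram : (vm f)ᵀ * (vm f).map (conj hF) = G := by
    ext i j
    rw [← hG, Matrix.mul_apply]
    rfl
  have hu' : IsUnit (Gᵀ).det := by rwa [Matrix.det_transpose]
  have hcc : ((vm f).map (conj hF)).map (conj hF) = vm f := by
    ext i j
    rw [Matrix.map_apply, Matrix.map_apply, conj_apply, conj_apply, pow_q_pow_q hF]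
  refine ⟨?_, hgram, ?_, ?_⟩
  · have h1 : ((vm f).map (conj hF))ᵀ * vm f = Gᵀ := by
      rw [← hgram, Matrix.transpose_mul, Matrix.transpose_transpose]
    rw [qm, Matrix.mul_assoc, h1, Matrix.nonsing_inv_mul _ hu']
  · rw [qm, Matrix.transpose_mul, Matrix.transpose_transpose, Matrix.transpose_nonsing_inv, Matrix.transpose_transpose,
      Matrix.mul_assoc, Matrix.nonsing_inv_mul _ hu, Matrix.mul_one]
  · have h1 : G.map (conj hF) = ((vm f).map (conj hF))ᵀ * vm f := by
      rw [← hgram, Matrix.map_mul, hcc]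
      rfl
    rw [h1, Matrix.transpose_mul, Matrix.transpose_transpose, hgram]

theorem mul_vm {A : Matrix (Fin n) (Fin n) F} {f : Fin k → Fin n → F} {A₁ : Matrix (Fin k) (Fin k) F}
    (h : ∀ i, A *ᵥ f i = ∑ j, A₁ j i • f j) : A * vm f = vm f * A₁ := by
  ext l i
  have h1 := congrFun (h i) l
  rw [Finset.sum_apply] at h1
  rw [Matrix.mul_apply, Matrix.mul_apply]
  have h2 : ∑ j, A l j * vm f j i = (A *ᵥ f i) l := rfl
  rw [h2, h1]
  refine Finset.sum_congr rfl fun j _ => ?_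
  rw [Pi.smul_apply, smul_eq_mul, mul_comm]
  rfl

end Frames

end Cfsg.Agent.H951.SN
end

-- part: H951/SN/Lin
section
/-!
# `PSU_n(q)`, characteristic three: unipotent automorphisms of order three (for S3831, D3)

`lin_false` : `A ∈ GU_n(q)`, `A ^ 3 = 1`, `A ≠ 1`, `q ≥ 9`, `n ≥ 3`: `¬ RN (toAut A 1)`.
`N = A - 1`. If `N² = 0`, there is a vector `u` with `(u, N u) ≠ 0` and `A` leaves the hyperbolic plane `⟨u, N u⟩`
invariant; otherwise `(u, N² u) ≠ 0` for some `u` and `⟨u, N u, N² u⟩` is a nondegenerate `3`-space, with an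
`F_q`-structure.
-/

set_option autoImplicit false
set_option linter.unusedSectionVars false

namespace Cfsg.Agent.H951.SN

open Matrix Subgroup Cfsg Cfsg.Agent.H21.SN Cfsg.Agent.H459.Rad
open Cfsg.Agent.LieClassical.HermBasic Cfsg.Agent.LieClassical.HermSiegel
open Cfsg.Agent.ClassicalGeometry.PSUAutBasic (pr eq_of_pr_eq)
open Cfsg.Agent.ClassicalGeometry.PSUAutCount (toAut gm herm_gm gm_mul gm_inv_mul gm_mul_inv semiConj guConj guConjFun
  mat_guConjFun)

section Vectors

variable {F : Type*} [Field F] [Fintype F] {q n : ℕ}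

/-- the relations for `N = A - 1` -/
structure NRel (q : ℕ) (N : (Fin n → F) → (Fin n → F)) : Prop where
  add : ∀ u v, N (u + v) = N u + N v
  smul : ∀ (c : F) u, N (c • u) = c • N u
  cube : ∀ u, N (N (N u)) = 0
  rel : ∀ u v, hermForm n F q (N u) v + hermForm n F q u (N v) + hermForm n F q (N u) (N v) = 0

variable {N : (Fin n → F) → (Fin n → F)}

theorem NRel.h12 (hF : Fintype.card F = q ^ 2) (h : NRel q N) (u v : Fin n → F) :
    hermForm n F q (N u) (N (N v)) = 0 := by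
  have := h.rel u (N (N v))
  rwa [h.cube, herm_zero_right hF, herm_zero_right hF, add_zero, add_zero] at this

theorem NRel.h22 (hF : Fintype.card F = q ^ 2) (h : NRel q N) (u v : Fin n → F) :
    hermForm n F q (N (N u)) (N (N v)) = 0 := h.h12 hF (N u) v

theorem NRel.h21 (hF : Fintype.card F = q ^ 2) (h : NRel q N) (u v : Fin n → F) :
    hermForm n F q (N (N u)) (N v) = 0 := herm_eq_zero_swap hF (h.h12 hF v u)

theorem NRel.h11 (hF : Fintype.card F = q ^ 2) (h : NRel q N) (u v : Fin n → F) :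
    hermForm n F q (N u) (N v) = -hermForm n F q u (N (N v)) := by
  have := h.rel u (N v)
  rw [h.h12 hF] at this
  linear_combination this

theorem NRel.h11' (hF : Fintype.card F = q ^ 2) (h : NRel q N) (u v : Fin n → F) :
    hermForm n F q (N u) (N v) = -hermForm n F q (N (N u)) v := by
  have := h.rel (N u) v
  rw [h.h21 hF] at this
  linear_combination this

theorem herm_exp (hF : Fintype.card F = q ^ 2) (y z : Fin n → F) (g : F) :
    hermForm n F q (y + g • z) (y + g • z) =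
      hermForm n F q y y + g ^ q * hermForm n F q y z + g * hermForm n F q z y + g * g ^ q * hermForm n F q z z := by
  rw [herm_add_left, herm_smul_left, herm_add_right hF, herm_add_right hF, herm_smul_right, herm_smul_right]
  ring

/-- a sesquilinear expression with `f(u, u) = 0` -/
theorem eq_zero_of_scale (hF : Fintype.card F = q ^ 2) {a : F} (h : ∀ l : F, l * a = l ^ q * a) : a = 0 := by
  obtain ⟨l, hl⟩ := exists_not_fixed hF
  have h1 : (l ^ q - l) * a = 0 := by rw [sub_mul, h l, sub_self]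
  exact (mul_eq_zero.1 h1).resolve_left (sub_ne_zero.2 hl)

/-- **`N² ≠ 0`: a nondegenerate `3`-space.** -/
theorem NRel.exists_three (hF : Fintype.card F = q ^ 2) (h : NRel q N) (hN : ∃ u, N (N u) ≠ 0) :
    ∃ u, hermForm n F q u (N (N u)) ≠ 0 := by
  by_contra hcon
  push Not at hcon
  obtain ⟨v, hv⟩ := hN
  apply hv
  have key : ∀ u, hermForm n F q (N (N v)) u = 0 := by
    intro u
    have h1 : ∀ w, hermForm n F q v (N (N w)) + hermForm n F q w (N (N v)) = 0 := by
      intro w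
      have := hcon (v + w)
      rw [h.add, h.add, herm_add_left, herm_add_right hF, herm_add_right hF, hcon, hcon] at this
      linear_combination this
    have h2 : ∀ w, hermForm n F q (N (N v)) w = hermForm n F q v (N (N w)) := fun w => by
      have e1 := h.h11 hF v w
      have e2 := h.h11' hF v w
      linear_combination e2 - e1
    have h3 : ∀ w, hermForm n F q (N (N v)) w + (hermForm n F q (N (N v)) w) ^ q = 0 := by
      intro w
      have e := h1 w
      rw [← h2, herm_swap hF (N (N v)) w] at e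
      exact e
    apply eq_zero_of_scale hF
    intro l
    have e1 := h3 u
    have e2 := h3 (l ^ q • u)
    rw [herm_smul_right, pow_q_pow_q hF, mul_pow] at e2
    linear_combination e2 - l ^ q * e1
  exact herm_nondeg hF key

/-- **`N² = 0`: a hyperbolic plane.** -/
theorem NRel.exists_two (hF : Fintype.card F = q ^ 2) (h : NRel q N) (hN : ∃ u, N u ≠ 0) (h2 : ∀ u, N (N u) = 0) :
    ∃ u, hermForm n F q u (N u) ≠ 0 := by
  by_contra hcon
  push Not at hcon
  obtain ⟨v, hv⟩ := hN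
  apply hv
  have h0 : ∀ u w, hermForm n F q (N u) (N w) = 0 := fun u w => by
    rw [h.h11 hF, h2, herm_zero_right hF, neg_zero]
  have key : ∀ u, hermForm n F q (N v) u = 0 := by
    intro u
    have h1 : ∀ w, hermForm n F q v (N w) + hermForm n F q w (N v) = 0 := by
      intro w
      have := hcon (v + w)
      rw [h.add, herm_add_left, herm_add_right hF, herm_add_right hF, hcon, hcon] at this
      linear_combination this
    have h3 : ∀ w, hermForm n F q (N v) w - (hermForm n F q (N v) w) ^ q = 0 := by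
      intro w
      have e := h1 w
      have e2 := h.rel v w
      rw [h0, herm_swap hF (N v) w] at *
      linear_combination e2 - e
    apply eq_zero_of_scale hF
    intro l
    have e1 := h3 u
    have e2 := h3 (l ^ q • u)
    rw [herm_smul_right, pow_q_pow_q hF, mul_pow] at e2
    linear_combination e2 - l ^ q * e1
  exact herm_nondeg hF key

end Vectors

section Elements

variable {E : Type*} [Field E]

/-- the lower unipotent element -/
def lo (E : Type*) [Field E] : Matrix.SpecialLinearGroup (Fin 2) E := ⟨!![1, 0; 1, 1], by simp [Matrix.det_fin_two]⟩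

/-- the upper unipotent elements -/
def up (t : E) : Matrix.SpecialLinearGroup (Fin 2) E := ⟨!![1, t; 0, 1], by simp [Matrix.det_fin_two]⟩

theorem up_cube (h3 : (3 : E) = 0) (t : E) : up t ^ 3 = 1 := by
  apply Subtype.ext
  rw [Matrix.SpecialLinearGroup.coe_pow, Matrix.SpecialLinearGroup.coe_one]
  change !![1, t; 0, 1] ^ 3 = 1
  rw [pow_succ, pow_two]
  ext i j
  (revert i j; simp only [Matrix.mul_apply, Fin.sum_univ_two, _root_.Fin.forall_fin_succ, _root_.Matrix.cons_mul, _root_.Nat.succ_eq_add_one, Nat.reduceAdd, _root_.Matrix.vecMul_cons, _root_.Matrix.head_cons, _root_.one_smul, _root_.Matrix.tail_cons, _root_.Matrix.smul_cons, _root_.smul_eq_mul, _root_.MulZeroClass.mul_zero, _root_.mul_one, _root_.Matrix.smul_empty, _root_.Matrix.empty_vecMul, _root_.add_zero, _root_.Matrix.add_cons, _root_.Matrix.empty_add_empty, _root_.zero_smul, _root_.zero_add, _root_.Matrix.empty_mul, _root_.Equiv.symm_apply_apply, _root_.Matrix.of_apply, _root_.Matrix.cons_val',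 _root_.Matrix.cons_val_fin_one, Fin.isValue, _root_.Matrix.cons_val_zero, _root_.Matrix.cons_val_one, _root_.Matrix.cons_val_succ, _root_.IsEmpty.forall_iff, _root_.Matrix.one_apply_eq, _root_.one_mul, _root_.Fin.succ_zero_eq_one, _root_.ne_eq, _root_.zero_ne_one, _root_.not_false_eq_true, _root_.Matrix.one_apply_ne, _root_.Fin.succ_ne_zero, _root_.MulZeroClass.zero_mul, _root_.and_true, _root_.true_and]) <;> (repeat' with_reducible apply And.intro)
  linear_combination t * h3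

theorem lo_up (t : E) : ((lo E * up t * (lo E)⁻¹ : Matrix.SpecialLinearGroup (Fin 2) E) : Matrix (Fin 2) (Fin 2) E) =
    !![1 - t, t; -t, 1 + t] := by
  rw [Matrix.SpecialLinearGroup.coe_mul, Matrix.SpecialLinearGroup.coe_mul, Matrix.SpecialLinearGroup.coe_inv]
  change !![1, 0; 1, 1] * !![1, t; 0, 1] * (!![1, 0; 1, 1] : Matrix (Fin 2) (Fin 2) E).adjugate = _
  rw [Matrix.adjugate_fin_two_of]
  ext i j
  (revert i j; simp only [Matrix.mul_apply, Fin.sum_univ_two, _root_.Fin.forall_fin_succ, _root_.Matrix.cons_mul, _root_.Nat.succ_eq_add_one, Nat.reduceAdd, _root_.Matrix.vecMul_cons, _root_.Matrix.head_cons, _root_.one_smul, _root_.Matrix.tail_cons, _root_.zero_smul, _root_.Matrix.empty_vecMul, _root_.add_zero, _root_.Matrix.add_cons, _root_.Matrix.empty_add_empty, _root_.Matrix.empty_mul, _root_.Equiv.symm_apply_apply, _root_.neg_zero, _root_.Matrix.of_apply, _root_.Matrix.cons_val', _root_.Matrix.cons_val_fin_one, Fin.isValue, _root_.Matrix.cons_val_zero,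 _root_.Matrix.cons_val_one, _root_.mul_one, _root_.mul_neg, _root_.Matrix.cons_val_succ, _root_.MulZeroClass.mul_zero, _root_.zero_add, _root_.forall_const, _root_.neg_add_rev, _root_.add_neg_cancel_left, _root_.and_true, _root_.true_and]) <;> (repeat' with_reducible apply And.intro)
  all_goals ring

end Elements

section Core

variable {F : Type} [Field F] [Fintype F] {q n k : ℕ}

theorem lin_core (hF : Fintype.card F = q ^ 2) (hn : 3 ≤ n) [CharP F 3] {E : Type} [Field E] [Fintype E]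
    (hE : 3 < Fintype.card E) (hN : NoS3 (Matrix.SpecialLinearGroup (Fin 2) E))
    {P : Matrix (Fin n) (Fin k) F} {Q : Matrix (Fin k) (Fin n) F} {G : Matrix (Fin k) (Fin k) F}
    (h : Fr hF P Q G) (hG : IsUnit G.det) (ψ : Matrix.SpecialLinearGroup (Fin 2) E →* Matrix (Fin k) (Fin k) F)
    (hd : ∀ x, (ψ x).det = 1) (hi : ∀ x, (ψ x)ᵀ * G * (ψ x).map (conj hF) = G) {A : GU n F q}
    (hR : RN (toAut A 1 : MulAut (PSU n F q))) {u₀ h₀ : Matrix.SpecialLinearGroup (Fin 2) E}
    (hAP : gm A * P = P * ψ u₀) (h3 : h₀ ^ 3 = 1) (h1 : ψ h₀ ≠ 1) (h2 : ψ (u₀ * h₀ * u₀⁻¹) ≠ ψ h₀) : False := by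
  have hτ : ∀ g, guConj A (Phi h ψ hd hi g) = Phi h ψ hd hi (u₀ * g * u₀⁻¹) := by
    intro g
    apply mat_injective
    change gm A * T P Q (ψ g) * gm A⁻¹ = T P Q (ψ (u₀ * g * u₀⁻¹))
    have e : gm A * T P Q (ψ g) = T P Q (ψ (u₀ * g * u₀⁻¹)) * gm A := by
      refine conj_T h hG (A₁ := ψ u₀) (fun u v => herm_gm A u v) hAP ?_
      rw [← map_mul, ← map_mul]
      congr 1
      group
    rw [e, Matrix.mul_assoc, gm_mul_inv, Matrix.mul_one]
  have e := key hF hn hE hN (Phi h ψ hd hi) hR (τ := guConj A) (fun g => rfl) (α := fun g => u₀ * g * u₀⁻¹) hτ h3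
    (by
      intro h4
      apply h1
      have h5 := congrArg mat h4
      rw [mat_Phi, mat_one, ← T_one P Q] at h5
      exact T_inj h h5)
  apply h2
  have h5 := congrArg mat e
  rw [mat_Phi, mat_Phi] at h5
  exact T_inj h h5

variable {N : (Fin n → F) → (Fin n → F)}

/-- **The case of a plane.** -/
theorem plane_false (hF : Fintype.card F = q ^ 2) (hn : 3 ≤ n) [CharP F 3] {E : Type} [Field E] [Fintype E]
    (hE : 3 < Fintype.card E) (hN : NoS3 (Matrix.SpecialLinearGroup (Fin 2) E)) (ι : E →+* F)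
    (hι : ∀ e, ι e ^ q = ι e) {A : GU n F q} (hR : RN (toAut A 1 : MulAut (PSU n F q))) (h : NRel q N)
    (hA : ∀ u, gm A *ᵥ u = u + N u) (h2 : ∀ u, N (N u) = 0) {u : Fin n → F} (hu : hermForm n F q u (N u) ≠ 0) : False := by
  have h3 : (3 : F) = 0 := by exact_mod_cast CharP.cast_eq_zero F 3
  have h3E : (3 : E) = 0 := by
    apply ι.injective
    rw [map_ofNat, map_zero, h3]
  set c := hermForm n F q u (N u) with hc
  have h11 : ∀ v w, hermForm n F q (N v) (N w) = 0 := fun v w => by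
    rw [h.h11 hF, h2, herm_zero_right hF, neg_zero]
  have hcq : c ^ q = -c := by
    have e := h.rel u u
    rw [h11, herm_swap hF u (N u), ← hc] at e
    linear_combination e
  set a := hermForm n F q u u with ha
  have haq : a ^ q = a := herm_self_pow hF u
  set w := u + (-(a / c)) • N u with hw
  have hNw : N w = N u := by rw [hw, h.add, h.smul, h2, smul_zero, add_zero]
  have hwq : (-(a / c)) ^ q = a / c := by
    rw [neg_pow_q hF, div_pow, haq, hcq]
    field_simp
  have hww : hermForm n F q w w = 0 := by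
    rw [hw, herm_exp hF, h11, herm_swap hF u (N u), ← hc, ← ha, hwq, hcq]
    have e : a / c * c = a := div_mul_cancel₀ a hu
    linear_combination 2 * e + a * h3
  have hwN : hermForm n F q w (N w) = c := by
    rw [hNw, hw, herm_add_left, herm_smul_left, h11, ← hc]
    ring
  have hNww : hermForm n F q (N w) w = -c := by rw [herm_swap hF w (N w), hwN, hcq]
  have hfr : Fr hF (vm ![w, N w]) (qm hF ![w, N w] (Gm2 c)) (Gm2 c) := by
    refine Fr.mk' hF ?_ (det_Gm2 hu)
    intro i j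
    fin_cases i <;> fin_cases j
    · exact hww
    · exact hwN
    · exact hNww
    · exact h11 w w
  refine lin_core hF hn hE hN hfr (det_Gm2 hu) (psi2 ι) (det_psi2 ι) (psi2_isom ι hF hι c) hR (u₀ := lo E) (h₀ := up 1)
    ?_ (up_cube h3E 1) ?_ ?_
  · apply mul_vm
    intro i
    rw [Fin.sum_univ_two]
    fin_cases i
    · show gm A *ᵥ w = psi2 ι (lo E) 0 0 • w + psi2 ι (lo E) 1 0 • N w
      rw [psi2_apply, psi2_apply, hA]
      simp [lo]
    · show gm A *ᵥ N w = psi2 ι (lo E) 0 1 • w + psi2 ι (lo E) 1 1 • N w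
      rw [psi2_apply, psi2_apply, hA, h2]
      simp [lo]
  · intro e
    have e1 := congrFun (congrFun e 0) 1
    rw [psi2_apply] at e1
    simp [up] at e1
  · intro e
    have e1 := congrFun (congrFun e 0) 0
    rw [psi2_apply, psi2_apply, lo_up] at e1
    simp [up] at e1

/-- **The case of a `3`-space.** -/
theorem space_false (hF : Fintype.card F = q ^ 2) (hn : 3 ≤ n) [CharP F 3] {E : Type} [Field E] [Fintype E]
    (hE : 3 < Fintype.card E) (hN : NoS3 (Matrix.SpecialLinearGroup (Fin 2) E)) (ι : E →+* F)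
    (hι : ∀ e, ι e ^ q = ι e) {A : GU n F q} (hR : RN (toAut A 1 : MulAut (PSU n F q))) (h : NRel q N)
    (hA : ∀ u, gm A *ᵥ u = u + N u) {u : Fin n → F} (hu : hermForm n F q u (N (N u)) ≠ 0) : False := by
  have h3 : (3 : F) = 0 := by exact_mod_cast CharP.cast_eq_zero F 3
  have h3E : (3 : E) = 0 := by
    apply ι.injective
    rw [map_ofNat, map_zero, h3]
  set b := hermForm n F q u (N (N u)) with hb
  have hbN : hermForm n F q (N u) (N u) = -b := h.h11 hF u u
  have hbN' : hermForm n F q (N (N u)) u = b := by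
    have e := h.h11' hF u u
    rw [hbN] at e
    linear_combination e
  have hbq : b ^ q = b := by
    have e := herm_swap hF u (N (N u))
    rw [hbN', ← hb] at e
    exact e.symm
  set c := hermForm n F q u (N u) with hc
  have hcN : hermForm n F q (N u) u = c ^ q := herm_swap hF u (N u)
  have hcq : c ^ q = b - c := by
    have e := h.rel u u
    rw [hbN, hcN, ← hc] at e
    linear_combination e
  set β := -1 - c / b with hβ
  have hβq : β ^ q = -1 - (b - c) / b := by
    rw [hβ, sub_pow_q hF, neg_pow_q hF, one_pow, div_pow, hcq, hbq]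
  set y := u + β • N u with hy
  set a := hermForm n F q y y with ha
  have haq : a ^ q = a := herm_self_pow hF y
  set w := y + (a / b) • N (N u) with hw
  have hgq : (a / b) ^ q = a / b := by rw [div_pow, haq, hbq]
  have hNy : N y = N u + β • N (N u) := by rw [hy, h.add, h.smul]
  have hNw : N w = N u + β • N (N u) := by rw [hw, h.add, h.smul, h.cube, smul_zero, add_zero, hNy]
  have hNNw : N (N w) = N (N u) := by rw [hNw, h.add, h.smul, h.cube, smul_zero, add_zero]
  have hyN2 : hermForm n F q y (N (N u)) = b := by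
    rw [hy, herm_add_left, herm_smul_left, h.h12 hF, ← hb]; ring
  have hN2y : hermForm n F q (N (N u)) y = b := by rw [herm_swap hF y, hyN2, hbq]
  -- the products of `w`
  have hw2 : hermForm n F q w (N (N w)) = b := by
    rw [hNNw, hw, herm_add_left, herm_smul_left, h.h22 hF, hyN2]; ring
  have hw1 : hermForm n F q w (N w) = -b := by
    rw [hNw, hw, herm_add_left, herm_smul_left, herm_add_right hF, herm_add_right hF, herm_smul_right, herm_smul_right,
      h.h21 hF, h.h22 hF, hyN2, hy, herm_add_left, herm_smul_left, ← hc, hbN, hβq, hβ]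
    have e : c / b * b = c := div_mul_cancel₀ c hu
    have e' : (b - c) / b * b = b - c := div_mul_cancel₀ _ hu
    linear_combination e - e' + c * h3
  have hww : hermForm n F q w w = 0 := by
    rw [hw, herm_exp hF, h.h22 hF, hyN2, hN2y, ← ha, hgq]
    have e : a / b * b = a := div_mul_cancel₀ a hu
    linear_combination 2 * e + a * h3
  -- the frame
  have g01 : hermForm n F q w (-(N w) - N (N w)) = 0 := by
    rw [herm_sub_right hF, herm_neg_right hF, hw1, hw2]; ring
  have g02 : hermForm n F q w (-(N (N w))) = -b := by rw [herm_neg_right hF, hw2]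
  have g11 : hermForm n F q (-(N w) - N (N w)) (-(N w) - N (N w)) = -b := by
    rw [herm_sub_right hF, herm_neg_right hF, herm_sub_left, herm_sub_left, herm_neg_left, herm_neg_left,
      h.h12 hF, h.h21 hF, h.h22 hF, h.h11 hF, hw2]
    ring
  have g12 : hermForm n F q (-(N w) - N (N w)) (-(N (N w))) = 0 := by
    rw [herm_neg_right hF, herm_sub_left, herm_neg_left, h.h12 hF, h.h22 hF]
    ring
  have g22 : hermForm n F q (-(N (N w))) (-(N (N w))) = 0 := by
    rw [herm_neg_right hF, herm_neg_left, h.h22 hF]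
    ring
  have hb' : -b ≠ 0 := neg_ne_zero.2 hu
  have hfr : Fr hF (vm ![w, -(N w) - N (N w), -(N (N w))]) (qm hF ![w, -(N w) - N (N w), -(N (N w))] (Gm3 (-b)))
      (Gm3 (-b)) := by
    refine Fr.mk' hF ?_ (det_Gm3 hb')
    intro i j
    fin_cases i <;> fin_cases j
    · exact hww
    · exact g01
    · exact g02
    · exact herm_eq_zero_swap hF g01
    · exact g11
    · exact g12
    · show hermForm n F q (-(N (N w))) w = -b
      rw [herm_swap hF w, g02, neg_pow_q hF, hbq]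
    · exact herm_eq_zero_swap hF g12
    · exact g22
  have hneg : ∀ v, N (-v) = -(N v) := fun v => by
    rw [← neg_one_smul F v, h.smul, neg_one_smul]
  have hsub : ∀ v v', N (v - v') = N v - N v' := fun v v' => by
    rw [sub_eq_add_neg, h.add, hneg, ← sub_eq_add_neg]
  have h3v : ∀ v : Fin n → F, v + v + v = 0 := fun v => by
    have : v + v + v = (3 : F) • v := by
      rw [show (3 : F) = 1 + 1 + 1 by norm_num, add_smul, add_smul, one_smul]
    rw [this, h3, zero_smul]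
  refine lin_core hF hn hE hN hfr (det_Gm3 hb') (psi3 ι) (det_psi3 ι) (psi3_isom ι hF h3 hι (-b)) hR (u₀ := lo E)
    (h₀ := up 1) ?_ (up_cube h3E 1) ?_ ?_
  · have hl : psi3 ι (lo E) = !![1, 0, 0; 2, 1, 0; 1, 1, 1] := by
      rw [psi3_eq]
      simp only [lo, _root_.Fin.isValue, _root_.Matrix.of_apply, _root_.Matrix.cons_val', _root_.Matrix.cons_val_zero, _root_.Matrix.cons_val_fin_one, _root_.map_one, _root_.one_pow, _root_.Matrix.cons_val_one, _root_.map_zero, _root_.MulZeroClass.mul_zero, _root_.ne_eq, _root_.OfNat.ofNat_ne_zero, _root_.not_false_eq_true, _root_.zero_pow, _root_.mul_one, _root_.add_zero]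
    rw [hl]
    apply mul_vm
    intro i
    rw [Fin.sum_univ_three]
    fin_cases i
    · show gm A *ᵥ w = (1 : F) • w + (2 : F) • (-(N w) - N (N w)) + (1 : F) • (-(N (N w)))
      rw [hA, one_smul, one_smul, two_smul]
      have e1 := h3v (N w)
      have e2 := h3v (N (N w))
      have : w + N w - (w + (-(N w) - N (N w) + (-(N w) - N (N w))) + -(N (N w))) =
          (N w + N w + N w) + (N (N w) + N (N w) + N (N w)) := by abel
      rw [e1, e2, add_zero] at this
      exact sub_eq_zero.1 this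
    · show gm A *ᵥ (-(N w) - N (N w)) = (0 : F) • w + (1 : F) • (-(N w) - N (N w)) + (1 : F) • (-(N (N w)))
      rw [hA, one_smul, one_smul, zero_smul, zero_add, hsub, hneg, h.cube, sub_zero]
    · show gm A *ᵥ (-(N (N w))) = (0 : F) • w + (0 : F) • (-(N w) - N (N w)) + (1 : F) • (-(N (N w)))
      rw [hA, one_smul, zero_smul, zero_smul, zero_add, zero_add, hneg, h.cube, neg_zero, add_zero]
  · intro e
    have e1 := congrFun (congrFun e 0) 1
    rw [psi3_eq] at e1
    simp [up] at e1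
  · intro e
    have e1 := congrFun (congrFun e 0) 0
    rw [psi3_eq, psi3_eq, lo_up] at e1
    simp only [up, _root_.sub_self, _root_.Fin.isValue, _root_.Matrix.of_apply, _root_.Matrix.cons_val', _root_.Matrix.cons_val_zero, _root_.Matrix.cons_val_fin_one, _root_.map_zero, _root_.ne_eq, _root_.OfNat.ofNat_ne_zero, _root_.not_false_eq_true, _root_.zero_pow, _root_.Matrix.cons_val_one, _root_.map_one, _root_.mul_one, _root_.one_pow, _root_.MulZeroClass.mul_zero, _root_.map_neg, _root_.mul_neg, _root_.neg_zero, _root_.map_add, _root_.MulZeroClass.zero_mul, _root_.zero_add, _root_.even_two, _root_.Even.neg_pow, _root_.neg_mul, _root_.one_mul, _root_.neg_add_rev, _root_.add_zero, _root_.zero_ne_one] at e1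

end Core

end Cfsg.Agent.H951.SN
end

-- part: H951/SN/D3
section
/-!
# `PSU_n(q)`, `n ≥ 3`, `q ≥ 9`, characteristic three: the row `G3` of S3831 (task D3)

* `field_false` : no field automorphism of order three with `RN`;
* `g3_psu` : `G3 K`, `K ≅ PSU_n(q)`, with the hypothesis `NoS3 (SL_2(E))` for finite fields `E`.
-/

set_option autoImplicit false
set_option linter.unusedSectionVars false

namespace Cfsg.Agent.H951.SN

open Matrix Subgroup Cfsg Cfsg.Agent.H21.SN Cfsg.Agent.H459.Rad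
open Cfsg.Agent.LieClassical.HermBasic Cfsg.Agent.LieClassical.HermSiegel
open Cfsg.Agent.ClassicalGeometry.PSUAutBasic (pr eq_of_pr_eq)
open Cfsg.Agent.ClassicalGeometry.PSUAutCount (toAut gm herm_gm gm_mul gm_one gm_inj gm_inv_mul gm_mul_inv semiConj guConj
  sc gm_sc_mul toAut_sc_mul)
open Cfsg.Agent.CpAut.Psl (fixf mem_fixf)

section Field

variable {F : Type} [Field F] [Fintype F] {q n : ℕ}

theorem RN_conj {K : Type*} [Group K] [Finite K] {x : MulAut K} (a : MulAut K) (h : RN x) : RN (a * x * a⁻¹) := by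
  have h1 := h.tr (a : K ≃* K)
  have h2 : tr (a : K ≃* K) x = a * x * a⁻¹ := by
    ext l
    rfl
  rwa [h2] at h1

theorem mat_semiConj_one (ρ : F ≃+* F) (g : SU n F q) : mat (semiConj (1 : GU n F q) ρ g) = (mat g).map ρ := by
  have h : mat (semiConj (1 : GU n F q) ρ g) = gm (1 : GU n F q) * (mat g).map ρ * gm (1 : GU n F q)⁻¹ := rfl
  rw [h, inv_one, gm_one, Matrix.one_mul, Matrix.mul_one]

theorem T_map {k : ℕ} (ρ : F ≃+* F) {P : Matrix (Fin n) (Fin k) F} {Q : Matrix (Fin k) (Fin n) F}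
    (hP : P.map ρ = P) (hQ : Q.map ρ = Q) (B : Matrix (Fin k) (Fin k) F) :
    (T P Q B).map ρ = T P Q (B.map ρ) := by
  unfold T
  have e1 : (1 + P * (B - 1) * Q).map ρ = (1 : Matrix (Fin n) (Fin n) F).map ρ + (P * (B - 1) * Q).map ρ :=
    Matrix.map_add _ (map_add _) _ _
  have e2 : (B - 1).map ρ = B.map ρ - (1 : Matrix (Fin k) (Fin k) F).map ρ := Matrix.map_sub _ (map_sub _) _ _
  rw [e1, Matrix.map_mul, Matrix.map_mul, e2, Matrix.map_one _ (map_zero _) (map_one _),
    Matrix.map_one _ (map_zero _) (map_one _), hP, hQ]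

theorem Fr.Q_map {k : ℕ} {hF : Fintype.card F = q ^ 2} {P : Matrix (Fin n) (Fin k) F} {Q : Matrix (Fin k) (Fin n) F}
    {G : Matrix (Fin k) (Fin k) F} (h : Fr hF P Q G) (hG : IsUnit G.det) (ρ : F ≃+* F) (hP : P.map ρ = P)
    (hGρ : G.map ρ = G) : Q.map ρ = Q := by
  have h1 : (P.map (conj hF)).map ρ = P.map (conj hF) := by
    ext i j
    have := congrFun (congrFun hP i) j
    rw [Matrix.map_apply] at this
    rw [Matrix.map_apply, Matrix.map_apply, conj_apply, map_pow, this]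
  have h2 : (Q.map ρ)ᵀ * G = Qᵀ * G := by
    rw [← h.PQ]
    conv_rhs => rw [← h1, h.PQ, Matrix.map_mul, hGρ]
    rfl
  have h3 : (Q.map ρ)ᵀ = Qᵀ := by
    have e : (Q.map ρ)ᵀ * G * G⁻¹ = Qᵀ * G * G⁻¹ := by rw [h2]
    rwa [Matrix.mul_assoc, Matrix.mul_assoc, Matrix.mul_nonsing_inv _ hG, Matrix.mul_one, Matrix.mul_one] at e
  exact Matrix.transpose_injective h3

/-- **No field automorphisms.** -/
theorem field_false (hF : Fintype.card F = q ^ 2) (hn : 3 ≤ n) (hq : 9 ≤ q) [CharP F 3]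
    (hN : ∀ (E : Type) [Field E] [Fintype E], NoS3 (Matrix.SpecialLinearGroup (Fin 2) E))
    {A : GU n F q} {ρ : F ≃+* F} (hx : toAut A ρ ^ 3 = (1 : MulAut (PSU n F q))) (hρ : ρ ≠ 1)
    (hR : RN (toAut A ρ : MulAut (PSU n F q))) : False := by
  have h3 : (3 : F) = 0 := by exact_mod_cast CharP.cast_eq_zero F 3
  obtain ⟨hord, M, hM⟩ := CpAutU.Desc.exists_conj hF hn Nat.prime_three (by norm_num) hx hρ
  have hR' : RN (toAut (1 : GU n F q) ρ : MulAut (PSU n F q)) := by
    have h1 := RN_conj (toAut M 1)⁻¹ hR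
    rw [hM] at h1
    have h2 : (toAut M 1)⁻¹ * (toAut M 1 * toAut 1 ρ * (toAut M 1)⁻¹) * ((toAut M 1)⁻¹)⁻¹ =
        (toAut (1 : GU n F q) ρ : MulAut (PSU n F q)) := by group
    rwa [h2] at h1
  have hodd : Odd 3 := by decide
  obtain ⟨s, hs2, hs, hqs⟩ := CpAutU.Fld.exists_s' hF hord hodd
  have hfin : Fintype ↥(fixf ρ) := Fintype.ofFinite _
  have hF₀ : Fintype.card ↥(fixf ρ) = s ^ 2 := by rw [← Nat.card_eq_fintype_card, hs]
  have hpow : ∀ a ∈ fixf ρ, a ^ q = a ^ s := fun a ha => CpAutU.Fld.pow_q hodd hs hqs ha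
  obtain ⟨m₀, hm₀⟩ := _root_.Cfsg.Agent.LieClassical.HermBasic.exists_norm_eq hF₀ (c := -1) (by rw [neg_pow_q hF₀, one_pow])
  obtain ⟨μ₀, hμ₀0, hμ₀⟩ := exists_trace_zero_ne hF₀
  obtain ⟨m, hm⟩ : ∃ m : F, m = m₀ := ⟨_, rfl⟩
  obtain ⟨μ, hμ⟩ : ∃ μ : F, μ = μ₀ := ⟨_, rfl⟩
  have hρm : ρ m = m := by rw [hm]; exact m₀.2
  have hρμ : ρ μ = μ := by rw [hμ]; exact μ₀.2
  have hmm : m * m ^ q = -1 := by
    rw [hm, hpow _ m₀.2]
    exact congrArg Subtype.val hm₀
  have hμμ : μ ^ q = -μ := by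
    have e : μ + μ ^ q = 0 := by
      rw [hμ, hpow _ μ₀.2]
      exact congrArg Subtype.val hμ₀
    linear_combination e
  have hμ0 : μ ≠ 0 := by rw [hμ]; exact fun h => hμ₀0 (Subtype.ext h)
  -- the plane
  set i₀ : Fin n := ⟨0, by omega⟩ with hi₀
  set i₁ : Fin n := ⟨1, by omega⟩ with hi₁
  have hij : i₀ ≠ i₁ := by simp [hi₀, hi₁]
  have hherm : ∀ a b c d : F, hermForm n F q (a • Pi.single i₀ 1 + b • Pi.single i₁ 1 : Fin n → F)
      (c • Pi.single i₀ 1 + d • Pi.single i₁ 1) = a * c ^ q + b * d ^ q := by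
    intro a b c d
    have e0 : (c • Pi.single i₀ 1 + d • Pi.single i₁ 1 : Fin n → F) i₀ = c := by
      rw [Pi.add_apply, Pi.smul_apply, Pi.smul_apply, Pi.single_eq_same, Pi.single_eq_of_ne hij, smul_eq_mul,
        smul_eq_mul, mul_zero, mul_one, add_zero]
    have e1 : (c • Pi.single i₀ 1 + d • Pi.single i₁ 1 : Fin n → F) i₁ = d := by
      rw [Pi.add_apply, Pi.smul_apply, Pi.smul_apply, Pi.single_eq_same, Pi.single_eq_of_ne hij.symm, smul_eq_mul,
        smul_eq_mul, mul_zero, mul_one, zero_add]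
    rw [herm_add_left, herm_smul_left, herm_smul_left, herm_single_left, herm_single_left, e0, e1, one_mul, one_mul]
  set f₀ : Fin n → F := μ • Pi.single i₀ 1 + (-(μ * m)) • Pi.single i₁ 1 with hf₀
  set f₁ : Fin n → F := (1 : F) • Pi.single i₀ 1 + m • Pi.single i₁ 1 with hf₁
  have h00 : hermForm n F q f₀ f₀ = 0 := by
    rw [hf₀, hherm, neg_pow_q hF, mul_pow, hμμ]
    linear_combination (-μ * μ) * hmm
  have h01 : hermForm n F q f₀ f₁ = -μ := by
    rw [hf₀, hf₁, hherm, one_pow]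
    linear_combination (-μ) * hmm + μ * h3
  have h10 : hermForm n F q f₁ f₀ = μ := by rw [herm_swap hF f₀ f₁, h01, neg_pow_q hF, hμμ, neg_neg]
  have h11 : hermForm n F q f₁ f₁ = 0 := by
    rw [hf₁, hherm, one_pow]
    linear_combination hmm
  have hμ0' : -μ ≠ 0 := neg_ne_zero.2 hμ0
  have hfr : Fr hF (vm ![f₀, f₁]) (qm hF ![f₀, f₁] (Gm2 (-μ))) (Gm2 (-μ)) := by
    refine Fr.mk' hF ?_ (det_Gm2 hμ0')
    intro i j
    fin_cases i <;> fin_cases j
    · exact h00
    · exact h01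
    · show hermForm n F q f₁ f₀ = -(-μ)
      rw [h10, neg_neg]
    · exact h11
  have hρv : ∀ a b : F, ρ a = a → ρ b = b → ∀ l, ρ ((a • Pi.single i₀ 1 + b • Pi.single i₁ 1 : Fin n → F) l) =
      (a • Pi.single i₀ 1 + b • Pi.single i₁ 1 : Fin n → F) l := by
    intro a b ha hb l
    have e : ∀ j : Fin n, ρ ((Pi.single j 1 : Fin n → F) l) = (Pi.single j 1 : Fin n → F) l := by
      intro j
      by_cases hjl : l = j
      · subst hjl
        rw [Pi.single_eq_same, map_one]
      · rw [Pi.single_eq_of_ne hjl, map_zero]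
    rw [Pi.add_apply, Pi.smul_apply, Pi.smul_apply, smul_eq_mul, smul_eq_mul, map_add, map_mul, map_mul, ha, hb, e, e]
  have hPρ : (vm ![f₀, f₁]).map ρ = vm ![f₀, f₁] := by
    ext l i
    rw [Matrix.map_apply]
    fin_cases i
    · exact hρv _ _ hρμ (by rw [map_neg, map_mul, hρμ, hρm]) l
    · exact hρv _ _ (map_one ρ) hρm l
  have hGρ : (Gm2 (-μ)).map ρ = Gm2 (-μ) := by
    ext i j
    (revert i j; simp only [Gm2, hρμ, _root_.Fin.forall_fin_succ, _root_.neg_neg, _root_.Matrix.map_apply, _root_.Matrix.of_apply, _root_.Matrix.cons_val', _root_.Matrix.cons_val_fin_one, Fin.isValue, _root_.Matrix.cons_val_zero, _root_.Matrix.cons_val_succ, _root_.forall_const, _root_.map_zero, _root_.map_neg, _root_.and_self, _root_.implies_true])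
  have hQρ := hfr.Q_map (det_Gm2 hμ0') ρ hPρ hGρ
  -- the subfield of `q` elements
  let E := ↥(fixf (conj hF))
  have hfinE : Fintype E := Fintype.ofFinite _
  have hcardE : Fintype.card E = q := by
    rw [← Nat.card_eq_fintype_card]
    exact card_fixed hF
  let ι : E →+* F := (fixf (conj hF)).subtype
  have hι : ∀ e : E, ι e ^ q = ι e := fun e => e.2
  have h3E : (3 : E) = 0 := by
    apply ι.injective
    rw [map_ofNat, map_zero, h3]
  let ρE : E →+* E := (RingHom.comp (ρ : F →+* F) ι).codRestrict (fixf (conj hF)) (fun e => by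
    rw [mem_fixf]
    show conj hF (ρ (ι e)) = ρ (ι e)
    rw [conj_apply, ← map_pow, hι])
  have hρE : ∀ e : E, ι (ρE e) = ρ (ι e) := fun e => rfl
  let Φ := Phi hfr (psi2 ι) (det_psi2 ι) (psi2_isom ι hF hι (-μ))
  have hτ : ∀ g, semiConj (1 : GU n F q) ρ (Φ g) = Φ (Matrix.SpecialLinearGroup.map ρE g) := by
    intro g
    apply mat_injective
    rw [mat_semiConj_one]
    change (T _ _ (psi2 ι g)).map ρ = T _ _ (psi2 ι (Matrix.SpecialLinearGroup.map ρE g))
    rw [T_map ρ hPρ hQρ]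
    congr 1
  -- `ρ` is trivial on `E`
  have htriv : ∀ t : E, ρ (ι t) = ι t := by
    intro t
    rcases eq_or_ne t 0 with rfl | ht
    · rw [map_zero, map_zero]
    have e := key hF hn (by rw [hcardE]; omega) (hN E) Φ hR' (τ := semiConj 1 ρ) (fun g => rfl)
      (α := fun g => Matrix.SpecialLinearGroup.map ρE g) hτ (h := up t) (up_cube h3E t)
      (by
        intro h4
        have h5 := congrArg mat h4
        rw [mat_Phi, mat_one, ← T_one (vm ![f₀, f₁]) (qm hF ![f₀, f₁] (Gm2 (-μ)))] at h5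
        have h6 := congrFun (congrFun (T_inj hfr h5) 0) 1
        rw [psi2_apply] at h6
        apply ht
        apply ι.injective
        rw [map_zero]
        simpa only [up, _root_.map_eq_zero, _root_.Fin.isValue, _root_.Matrix.of_apply, _root_.Matrix.cons_val', _root_.Matrix.cons_val_one, _root_.Matrix.cons_val_fin_one, _root_.Matrix.cons_val_zero, _root_.Nat.succ_eq_add_one, _root_.Nat.reduceAdd, _root_.ne_eq, _root_.zero_ne_one, _root_.not_false_eq_true, _root_.Matrix.one_apply_ne] using h6)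
    have h5 := congrArg mat e
    rw [mat_Phi, mat_Phi] at h5
    have h6 := congrFun (congrFun (T_inj hfr h5) 0) 1
    rw [psi2_apply, psi2_apply] at h6
    exact h6
  have hle : Nat.card E ≤ Nat.card ↥(fixf ρ) := by
    refine Nat.card_le_card_of_injective (fun t : E => (⟨ι t, htriv t⟩ : ↥(fixf ρ))) ?_
    intro a b hab
    have h7 : ι a = ι b := congrArg (fun z : ↥(fixf ρ) => (z : F)) hab
    exact ι.injective h7
  rw [Nat.card_eq_fintype_card, hcardE, hs, hqs] at hle
  have : s ^ 2 * 2 ≤ s ^ 3 := by rw [pow_succ s 2]; exact Nat.mul_le_mul_left _ hs2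
  have : 0 < s ^ 2 := by positivity
  omega

end Field

section Main

variable {F : Type} [Field F] [Fintype F] {q n : ℕ}

/-- **Unipotent automorphisms.** -/
theorem lin_false (hF : Fintype.card F = q ^ 2) (hn : 3 ≤ n) (hq : 9 ≤ q) [CharP F 3]
    (hN : ∀ (E : Type) [Field E] [Fintype E], NoS3 (Matrix.SpecialLinearGroup (Fin 2) E))
    {A : GU n F q} (hA3 : gm A ^ 3 = 1) (hA1 : A ≠ 1) (hR : RN (toAut A 1 : MulAut (PSU n F q))) : False := by
  have h3 : (3 : F) = 0 := by exact_mod_cast CharP.cast_eq_zero F 3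
  let E := ↥(fixf (conj hF))
  have hfinE : Fintype E := Fintype.ofFinite _
  have hcardE : Fintype.card E = q := by
    rw [← Nat.card_eq_fintype_card]
    exact card_fixed hF
  let ι : E →+* F := (fixf (conj hF)).subtype
  have hι : ∀ e : E, ι e ^ q = ι e := fun e => e.2
  have hE : 3 < Fintype.card E := by rw [hcardE]; omega
  set N : (Fin n → F) → (Fin n → F) := fun v => gm A *ᵥ v - v with hNdef
  have hAN : ∀ u, gm A *ᵥ u = u + N u := fun u => by rw [hNdef]; simp
  have h3v : ∀ v : Fin n → F, v + v + v = 0 := fun v => by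
    have : v + v + v = (3 : F) • v := by
      rw [show (3 : F) = 1 + 1 + 1 by norm_num, add_smul, add_smul, one_smul]
    rw [this, h3, zero_smul]
  have hrel : NRel q N := by
    refine ⟨fun u v => ?_, fun c u => ?_, fun u => ?_, fun u v => ?_⟩
    · simp only [hNdef, Matrix.mulVec_add]; abel
    · simp only [hNdef, Matrix.mulVec_smul, smul_sub]
    · have h1 : gm A *ᵥ (gm A *ᵥ (gm A *ᵥ u)) = u := by
        rw [Matrix.mulVec_mulVec, Matrix.mulVec_mulVec]
        have : gm A * gm A * gm A = gm A ^ 3 := by rw [pow_succ, pow_two]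
        rw [this, hA3, Matrix.one_mulVec]
      simp only [hNdef, Matrix.mulVec_sub, h1]
      have e1 := h3v (gm A *ᵥ (gm A *ᵥ u))
      have e2 := h3v (gm A *ᵥ u)
      have e : u - gm A *ᵥ (gm A *ᵥ u) - (gm A *ᵥ (gm A *ᵥ u) - gm A *ᵥ u) -
          (gm A *ᵥ (gm A *ᵥ u) - gm A *ᵥ u - (gm A *ᵥ u - u)) =
          (gm A *ᵥ u + gm A *ᵥ u + gm A *ᵥ u) -
            (gm A *ᵥ (gm A *ᵥ u) + gm A *ᵥ (gm A *ᵥ u) + gm A *ᵥ (gm A *ᵥ u)) := by abel
      rw [e, e1, e2, sub_zero]
    · have h1 := herm_gm A u v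
      rw [hAN, hAN, herm_add_left, herm_add_right hF, herm_add_right hF] at h1
      linear_combination h1
  by_cases h0 : ∀ u, N (N u) = 0
  · have hN0 : ∃ u, N u ≠ 0 := by
      by_contra hcon
      push Not at hcon
      apply hA1
      apply gm_inj
      rw [gm_one]
      apply Matrix.ext_of_mulVec_single
      intro i
      rw [hAN, hcon, add_zero, Matrix.one_mulVec]
    obtain ⟨u, hu⟩ := hrel.exists_two hF hN0 h0
    exact plane_false hF hn hE (hN E) ι hι hR hrel hAN h0 hu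
  · push Not at h0
    obtain ⟨u, hu⟩ := hrel.exists_three hF h0
    exact space_false hF hn hE (hN E) ι hι hR hrel hAN hu

/-- **D3 (all `n ≥ 3`).** -/
theorem g3_PSU (hF : Fintype.card F = q ^ 2) (hn : 3 ≤ n) (hq : 9 ≤ q) [CharP F 3]
    (hN : ∀ (E : Type) [Field E] [Fintype E], NoS3 (Matrix.SpecialLinearGroup (Fin 2) E)) : G3 (PSU n F q) := by
  intro x hx _ hR
  have h3f : Fact (Nat.Prime 3) := ⟨Nat.prime_three⟩
  obtain ⟨A, ρ, rfl⟩ := ClassicalGeometry.PSUAutMain.exists_toAut hF hn (by omega) x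
  have hpow : toAut A ρ ^ 3 = (1 : MulAut (PSU n F q)) := by rw [← hx, pow_orderOf_eq_one]
  by_cases hρ : ρ = 1
  swap
  · exact field_false hF hn hq hN hpow hρ hR
  subst hρ
  obtain ⟨-, c, hc1, hc⟩ := CpAutU.Desc.exists_scalar hF hn hpow
  have hgm : gm A ^ 3 = c • (1 : Matrix (Fin n) (Fin n) F) := by
    have hgp : ∀ k : ℕ, ∀ v, (CpAut.Psl.perm (A : GL (Fin n) F) 1 ^ k) v = gm A ^ k *ᵥ v := by
      intro k
      induction k with
      | zero => intro v; rw [pow_zero, pow_zero, one_mulVec]; rfl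
      | succ k ih =>
        intro v
        rw [pow_succ, Equiv.Perm.mul_apply, ih, pow_succ, ← mulVec_mulVec]
        rfl
    apply Matrix.ext_of_mulVec_single
    intro i
    rw [← hgp, hc, Matrix.smul_mulVec, one_mulVec]
  -- the cube root of `c`
  obtain ⟨d, hd⟩ : ∃ d : F, d ^ 3 = c := ⟨(frobeniusEquiv F 3).symm c, frobeniusEquiv_symm_pow_p F 3 c⟩
  have hdd : d * d ^ q = 1 := by
    have e : (d * d ^ q) ^ 3 = 1 := by rw [mul_pow, ← pow_mul, mul_comm q 3, pow_mul, hd, hc1]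
    have e1 : (d * d ^ q - 1) ^ 3 = 0 := by rw [sub_pow_char, e, one_pow, sub_self]
    exact sub_eq_zero.1 (pow_eq_zero_iff (by norm_num) |>.1 e1)
  have hd0 : d ≠ 0 := left_ne_zero_of_mul_eq_one hdd
  have hdi : d⁻¹ * d⁻¹ ^ q = 1 := by rw [inv_pow, ← mul_inv, hdd, inv_one]
  have hB : toAut (sc n ⟨d⁻¹, hdi⟩ * A) 1 = (toAut A 1 : MulAut (PSU n F q)) := toAut_sc_mul _ _ _
  have hgB : gm (sc n ⟨d⁻¹, hdi⟩ * A) = d⁻¹ • gm A := gm_sc_mul _ _
  refine lin_false hF hn hq hN (A := sc n ⟨d⁻¹, hdi⟩ * A) ?_ ?_ (by rw [hB]; exact hR)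
  · rw [hgB, smul_pow, hgm, smul_smul, ← hd, ← mul_pow, inv_mul_cancel₀ hd0, one_pow, one_smul]
  · intro h1
    rw [h1, CpAutU.Desc.toAut_one] at hB
    rw [← hB, orderOf_one] at hx
    omega

/-- **D3.** -/
theorem g3_psu {K : Type} [Group K] [Finite K] (hF : Fintype.card F = q ^ 2) (hn : 3 ≤ n) (hq : 9 ≤ q) [CharP F 3]
    (hN : ∀ (E : Type) [Field E] [Fintype E], NoS3 (Matrix.SpecialLinearGroup (Fin 2) E))
    (e : Nonempty (K ≃* PSU n F q)) : G3 K := by
  obtain ⟨e⟩ := e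
  exact (g3_PSU hF hn hq hN).congr e

end Main

end Cfsg.Agent.H951.SN
end

-- part: H189/SN/Row
section
/-!
# S3831: the row of `PSU_n(3)`, `n ≥ 5` (helper189, E3b)

* `order6` : elements of order six with `PS 2` come from `PSU_3(3)` or `PSU_4(3)`;
* `lrU` : `LrU n` from `LrU 3` and `LrU 4`;
* `r69_psu3` : **the row.**
-/

set_option autoImplicit false
set_option linter.unusedSectionVars false

namespace Cfsg.Agent.H189.SN

open Matrix Subgroup Module Cfsg
open Cfsg.Agent.LieClassical.HermBasic Cfsg.Agent.LieClassical.HermSiegel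
open Cfsg.Agent.ClassicalGeometry.PSUAutBasic Cfsg.Agent.ClassicalGeometry.HermOrtho
open Cfsg.Agent.ClassicalGeometry.PSUAutCount (toAut gm gm_mul gm_one gm_mul_inv gm_inv_mul semiConj guConj act_guConj
  herm_gm gm_inv_mulVec gm_mulVec_inv herm_map gm_inj act_semiConj herm_semi sc gm_sc_mul toAut_sc_mul
  eq_of_toAut_eq)
open Cfsg.Agent.H459.Rad Cfsg.Agent.H21.SN

variable {F : Type} [Field F] [Fintype F] {n m : ℕ}

theorem order6 (hF : Fintype.card F = 3 ^ 2) (hn : 5 ≤ n) (h3 : LrU 3) (h4 : LrU 4) {x : MulAut (PSU n F 3)}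
    (hx : orderOf x = 6) (hps : PS 2 x) (hrn : RN (x ^ 4)) :
    (∃ y : MulAut (PSU 3 F 3), orderOf y = 6 ∧ PS 2 y) ∨ ∃ y : MulAut (PSU 4 F 3), orderOf y = 6 ∧ PS 2 y := by
  have hx6 : x ^ 6 = 1 := orderOf_dvd_iff_pow_eq_one.1 (by rw [hx])
  have ho4 : orderOf (x ^ 4) = 3 := by rw [orderOf_pow, hx]; rfl
  obtain ⟨U, w, μ, hU4, hU⟩ := order3 hF hn h3 h4 ho4 (PS.pow hps 4) hrn
  obtain ⟨T, ρ, hT3⟩ := Cfsg.Agent.ClassicalGeometry.PSUAutMain.exists_toAut hF (by omega) (by norm_num) (x ^ 3)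
  -- the square of `x ^ 3`
  have hsq : (toAut T ρ : MulAut (PSU n F 3)) ^ 2 = 1 := by
    rw [← hT3, ← pow_mul]
    exact hx6
  obtain ⟨-, c, hc⟩ := (pow_eq_one_iff hF (by omega) T ρ 2).1 hsq
  have hT2 : ∀ v, sm T ρ (sm T ρ v) = c • v := hc
  have hc0 : c ≠ 0 := by
    rintro rfl
    have h1 := hT2 w
    rw [zero_smul] at h1
    have h2 : sm T ρ w = 0 := sm_injective T ρ (h1.trans (sm_zero T ρ).symm)
    exact hU.ne (sm_injective T ρ (h2.trans (sm_zero T ρ).symm))
  -- the products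
  obtain ⟨C, hC, hC'⟩ := exists_comp hF U T 1 ρ
  obtain ⟨D, hD, hD'⟩ := exists_comp hF T U ρ 1
  rw [one_mul] at hC hC'
  rw [mul_one] at hD hD'
  simp only [sm_one] at hC hD
  have hxC : x = toAut C ρ := by
    rw [hC', ← hU4, ← hT3, ← pow_add]
    calc x = x ^ 6 * x := by rw [hx6, one_mul]
      _ = x ^ (4 + 3) := by rw [← pow_succ]
  have hCD : (toAut C ρ : MulAut (PSU n F 3)) = toAut D ρ := by
    rw [hC', hD', ← hU4, ← hT3, ← pow_add, ← pow_add]
  obtain ⟨-, d, -, hd⟩ := eq_of_toAut_eq hF (by omega) hCD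
  have hcom0 : ∀ v, sm T ρ (gm U *ᵥ v) = d • (gm U *ᵥ sm T ρ v) := by
    intro v
    rw [← hD, ← hC, sm_def, sm_def, hd, smul_mulVec]
  -- `d = 1`
  obtain ⟨w1, hw1⟩ := sm_surjective T ρ w
  obtain ⟨z, hz0, hz1, hz2⟩ := exists_vec_perp hF (by omega) w w1
  have hd1 : d = 1 := by
    have h1 := hcom0 z
    have h2 : hermForm n F 3 (sm T ρ z) w = 0 := by rw [← hw1, herm_sm, hz2, map_zero]
    rw [hU.fix hz1, hU.fix h2] at h1
    have h5 : (d - 1) • sm T ρ z = 0 := by rw [sub_smul, one_smul, ← h1, sub_self]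
    rcases smul_eq_zero.1 h5 with h6 | h6
    · exact sub_eq_zero.1 h6
    · exact absurd (sm_injective T ρ (h6.trans (sm_zero T ρ).symm)) hz0
  have hcom : ∀ v, sm T ρ (gm U *ᵥ v) = gm U *ᵥ sm T ρ v := by
    intro v
    rw [hcom0, hd1, one_smul]
  have hk : ∀ v, ρ (μ * hermForm n F 3 v w) • sm T ρ w = (μ * hermForm n F 3 (sm T ρ v) w) • w := by
    intro v
    have h1 := hcom v
    rw [hU.eq, hU.eq, sm_add, sm_smul] at h1
    exact add_left_cancel h1
  obtain ⟨u, hu⟩ : ∃ u, hermForm n F 3 u w ≠ 0 := by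
    obtain ⟨u, hu⟩ := exists_herm_ne_zero hF hU.ne
    exact ⟨u, fun h => hu (herm_eq_zero_swap hF h)⟩
  have hρu : ρ (μ * hermForm n F 3 u w) ≠ 0 := (map_ne_zero ρ).2 (mul_ne_zero hU.mu hu)
  obtain ⟨a, ha⟩ : ∃ a : F, sm T ρ w = a • w := by
    refine ⟨(ρ (μ * hermForm n F 3 u w))⁻¹ * (μ * hermForm n F 3 (sm T ρ u) w), ?_⟩
    rw [← smul_smul, ← hk, smul_smul, inv_mul_cancel₀ hρu, one_smul]
  have ha0 : a ≠ 0 := by
    rintro rfl
    rw [zero_smul] at ha
    exact hU.ne (sm_injective T ρ (ha.trans (sm_zero T ρ).symm))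
  have ha4 : a ^ 4 * ρ μ = μ := by
    have h1 := hk u
    rw [ha, smul_smul] at h1
    have h2 : (ρ (μ * hermForm n F 3 u w) * a - μ * hermForm n F 3 (sm T ρ u) w) • w = 0 := by
      rw [sub_smul, h1, sub_self]
    have h5 : ρ (μ * hermForm n F 3 u w) * a = μ * hermForm n F 3 (sm T ρ u) w := by
      rcases smul_eq_zero.1 h2 with h6 | h6
      · exact sub_eq_zero.1 h6
      · exact absurd h6 hU.ne
    have h6 : a ^ 3 * hermForm n F 3 (sm T ρ u) w = ρ (hermForm n F 3 u w) := by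
      rw [← herm_sm T ρ u w, ha, herm_smul_right]
    have h7 : ρ (hermForm n F 3 u w) ≠ 0 := (map_ne_zero ρ).2 hu
    rw [map_mul] at h5
    apply mul_right_cancel₀ h7
    linear_combination a ^ 3 * h5 + μ * h6
  have hμ3 : μ ^ 3 = -μ := by linear_combination hU.tr
  rw [hxC] at hx6 hps
  rcases aut_cases hF ρ with hρ | hρ
  · left
    subst hρ
    have ha4' : a ^ 4 = 1 := by
      have h1 : a ^ 4 * μ = μ := ha4
      exact mul_right_cancel₀ hU.mu (by rw [h1, one_mul])
    refine lin_case hF hn hC hcom hc0 hT2 hU ha0 ha ha4' ?_ hx6 hps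
    by_contra hcon
    push Not at hcon
    have h1 : (toAut T 1 : MulAut (PSU n F 3)) ^ 1 = 1 :=
      (pow_eq_one_iff hF (by omega) T 1 1).2 ⟨pow_one 1, a, hcon⟩
    rw [pow_one, ← hT3] at h1
    have h2 := orderOf_dvd_of_pow_eq_one h1
    rw [hx] at h2
    norm_num at h2
  · right
    have hρx : ∀ x : F, ρ x = x ^ 3 := fun x => by rw [hρ, conj_apply]
    have ha4' : a ^ 4 = -1 := by
      rw [hρx, hμ3] at ha4
      apply mul_right_cancel₀ hU.mu
      linear_combination -ha4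
    have hcm : c = -1 := by
      have h1 := hT2 w
      rw [ha, sm_smul, ha, smul_smul, hρx] at h1
      have h2 : (a ^ 3 * a - c) • w = 0 := by rw [sub_smul, h1, sub_self]
      rcases smul_eq_zero.1 h2 with h6 | h6
      · linear_combination -h6 + ha4'
      · exact absurd h6 hU.ne
    subst hcm
    exact semi_case hF hn hρ hC hcom hT2 hU ha0 ha ha4' hx6 hps

theorem r69_psu (hF : Fintype.card F = 3 ^ 2) (hn : 5 ≤ n) (h3 : LrU 3) (h4 : LrU 4) : R69 (PSU n F 3) := by
  intro x hx hps hR hI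
  have f3 : Finite (PSU 3 F 3) := Quotient.finite _
  have f4 : Finite (PSU 4 F 3) := Quotient.finite _
  have s3 : IsSimpleGroup (PSU 3 F 3) := Cfsg.Agent.S0283.result hF 3 le_rfl (by norm_num)
  have s4 : IsSimpleGroup (PSU 4 F 3) := Cfsg.Agent.S0283.result hF 4 (by norm_num) (by norm_num)
  have n3 : ¬ IsMulCommutative (PSU 3 F 3) := psu_nc hF le_rfl (by norm_num)
  have n4 : ¬ IsMulCommutative (PSU 4 F 3) := psu_nc hF (by norm_num) (by norm_num)
  rcases hx with hx | hx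
  · have hrn : RN (x ^ 4) := hR 4 (by
      rw [← pow_mul]
      exact orderOf_dvd_iff_pow_eq_one.1 (by rw [hx]; norm_num))
    rcases order6 hF hn h3 h4 hx hps hrn with ⟨y, hy, hyP⟩ | ⟨y, hy, hyP⟩
    · exact hI _ n3 (card_lt_three hF hn) y (Or.inl hy) hyP
    · exact hI _ n4 (card_lt_four hF hn) y (Or.inl hy) hyP
  · have hrn : RN (x ^ 3) := hR 3 (by
      rw [← pow_mul]
      exact orderOf_dvd_iff_pow_eq_one.1 (by rw [hx]))
    obtain ⟨y, hy, hyP⟩ := order9 hF hn h3 h4 hx hps hrn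
    exact hI _ n4 (card_lt_four hF hn) y (Or.inr hy) hyP

/-- **The row.** -/
theorem r69_psu3 {K : Type} [Group K] [Finite K] [IsSimpleGroup K] {F : Type} [Field F] [Fintype F] {n : ℕ}
    (hF : Fintype.card F = 3 ^ 2) (hn : 5 ≤ n) (h3 : LrU 3) (h4 : LrU 4) (e : Nonempty (K ≃* PSU n F 3)) : R69 K := by
  obtain ⟨e⟩ := e
  have : Finite (PSU n F 3) := Quotient.finite _
  exact R69.congr e (r69_psu hF hn h3 h4)

end Cfsg.Agent.H189.SN
end

-- part: H21/SN/RowsUni
section
/-!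
# S3831: rows `PSU` (helper21)
-/

set_option autoImplicit false
set_option linter.unusedSectionVars false

namespace Cfsg.Agent.H21.SN.RowsUni

open Cfsg Subgroup Cfsg.Agent.H459.Rad Cfsg.Agent.H21.SN

theorem psu3 (K : Type) [Group K] [Finite K] [IsSimpleGroup K] (F : Type) [Field F] [Fintype F] (q : ℕ)
    (hF : Fintype.card F = q ^ 2) (hq : q ≠ 3) (e : Nonempty (K ≃* PSU 3 F q)) : G3 K :=
  H115.SN.g3_psu3 hF hq e

theorem psu (K : Type) [Group K] [Finite K] [IsSimpleGroup K] (r : ℕ) [Fact r.Prime] (hr : r ≠ 3)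
    (F : Type) [Field F] [Fintype F] [CharP F r] (n q : ℕ) (hF : Fintype.card F = q ^ 2) (hn : 4 ≤ n) (hq : q ≠ 2)
    (e : Nonempty (K ≃* PSU n F q)) : G3 K :=
  H858.SN.g3_psu hr hF hn hq e

theorem psu9 (K : Type) [Group K] [Finite K] [IsSimpleGroup K] (F : Type) [Field F] [Fintype F] [CharP F 3]
    (n q : ℕ) (hF : Fintype.card F = q ^ 2) (hq : 9 ≤ q) (hn : 4 ≤ n) (e : Nonempty (K ≃* PSU n F q)) : G3 K :=
  H951.SN.g3_psu hF (by omega) hq (fun E _ _ => H161.SN.noS3_sl2) e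

theorem psun2 (K : Type) [Group K] [Finite K] [IsSimpleGroup K] (F : Type) [Field F] [Fintype F] (n : ℕ)
    (hF : Fintype.card F = 2 ^ 2) (hn : 4 ≤ n) (e : Nonempty (K ≃* PSU n F 2)) : R69 K := by
  rcases (show n = 4 ∨ 5 ≤ n by omega) with rfl | h
  · exact H521.SN.SpFour.r69_psu_four_two (by rw [hF]; norm_num) e
  · exact H487.SN.r69_psu_two_of_nonempty hF rfl h e

theorem psu33 (K : Type) [Group K] [Finite K] [IsSimpleGroup K] (F : Type) [Field F] [Fintype F]
    (hF : Fintype.card F = 3 ^ 2) (e : Nonempty (K ≃* PSU 3 F 3)) : R69 K :=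
  H154.SN.r69_psu33 (by rw [hF]; norm_num) e

theorem lrU_four (hC : Core3) : LrU 4 := H500.SN.lrU_of_three hC H154.SN.lrU3 (by norm_num)

theorem psun3 (hC : Core3) (K : Type) [Group K] [Finite K] [IsSimpleGroup K] (F : Type) [Field F] [Fintype F] (n : ℕ)
    (hF : Fintype.card F = 3 ^ 2) (hn : 4 ≤ n) (e : Nonempty (K ≃* PSU n F 3)) : R69 K := by
  rcases (show n = 4 ∨ 5 ≤ n by omega) with rfl | h
  · exact H500.SN.r69_psu_four hC H154.SN.lrU3 hF e
  · exact H189.SN.r69_psu3 hF h H154.SN.lrU3 (lrU_four hC) e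

end Cfsg.Agent.H21.SN.RowsUni
end

private theorem dce_080ad0a18bc9 : _root_.True := by
  try have : _root_.True := by simp only [_root_.Cfsg.Agent.H951.SN.Gm2.eq_1]
  try have : _root_.True := by simp only [_root_.Cfsg.Agent.H951.SN.T.eq_1]
  try have : _root_.True := by simp only [_root_.Cfsg.Agent.H951.SN.lo.eq_1]
  try have : _root_.True := by simp only [_root_.Cfsg.Agent.H951.SN.Gm3.eq_1]
  try have : _root_.True := by simp only [_root_.Cfsg.Agent.H951.SN.up.eq_1]
  try have : _root_.True := by simp only [_root_.Cfsg.Agent.H951.SN.qm.eq_1]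
  try have : _root_.True := by simp only [_root_.Cfsg.Agent.H858.SN.cmp.eq_1]
  exact _root_.True.intro
end

-- part: H880/Six/Lrgs_mg
section
prune_inst 0x240000400000120000000500302000040c0004200060000088200b0002004302008001000c001102020a200100010000000000c000000000000000000001000000089004a2080104260098800084000000000000000000000000000000010004000000000
set_option linter.all false
open scoped Cfsg.Agent.FastGrp

-- part: H880/Six/SixR
section
/-!
# Long root elements over `F₃`: order six (helper880, for S3831)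

* `LRG.no_sol` : a subgroup containing `u`, a braid partner, and two non-commuting elements of `Q` inverted by the central
  involution is not solvable;
* `r69_of_hasLRG` : `HasLRG K → R69 K`.
-/

set_option autoImplicit false
set_option linter.unusedSectionVars false

namespace Cfsg.Agent.H880.Six

open Cfsg Subgroup Cfsg.Agent.H459.Rad Cfsg.Agent.H880.Six.Struct Cfsg.Agent.H21.SN
open Cfsg.Agent.SignalizersComponents.ComponentExists Cfsg.Agent.SignalizersComponents.Components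
open scoped commutatorElement

/-- involutions on sets of odd cardinality -/
theorem exists_fixed {α : Type*} [Finite α] (h : Odd (Nat.card α)) (σ : Equiv.Perm α) (hσ : σ ^ 2 = 1) :
    ∃ a, σ a = a := by
  have := Fintype.ofFinite α
  have hf2 : Fact (Nat.Prime 2) := ⟨Nat.prime_two⟩
  refine Equiv.Perm.exists_fixed_point_of_prime (p := 2) (n := 1) ?_ (by rw [pow_one]; exact hσ)
  rw [← Nat.card_eq_fintype_card]
  intro h2
  exact (Nat.not_even_iff_odd.2 h) (even_iff_two_dvd.2 h2)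

section Gen

variable {K : Type*} [Group K]

theorem eq_one_of_zpowers {u k : K} (hu : u ^ 3 = 1) (hk : k ∈ zpowers u) (hk2 : k * k = 1) : k = 1 := by
  obtain ⟨i, rfl⟩ := mem_zpowers_iff.1 hk
  have h1 : (u ^ i) ^ 3 = 1 := by rw [← zpow_natCast, ← zpow_mul, mul_comm, zpow_mul, zpow_natCast, hu, one_zpow]
  calc u ^ i = (u ^ i) ^ 3 * (u ^ i * u ^ i)⁻¹ := by group
    _ = 1 := by rw [h1, hk2, inv_one, one_mul]

theorem mem_of_zpowers {u k : K} (hu : u ^ 3 = 1) (hk : k ∈ zpowers u) (hk1 : k ≠ 1) {H : Subgroup K} (h : k ∈ H) :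
    u ∈ H := by
  obtain ⟨i, rfl⟩ := mem_zpowers_iff.1 hk
  have h0 : u ^ (3 : ℤ) = 1 := by
    rw [show (3 : ℤ) = ((3 : ℕ) : ℤ) by norm_num, zpow_natCast, hu]
  have hd : ∀ j : ℤ, u ^ (3 * j) = 1 := fun j => by rw [zpow_mul, h0, one_zpow]
  have h3 : i % 3 = 0 ∨ i % 3 = 1 ∨ i % 3 = 2 := by omega
  have h4 : i = 3 * (i / 3) + i % 3 := by omega
  rw [h4, zpow_add, hd, one_mul] at h hk1
  rcases h3 with h5 | h5 | h5
  · rw [h5, zpow_zero] at hk1
    exact absurd rfl hk1
  · rw [h5, zpow_one] at h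
    exact h
  · rw [h5] at h
    have h6 : u = (u ^ (2 : ℤ))⁻¹ := by
      rw [eq_inv_iff_mul_eq_one, ← zpow_one_add]
      exact h0
    rw [h6]
    exact inv_mem h

theorem mem_of_sq {H : Subgroup K} {d : K} {k : ℕ} (hd : d ^ 3 ^ k = 1) (h : d * d ∈ H) : d ∈ H := by
  have h1 : Odd (3 ^ k) := Odd.pow (by decide)
  obtain ⟨j, hj⟩ := h1
  rw [hj, pow_succ, pow_mul, pow_two] at hd
  have h2 : d = ((d * d) ^ j)⁻¹ := by
    rw [eq_inv_iff_mul_eq_one]
    rw [← hd]
    rw [← pow_two, ← pow_mul]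
    exact (pow_mul_comm' d (2 * j)).symm
  rw [h2]
  exact inv_mem (pow_mem h j)

/-- central involutions fixed by `t` invert the elements inverted by `t` -/
theorem LRG.inv_exact {u : K} {Q : Subgroup K} (L : LRG u Q) {t : MulAut K} (htu : t u = u) {d : K} (hd : d ∈ Q)
    (htd : t d = d⁻¹) {g : K} (hg : Br u (g * u * g⁻¹)) (htz : t ((u * (g * u * g⁻¹)) ^ 3) = (u * (g * u * g⁻¹)) ^ 3) :
    (u * (g * u * g⁻¹)) ^ 3 * d * ((u * (g * u * g⁻¹)) ^ 3)⁻¹ = d⁻¹ := by
  have h1 := L.neg g hg d hd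
  obtain ⟨z, hz⟩ : ∃ z, z = (u * (g * u * g⁻¹)) ^ 3 := ⟨_, rfl⟩
  rw [← hz] at h1 htz ⊢
  obtain ⟨k, hk⟩ : ∃ k, k = z * d * z⁻¹ * d := ⟨_, rfl⟩
  rw [← hk] at h1
  have hkd : k * d = d * k := by
    obtain ⟨i, hi⟩ := mem_zpowers_iff.1 h1
    rw [← hi]
    exact ((show Commute d u from L.cen' d hd).zpow_right i).symm.eq
  have htk : t k = k := by
    obtain ⟨i, hi⟩ := mem_zpowers_iff.1 h1
    rw [← hi, map_zpow, htu]
  have h2 : z * d⁻¹ * z⁻¹ * d⁻¹ = k := by
    rw [← htk, hk]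
    simp only [map_mul, map_inv, htz, htd]
  have h3 : k⁻¹ = k := by
    have h4 : z * d⁻¹ * z⁻¹ = d * k⁻¹ := by rw [hk]; group
    rw [h4] at h2
    calc k⁻¹ = d⁻¹ * (d * k⁻¹ * d⁻¹) * d := by group
      _ = d⁻¹ * (k * d) := by rw [h2]; group
      _ = d⁻¹ * (d * k) := by rw [hkd]
      _ = k := by group
  have h5 : k = 1 := eq_one_of_zpowers L.cube h1 (by
    nth_rw 1 [← h3]
    exact inv_mul_cancel k)
  calc z * d * z⁻¹ = k * d⁻¹ := by rw [hk]; group
    _ = d⁻¹ := by rw [h5, one_mul]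

theorem PS2.of_ps (hZ : center K = ⊥) {v : K} (h : PS 2 (MulAut.conj v)) : PS2 v := by
  intro g
  have h1 := h ![1, g]
  have h2 : (_root_.Subgroup.closure ({v, g * v * g⁻¹} : Set K)).map (MulAut.conj : K →* MulAut K) =
      _root_.Subgroup.closure (Set.range fun i => MulAut.conj ((![1, g] : Fin 2 → K) i) * MulAut.conj v *
        (MulAut.conj ((![1, g] : Fin 2 → K) i))⁻¹) := by
    rw [MonoidHom.map_closure, Set.image_pair]
    congr 1
    ext w
    simp only [Set.mem_range, Fin.exists_fin_two, eq_comm, _root_.map_mul, _root_.map_inv, _root_.Set.mem_insert_iff, _root_.Set.mem_singleton_iff, _root_.Nat.succ_eq_add_one, _root_.Nat.reduceAdd, _root_.Fin.isValue, _root_.Matrix.cons_val_zero, _root_.map_one, _root_.one_mul, _root_.inv_one, _root_.mul_one, _root_.Matrix.cons_val_one, _root_.Matrix.cons_val_fin_one]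
  rw [← h2] at h1
  exact Group.isSolvable_of_isSolvable_injective
    (f := ((_root_.Subgroup.closure ({v, g * v * g⁻¹} : Set K)).equivMapOfInjective _ (conj_injective hZ)).toMonoidHom)
    (MulEquiv.injective _)

theorem PS2.inv {v : K} (h : PS2 v) : PS2 v⁻¹ := by
  intro g
  refine isSolvable_of_le ?_ (h g)
  rw [closure_le]
  rintro w (rfl | rfl)
  · exact inv_mem (_root_.Subgroup.subset_closure (by simp))
  · have e : g * v⁻¹ * g⁻¹ = (g * v * g⁻¹)⁻¹ := by group
    rw [e]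
    exact inv_mem (_root_.Subgroup.subset_closure (by simp))

theorem PS2.conj {v : K} (h : PS2 v) (k : K) : PS2 (k * v * k⁻¹) := by
  intro g
  have h1 := h (k⁻¹ * g * k)
  have h2 : (_root_.Subgroup.closure ({v, k⁻¹ * g * k * v * (k⁻¹ * g * k)⁻¹} : Set K)).map (MulAut.conj k).toMonoidHom =
      _root_.Subgroup.closure ({k * v * k⁻¹, g * (k * v * k⁻¹) * g⁻¹} : Set K) := by
    rw [MonoidHom.map_closure, Set.image_pair]
    congr 2
    simp only [MulEquiv.coe_toMonoidHom, MulAut.conj_apply]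
    group
  rw [← h2]
  exact isSolvable_map h1 _

variable [Finite K]

/-- **no solvable subgroups** -/
theorem LRG.no_sol {u : K} {Q : Subgroup K} (L : LRG u Q) {H : Subgroup K} (hs : Group.IsSolvable H) {h₀ d₁ d₂ : K}
    (hu : u ∈ H) (hh : h₀ ∈ H) (h1 : d₁ ∈ H) (h2 : d₂ ∈ H) (hQ1 : d₁ ∈ Q) (hQ2 : d₂ ∈ Q)
    (hb : Br u (h₀ * u * h₀⁻¹))
    (hi1 : (u * (h₀ * u * h₀⁻¹)) ^ 3 * d₁ * ((u * (h₀ * u * h₀⁻¹)) ^ 3)⁻¹ = d₁⁻¹)
    (hi2 : (u * (h₀ * u * h₀⁻¹)) ^ 3 * d₂ * ((u * (h₀ * u * h₀⁻¹)) ^ 3)⁻¹ = d₂⁻¹) (hne : d₁ * d₂ ≠ d₂ * d₁) :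
    False := by
  have S := L.st (MonoidHom.id K) Function.injective_id H.subtype H.subtype_injective (y := ⟨u, hu⟩) rfl
    (fun h => ⟨h, rfl⟩)
  have hn : (pCore 3 H).Normal := Lib.Cores.pCore_normal 3
  have hu3 : (⟨u, hu⟩ : H) ∉ pCore 3 H := by
    intro hu3
    have h1 := no_inv (y := (⟨u, hu⟩ : H)) (b := ⟨h₀ * u * h₀⁻¹, mul_mem (mul_mem hh hu) (inv_mem hh)⟩) hu3
      (Subtype.ext (by push_cast; rw [conj_pow, L.cube, mul_one, mul_inv_cancel])) (Subtype.ext hb.1)
    exact hb.2.1 (congrArg Subtype.val h1)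
  have S' := S.quot (N := pCore 3 H) (Lib.Cores.pCore_isPGroup 3)
  have hsq : Group.IsSolvable (H ⧸ pCore 3 H) :=
    Group.isSolvable_of_surjective (QuotientGroup.mk'_surjective (pCore 3 H))
  obtain ⟨ζ, hζ1, hζ2, -, -, -, hζ⟩ := S'.exists_zeta hsq (Lib.Cores.pCore_quotient_pCore 3)
    (fun h => hu3 ((QuotientGroup.eq_one_iff _).1 h))
  have hzh : (u * (h₀ * u * h₀⁻¹)) ^ 3 ∈ H := pow_mem (mul_mem hu (mul_mem (mul_mem hh hu) (inv_mem hh))) 3
  -- the images of the central involutions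
  have hP : ∀ (h : K) (hh : h ∈ H), Br u (h * u * h⁻¹) → QuotientGroup.mk' (pCore 3 H) (zz ⟨u, hu⟩ ⟨h, hh⟩) = ζ := by
    intro h hh hb
    have h3 := hζ (QuotientGroup.mk' (pCore 3 H) ⟨h, hh⟩) ⟨⟨h, hh⟩, rfl, h, rfl, hb⟩
    rw [← h3]
    unfold zz
    simp only [map_mul, map_pow, map_inv]
  have key : ∀ (d : K) (hdH : d ∈ H), d ∈ Q →
      (u * (h₀ * u * h₀⁻¹)) ^ 3 * d * ((u * (h₀ * u * h₀⁻¹)) ^ 3)⁻¹ = d⁻¹ → (⟨d, hdH⟩ : H) ∈ pCore 3 H := by
    intro d hdH hdQ hdi
    have hdu : d * u * d⁻¹ = u := by rw [L.cen' d hdQ]; group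
    have e1 : (d * h₀) * u * (d * h₀)⁻¹ = d * (h₀ * u * h₀⁻¹) * d⁻¹ := by group
    have e2 : (u * ((d * h₀) * u * (d * h₀)⁻¹)) ^ 3 = d * (u * (h₀ * u * h₀⁻¹)) ^ 3 * d⁻¹ := by
      rw [← conj_pow, e1]
      congr 1
      calc u * (d * (h₀ * u * h₀⁻¹) * d⁻¹) = (d * u * d⁻¹) * (d * (h₀ * u * h₀⁻¹) * d⁻¹) := by rw [hdu]
        _ = _ := by group
    obtain ⟨z, hz⟩ : ∃ z, z = (u * (h₀ * u * h₀⁻¹)) ^ 3 := ⟨_, rfl⟩
    have hb' : Br u ((d * h₀) * u * (d * h₀)⁻¹) := by
      unfold Br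
      rw [e2]
      obtain ⟨hb1, hb2, hb3⟩ := hb
      rw [← hz] at hb1 hb2 hb3 ⊢
      refine ⟨?_, ?_, ?_⟩
      · calc d * z * d⁻¹ * (d * z * d⁻¹) = d * (z * z) * d⁻¹ := by group
          _ = 1 := by rw [hb1]; group
      · intro h3
        apply hb2
        calc z = d⁻¹ * (d * z * d⁻¹) * d := by group
          _ = 1 := by rw [h3]; group
      · calc d * z * d⁻¹ * u = d * z * d⁻¹ * (d * u * d⁻¹) := by rw [hdu]
          _ = d * (z * u) * d⁻¹ := by group
          _ = d * (u * z) * d⁻¹ := by rw [hb3]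
          _ = (d * u * d⁻¹) * (d * z * d⁻¹) := by group
          _ = u * (d * z * d⁻¹) := by rw [hdu]
    have h3 := hP h₀ hh hb
    have h4 := hP (d * h₀) (mul_mem hdH hh) hb'
    have e3 : (zz ⟨u, hu⟩ ⟨h₀, hh⟩ : H) = ⟨z, by rw [hz]; exact hzh⟩ := Subtype.ext hz.symm
    have e4 : (zz ⟨u, hu⟩ ⟨d * h₀, mul_mem hdH hh⟩ : H) = ⟨d, hdH⟩ * ⟨z, by rw [hz]; exact hzh⟩ * ⟨d, hdH⟩⁻¹ := by
      apply Subtype.ext
      refine Eq.trans ?_ (e2.trans ?_)
      · rfl
      · change d * (u * (h₀ * u * h₀⁻¹)) ^ 3 * d⁻¹ = d * z * d⁻¹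
        rw [hz]
    rw [e3] at h3
    rw [e4, map_mul, map_mul, map_inv, h3] at h4
    have h5 : ζ * QuotientGroup.mk' (pCore 3 H) ⟨d, hdH⟩ * ζ⁻¹ = (QuotientGroup.mk' (pCore 3 H) ⟨d, hdH⟩)⁻¹ := by
      rw [← h3, ← map_inv, ← map_inv, ← map_mul, ← map_mul]
      congr 1
      apply Subtype.ext
      change z * d * z⁻¹ = d⁻¹
      rw [hz]
      exact hdi
    obtain ⟨c, hc⟩ : ∃ c, c = QuotientGroup.mk' (pCore 3 H) (⟨d, hdH⟩ : H) := ⟨_, rfl⟩
    rw [← hc] at h4 h5
    have h6 : c * ζ = ζ * c := by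
      calc c * ζ = (c * ζ * c⁻¹) * c := by group
        _ = ζ * c := by rw [h4]
    have h7 : c = c⁻¹ := by
      rw [← h5, ← h6]
      group
    obtain ⟨k, hk⟩ := exists_pow L.pgrp hdQ
    have h8 : c ^ 3 ^ k = 1 := by
      rw [hc, ← map_pow]
      have : (⟨d, hdH⟩ : H) ^ 3 ^ k = 1 := Subtype.ext hk
      rw [this, map_one]
    have h9 : c = 1 := eq_one_of_sq Nat.prime_three (by norm_num) h8 (by
      nth_rw 1 [h7]
      exact inv_mul_cancel c)
    rw [hc] at h9
    exact (QuotientGroup.eq_one_iff _).1 h9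
  have m1 := key d₁ h1 hQ1 hi1
  have m2 := key d₂ h2 hQ2 hi2
  have m3 : (⟨⁅d₁, d₂⁆, by rw [commutatorElement_def]; exact mul_mem (mul_mem (mul_mem h1 h2) (inv_mem h1)) (inv_mem h2)⟩ : H) ∈
      pCore 3 H := by
    have := mul_mem (mul_mem (mul_mem m1 m2) (inv_mem m1)) (inv_mem m2)
    exact this
  have m4 : (⁅d₁, d₂⁆ : K) ∈ (pCore 3 H).map H.subtype := ⟨_, m3, rfl⟩
  have m5 : (⁅d₁, d₂⁆ : K) ≠ 1 := by
    intro h
    exact hne (commutatorElement_eq_one_iff_mul_comm.1 h)
  obtain ⟨w, hw, hwu⟩ := mem_of_zpowers L.cube (L.comm d₁ hQ1 d₂ hQ2) m5 m4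
  apply hu3
  have : w = ⟨u, hu⟩ := Subtype.ext hwu
  rwa [← this]

end Gen

section Six

variable {K : Type} [Group K] [Finite K]

/-- **order six** -/
theorem LRG.not_six (hZ : center K = ⊥) {u : K} {Q : Subgroup K} (L : LRG u Q) {x : MulAut K}
    (hx : x ^ 2 = MulAut.conj u) (hx6 : orderOf x = 6) (hP : PS 2 x) (hIH : IH (Nat.card K)) : False := by
  have hinj := conj_injective hZ
  have hu3 := L.cube
  have hPu : PS2 u := PS2.of_ps hZ (by rw [← hx]; exact PS.pow hP 2)
  have hx6' : x ^ 6 = 1 := by rw [← hx6]; exact pow_orderOf_eq_one x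
  obtain ⟨t, ht⟩ : ∃ t, t = x ^ 3 := ⟨_, rfl⟩
  have htt : t * t = 1 := by rw [ht, ← pow_add, hx6']
  have ht1 : t ≠ 1 := by
    intro h
    have h1 := orderOf_dvd_of_pow_eq_one (ht ▸ h : x ^ 3 = 1)
    rw [hx6] at h1
    exact absurd (Nat.le_of_dvd (by norm_num) h1) (by norm_num)
  have hxt : x = t * MulAut.conj u⁻¹ := by rw [map_inv, ← hx, ht]; group
  have htu : t u = u := by
    apply hinj
    rw [← aut_conj, ← hx, ht]
    group
  have htt' : ∀ k, t (t k) = k := fun k => by rw [← MulAut.mul_apply, htt, MulAut.one_apply]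
  -- a fixed braid partner
  obtain ⟨b, ⟨g₀, hg₀⟩, hub, htb⟩ : ∃ b : K, (∃ g : K, b = g * u * g⁻¹) ∧ Br u b ∧ t b = b := by
    have hB : ∀ b : K, ((∃ g : K, b = g * u * g⁻¹) ∧ Br u b) → ((∃ g : K, t b = g * u * g⁻¹) ∧ Br u (t b)) := by
      rintro b ⟨⟨g, hg⟩, h1, h2, h3⟩
      have e : (u * t b) ^ 3 = t ((u * b) ^ 3) := by rw [map_pow, map_mul, htu]
      refine ⟨⟨t g, by rw [hg, map_mul, map_mul, map_inv, htu]⟩, ?_, ?_, ?_⟩
      · rw [e, ← map_mul, h1, map_one]
      · rw [e]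
        intro h4
        exact h2 (t.injective (h4.trans (map_one t).symm))
      · rw [e]
        nth_rw 2 [← htu]
        rw [← map_mul, h3, map_mul, htu]
    let σ : Equiv.Perm {b : K // (∃ g : K, b = g * u * g⁻¹) ∧ Br u b} :=
      { toFun := fun b => ⟨t b, hB b b.2⟩
        invFun := fun b => ⟨t b, hB b b.2⟩
        left_inv := fun b => Subtype.ext (htt' b)
        right_inv := fun b => Subtype.ext (htt' b) }
    obtain ⟨b, hb⟩ := exists_fixed L.odd σ (by
      ext b
      exact htt' b)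
    exact ⟨b, b.2.1, b.2.2, congrArg Subtype.val hb⟩
  have hb3 : b ^ 3 = 1 := by rw [hg₀, conj_pow, hu3, mul_one, mul_inv_cancel]
  -- `A = ⟨u, b⟩`
  set A : Subgroup K := _root_.Subgroup.closure {u, b} with hA
  have huA : u ∈ A := _root_.Subgroup.subset_closure (by simp)
  have hbA : b ∈ A := _root_.Subgroup.subset_closure (by simp)
  have hAs : Group.IsSolvable A := by
    have := hPu g₀
    rwa [← hg₀] at this
  have htA : ∀ a ∈ A, t a = a := by
    have h1 : A ≤ MonoidHom.eqLocus t.toMonoidHom (MonoidHom.id K) := by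
      rw [hA, closure_le]
      rintro _ (rfl | rfl)
      · exact htu
      · exact htb
    exact fun a ha => h1 ha
  obtain ⟨g, hgA, hgb⟩ := L.br_in hAs huA hbA hb3 hub
  -- `t` is not trivial on `Q / ⟨u⟩`
  obtain ⟨q, hqQ, hq⟩ : ∃ q ∈ Q, q⁻¹ * t q ∉ zpowers u := by
    by_contra hcon
    push Not at hcon
    apply ht1
    have h1 : ∀ q ∈ Q, t q = q := by
      intro q hq
      obtain ⟨k, hk⟩ : ∃ k, k = q⁻¹ * t q := ⟨_, rfl⟩
      have hk' := hcon q hq
      rw [← hk] at hk'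
      have htk : t k = k := by
        obtain ⟨i, hi⟩ := mem_zpowers_iff.1 hk'
        rw [← hi, map_zpow, htu]
      have h2 : t q = q * k := by rw [hk]; group
      have h3 : q = q * k * k := by
        calc q = t (t q) := (htt' q).symm
          _ = q * k * k := by rw [h2, map_mul, h2, htk]
      have h4 : k * k = 1 := by
        rw [mul_assoc] at h3
        exact (mul_eq_left.1 h3.symm)
      rw [h2, eq_one_of_zpowers hu3 hk' h4, mul_one]
    have h2 := L.gen g hgb
    have h3 : (⊤ : Subgroup K) ≤ MonoidHom.eqLocus t.toMonoidHom (MonoidHom.id K) := by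
      rw [← h2, closure_le]
      rintro w (hw | ⟨q, hq, rfl⟩)
      · exact h1 w hw
      · change t (g * q * g⁻¹) = g * q * g⁻¹
        rw [map_mul, map_mul, map_inv, htA g hgA, h1 q hq]
    ext k
    exact h3 (mem_top k)
  obtain ⟨d₁, hd₁⟩ : ∃ d, d = q⁻¹ * t q := ⟨_, rfl⟩
  rw [← hd₁] at hq
  have hd₁Q : d₁ ∈ Q := by rw [hd₁]; exact mul_mem (inv_mem hqQ) (L.stab t htu q hqQ)
  have htd₁ : t d₁ = d₁⁻¹ := by rw [hd₁, map_mul, map_inv, htt']; group
  obtain ⟨q', hq'Q, hq'⟩ : ∃ q' ∈ Q, d₁ * q' ≠ q' * d₁ := by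
    by_contra hcon
    push Not at hcon
    exact hq (L.cen d₁ hd₁Q hcon)
  obtain ⟨d₂, hd₂⟩ : ∃ d, d = q'⁻¹ * t q' := ⟨_, rfl⟩
  have hd₂Q : d₂ ∈ Q := by rw [hd₂]; exact mul_mem (inv_mem hq'Q) (L.stab t htu q' hq'Q)
  have htd₂ : t d₂ = d₂⁻¹ := by rw [hd₂, map_mul, map_inv, htt']; group
  have hne : d₁ * d₂ ≠ d₂ * d₁ := by
    intro hc
    obtain ⟨k, hk⟩ : ∃ k, k = ⁅d₁, q'⁆ := ⟨_, rfl⟩
    have hkz : k ∈ zpowers u := by rw [hk]; exact L.comm d₁ hd₁Q q' hq'Q
    have hk1 : k ≠ 1 := by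
      rw [hk]
      intro h
      exact hq' (commutatorElement_eq_one_iff_mul_comm.1 h)
    have htk : t k = k := by
      obtain ⟨i, hi⟩ := mem_zpowers_iff.1 hkz
      rw [← hi, map_zpow, htu]
    have hkQ : ∀ q ∈ Q, k * q = q * k := by
      intro q hq
      obtain ⟨i, hi⟩ := mem_zpowers_iff.1 hkz
      rw [← hi]
      exact ((show Commute q u from L.cen' q hq).zpow_right i).symm.eq
    have h1 : d₁ * q' = k * (q' * d₁) := by rw [hk, commutatorElement_def]; group
    have h2 : d₁⁻¹ * t q' = k * (t q' * d₁⁻¹) := by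
      have := congrArg t h1
      rwa [map_mul, map_mul, map_mul, htk, htd₁] at this
    have h3 : t q' = q' * d₂ := by rw [hd₂]; group
    have htqQ : t q' ∈ Q := L.stab t htu q' hq'Q
    have h4 : t q' * d₁ = k * (d₁ * t q') := by
      calc t q' * d₁ = d₁ * (d₁⁻¹ * t q') * d₁ := by group
        _ = d₁ * (k * (t q' * d₁⁻¹)) * d₁ := by rw [h2]
        _ = (d₁ * k) * t q' := by group
        _ = k * (d₁ * t q') := by rw [← hkQ d₁ hd₁Q]; group
    rw [h3] at h4
    have h5 : q' * d₂ * d₁ = k * k * (q' * d₂ * d₁) := by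
      calc q' * d₂ * d₁ = k * (d₁ * (q' * d₂)) := h4
        _ = k * ((d₁ * q') * d₂) := by group
        _ = k * (k * (q' * d₁) * d₂) := by rw [h1]
        _ = k * k * (q' * (d₁ * d₂)) := by group
        _ = k * k * (q' * (d₂ * d₁)) := by rw [hc]
        _ = k * k * (q' * d₂ * d₁) := by group
    exact hk1 (eq_one_of_zpowers hu3 hkz (mul_eq_right.1 h5.symm))
  -- the central involution of `A`
  obtain ⟨z, hz⟩ : ∃ z, z = (u * b) ^ 3 := ⟨_, rfl⟩
  have hzA : z ∈ A := by rw [hz]; exact pow_mem (mul_mem huA hbA) 3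
  have htz : t z = z := htA z hzA
  obtain ⟨hz1, hz2, hz3⟩ := hub
  rw [← hz] at hz1 hz2 hz3
  have hzi : z⁻¹ = z := inv_eq_of_mul_eq_one_left hz1
  have hzb : z * b = b * z := by
    have h1 : z * (u * b) = (u * b) * z := by rw [hz]; exact (pow_mul_comm' (u * b) 3)
    have h2 : u * (z * b) = u * (b * z) := by
      calc u * (z * b) = (u * z) * b := by group
        _ = (z * u) * b := by rw [hz3]
        _ = z * (u * b) := by group
        _ = u * b * z := h1
        _ = u * (b * z) := by group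
    exact mul_left_cancel h2
  have hbr : Br u (g₀ * u * g₀⁻¹) := by
    rw [← hg₀]
    exact ⟨by rw [← hz]; exact hz1, by rw [← hz]; exact hz2, by rw [← hz]; exact hz3⟩
  have hzg : (u * (g₀ * u * g₀⁻¹)) ^ 3 = z := by rw [← hg₀, hz]
  have hzd₁ : z * d₁ * z⁻¹ = d₁⁻¹ := by
    have := L.inv_exact htu hd₁Q htd₁ hbr (by rw [hzg]; exact htz)
    rwa [hzg] at this
  have hzd₂ : z * d₂ * z⁻¹ = d₂⁻¹ := by
    have := L.inv_exact htu hd₂Q htd₂ hbr (by rw [hzg]; exact htz)
    rwa [hzg] at this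
  obtain ⟨τ, hτ⟩ : ∃ τ, τ = t * MulAut.conj z := ⟨_, rfl⟩
  have htτ : t = τ * MulAut.conj z := by
    rw [hτ, mul_assoc, ← map_mul, hz1, map_one, mul_one]
  by_cases hτ1 : τ = 1
  · -- the base case
    apply L.base g₀ hbr
    rw [hzg]
    have h1 : x = MulAut.conj (z * u⁻¹) := by rw [hxt, htτ, hτ1, one_mul, ← map_mul]
    have h2 := (PS2.of_ps hZ (by rw [← h1]; exact hP)).inv
    have h4 : (z * u⁻¹)⁻¹ = u * z := by rw [mul_inv_rev, inv_inv, hzi]
    rwa [h4] at h2
  -- the fixed points of `τ`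
  obtain ⟨M, hM⟩ : ∃ M : Subgroup K, ∀ k, k ∈ M ↔ τ k = k :=
    ⟨MonoidHom.eqLocus τ.toMonoidHom (MonoidHom.id K), fun k => Iff.rfl⟩
  have hMt : M ≠ ⊤ := by
    intro h
    apply hτ1
    ext k
    exact (hM k).1 (by rw [h]; exact mem_top k)
  have hτa : ∀ k, τ k = t (z * k * z⁻¹) := by intro k; rw [hτ]; rfl
  have hAM : A ≤ M := by
    rw [hA, closure_le]
    rintro w (rfl | rfl)
    · exact (hM _).2 (by rw [hτa, hz3, mul_inv_cancel_right, htu])
    · exact (hM _).2 (by rw [hτa, hzb, mul_inv_cancel_right, htb])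
  have huM := hAM huA
  have hbM := hAM hbA
  have hzM := hAM hzA
  have hd₁M : d₁ ∈ M := (hM _).2 (by rw [hτa, hzd₁, map_inv, htd₁, inv_inv])
  have hd₂M : d₂ ∈ M := (hM _).2 (by rw [hτa, hzd₂, map_inv, htd₂, inv_inv])
  have hvM : z * u⁻¹ ∈ M := mul_mem hzM (inv_mem huM)
  have hxm : ∀ m ∈ M, x m = z * u⁻¹ * m * (z * u⁻¹)⁻¹ := by
    intro m hm
    have h1 : z * u⁻¹ * m * (z * u⁻¹)⁻¹ ∈ M := mul_mem (mul_mem hvM hm) (inv_mem hvM)
    rw [← (hM _).1 h1, hxt, htτ]
    change τ (z * (u⁻¹ * m * u⁻¹⁻¹) * z⁻¹) = _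
    congr 1
    group
  have hxM : ∀ m ∈ M, x m ∈ M := by
    intro m hm
    rw [hxm m hm]
    exact mul_mem (mul_mem hvM hm) (inv_mem hvM)
  -- the radical of `M`
  have hinv : ∀ h ∈ A, Br u (h * u * h⁻¹) → ∀ d ∈ Q, t d = d⁻¹ →
      (u * (h * u * h⁻¹)) ^ 3 * d * ((u * (h * u * h⁻¹)) ^ 3)⁻¹ = d⁻¹ := fun h hh hb d hd htd =>
    L.inv_exact htu hd htd hb (htA _ (pow_mem (mul_mem huA (mul_mem (mul_mem hh huA) (inv_mem hh))) 3))
  have hdR : ∀ z' ∈ radIn M, ∀ d ∈ M, d ∈ Q → z' * d * z'⁻¹ = d⁻¹ → d ∈ radIn M := by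
    intro z' hz' d hdM hdQ h
    obtain ⟨k, hk⟩ := exists_pow L.pgrp hdQ
    refine mem_of_sq hk ?_
    have h1 : z' * (d * z'⁻¹ * d⁻¹) ∈ radIn M := mul_mem hz' (radIn_conj_mem hdM (inv_mem hz'))
    have e : z' * (d * z'⁻¹ * d⁻¹) = (d * d)⁻¹ := by
      calc z' * (d * z'⁻¹ * d⁻¹) = (z' * d * z'⁻¹) * d⁻¹ := by group
        _ = (d * d)⁻¹ := by rw [h]; group
    rw [e] at h1
    exact inv_mem_iff.1 h1
  have c1 : u ∉ radIn M := by
    intro huR
    have hbR : g * u * g⁻¹ ∈ radIn M := radIn_conj_mem (hAM hgA) huR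
    have hzR := pow_mem (mul_mem huR hbR) 3
    have h1 := hdR _ hzR d₁ hd₁M hd₁Q (hinv g hgA hgb d₁ hd₁Q htd₁)
    have h2 := hdR _ hzR d₂ hd₂M hd₂Q (hinv g hgA hgb d₂ hd₂Q htd₂)
    obtain ⟨h₀, hh₀, hb₀⟩ := L.br_in (A := _root_.Subgroup.closure {u, g * u * g⁻¹}) (hPu g) (_root_.Subgroup.subset_closure (by simp))
      (_root_.Subgroup.subset_closure (by simp)) (by rw [conj_pow, hu3, mul_one, mul_inv_cancel]) hgb
    have hbA' : g * u * g⁻¹ ∈ A := mul_mem (mul_mem hgA huA) (inv_mem hgA)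
    have hA₂ : _root_.Subgroup.closure {u, g * u * g⁻¹} ≤ A ⊓ radIn M := by
      rw [closure_le]
      rintro w (rfl | rfl)
      · exact ⟨huA, huR⟩
      · exact ⟨hbA', hbR⟩
    obtain ⟨hh₀A, hh₀R⟩ := hA₂ hh₀
    exact L.no_sol (radIn_solvable M) huR hh₀R h1 h2 hd₁Q hd₂Q hb₀ (hinv h₀ hh₀A hb₀ d₁ hd₁Q htd₁)
      (hinv h₀ hh₀A hb₀ d₂ hd₂Q htd₂) hne
  have c2 : z ∉ radIn M := by
    intro hzR
    have h1 := hdR z hzR d₁ hd₁M hd₁Q hzd₁
    have h2 := hdR z hzR d₂ hd₂M hd₂Q hzd₂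
    have h3 : ⁅d₁, d₂⁆ ∈ radIn M := by
      rw [commutatorElement_def]
      exact mul_mem (mul_mem (mul_mem h1 h2) (inv_mem h1)) (inv_mem h2)
    exact c1 (mem_of_zpowers hu3 (L.comm d₁ hd₁Q d₂ hd₂Q)
      (fun h => hne (commutatorElement_eq_one_iff_mul_comm.1 h)) h3)
  -- components of `M / Rad M`
  have hRn := rad_normal M
  have hrad : solvableRadical (M ⧸ solvableRadical M) = ⊥ := rad_quotient
  obtain ⟨π, hπ⟩ : ∃ π, π = QuotientGroup.mk' (solvableRadical M) := ⟨_, rfl⟩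
  have hπs : Function.Surjective π := by rw [hπ]; exact QuotientGroup.mk'_surjective _
  obtain ⟨u', hu'⟩ : ∃ u' : M, (u' : K) = u := ⟨⟨u, huM⟩, rfl⟩
  obtain ⟨b', hb'⟩ : ∃ b' : M, (b' : K) = b := ⟨⟨b, hbM⟩, rfl⟩
  obtain ⟨z', hz'⟩ : ∃ z' : M, (z' : K) = z := ⟨⟨z, hzM⟩, rfl⟩
  have hz'e : z' = (u' * b') ^ 3 := Subtype.ext (by push_cast; rw [hz', hu', hb', hz])
  have hz'1 : π z' ≠ 1 := by
    intro h
    apply c2
    rw [← hz']
    rw [hπ] at h
    exact mem_radIn_coe.2 ((QuotientGroup.eq_one_iff z').1 h)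
  obtain ⟨C, hC, l, hl, hlne⟩ := H459.Reduce.exists_component hrad hz'1
  have hCs : IsSimpleGroup C := H459.Reduce.component_simple hrad hC
  have hf3 : Fact (Nat.Prime 3) := ⟨Nat.prime_three⟩
  have hu'3 : u' ^ 3 = 1 := Subtype.ext (by push_cast; rw [hu', hu3])
  have hb'3 : b' ^ 3 = 1 := Subtype.ext (by push_cast; rw [hb', hb3])
  have hNu : π u' ∈ normalizer (C : Set (M ⧸ solvableRadical M)) := by
    by_contra h
    have h1 : H459.Reduce.Q 2 (u' : K) := H459.Reduce.Q_two (by rw [hu']; exact hPu)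
    exact H459.Reduce.moved (p := 3) le_rfl (Or.inl le_rfl) hrad (by rw [← map_pow, hu'3, map_one]) hC h
      ((H459.Reduce.Q.subtype h1).map hπs)
  have hNb : π b' ∈ normalizer (C : Set (M ⧸ solvableRadical M)) := by
    by_contra h
    have h1 : H459.Reduce.Q 2 (b' : K) := H459.Reduce.Q_two (by rw [hb', hg₀]; exact hPu.conj g₀)
    exact H459.Reduce.moved (p := 3) le_rfl (Or.inl le_rfl) hrad (by rw [← map_pow, hb'3, map_one]) hC h
      ((H459.Reduce.Q.subtype h1).map hπs)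
  have hNz : π z' ∈ normalizer (C : Set (M ⧸ solvableRadical M)) := by
    rw [hz'e, map_pow, map_mul]
    exact pow_mem (mul_mem hNu hNb) 3
  obtain ⟨ρ, hρ⟩ : ∃ ρ, ρ = C.normalizerMonoidHom := ⟨_, rfl⟩
  have hρa : ∀ (n : normalizer (C : Set (M ⧸ solvableRadical M))) (c : C),
      ((ρ n c : C) : M ⧸ solvableRadical M) = n * c * (n : M ⧸ solvableRadical M)⁻¹ := by
    intro n c
    rw [hρ]
    rfl
  obtain ⟨ρz, hρz⟩ : ∃ y, y = ρ ⟨π z', hNz⟩ := ⟨_, rfl⟩
  obtain ⟨ρu, hρu⟩ : ∃ y, y = ρ ⟨π u', hNu⟩ := ⟨_, rfl⟩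
  obtain ⟨ρb, hρb⟩ : ∃ y, y = ρ ⟨π b', hNb⟩ := ⟨_, rfl⟩
  have hρe : ρz = (ρu * ρb) ^ 3 := by
    rw [hρz, hρu, hρb, ← map_mul, ← map_pow]
    congr 1
    apply Subtype.ext
    push_cast
    rw [hz'e, map_pow, map_mul]
  have hρb3 : ρb ^ 3 = 1 := by
    rw [hρb, ← map_pow]
    have : (⟨π b', hNb⟩ : normalizer (C : Set (M ⧸ solvableRadical M))) ^ 3 = 1 :=
      Subtype.ext (by push_cast; rw [← map_pow, hb'3, map_one])
    rw [this, map_one]
  have hρu3 : ρu ^ 3 = 1 := by
    rw [hρu, ← map_pow]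
    have : (⟨π u', hNu⟩ : normalizer (C : Set (M ⧸ solvableRadical M))) ^ 3 = 1 :=
      Subtype.ext (by push_cast; rw [← map_pow, hu'3, map_one])
    rw [this, map_one]
  have hρz2 : ρz ^ 2 = 1 := by
    rw [hρz, ← map_pow]
    have h0 : z' ^ 2 = 1 := Subtype.ext (by push_cast; rw [hz', pow_two, hz1])
    have : (⟨π z', hNz⟩ : normalizer (C : Set (M ⧸ solvableRadical M))) ^ 2 = 1 :=
      Subtype.ext (by push_cast; rw [← map_pow, h0, map_one])
    rw [this, map_one]
  have hρz1 : ρz ≠ 1 := by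
    intro h
    apply hlne
    have h1 : ((ρz ⟨l, hl⟩ : C) : M ⧸ solvableRadical M) = l := by rw [h]; rfl
    rw [hρz, hρa] at h1
    have h2 : π z' * l * (π z')⁻¹ = l := h1
    calc π z' * l = (π z' * l * (π z')⁻¹) * π z' := by group
      _ = l * π z' := by rw [h2]
  have hρu1 : ρu ≠ 1 := by
    intro h
    apply hρz1
    rw [hρe, h, one_mul, hρb3]
  have hcomm : Commute ρz ρu⁻¹ := by
    refine Commute.inv_right ?_
    change ρz * ρu = ρu * ρz
    rw [hρz, hρu, ← map_mul, ← map_mul]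
    congr 1
    apply Subtype.ext
    push_cast
    rw [← map_mul, ← map_mul]
    congr 1
    apply Subtype.ext
    push_cast
    rw [hz', hu', hz3]
  have hf2 : Fact (Nat.Prime 2) := ⟨Nat.prime_two⟩
  have ho1 : orderOf ρz = 2 := orderOf_eq_prime hρz2 hρz1
  have ho2 : orderOf ρu⁻¹ = 3 := by rw [orderOf_inv]; exact orderOf_eq_prime hρu3 hρu1
  have ho : orderOf (ρz * ρu⁻¹) = 6 := by
    rw [hcomm.orderOf_mul_eq_mul_orderOf_of_coprime (by rw [ho1, ho2]; norm_num), ho1, ho2]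
  have hP1 : PS 2 (MulAut.conj (π (z' * u'⁻¹))) := by
    refine PS.sec hP hxM π hπs _ ?_
    intro m
    rw [MulAut.conj_apply, ← map_mul, ← map_inv, ← map_mul]
    congr 1
    apply Subtype.ext
    push_cast
    rw [hxm m m.2, hz', hu']
  have hNv : π (z' * u'⁻¹) ∈ normalizer (C : Set (M ⧸ solvableRadical M)) := by
    rw [map_mul, map_inv]
    exact mul_mem hNz (inv_mem hNu)
  have hP2 : PS 2 (ρz * ρu⁻¹) := by
    refine PS.sec hP1 (M := C) (fun c hc => (Subgroup.mem_normalizer_iff.1 hNv c).1 hc) (MonoidHom.id C)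
      Function.surjective_id _ ?_
    intro c
    have h1 : ρz * ρu⁻¹ = ρ ⟨π (z' * u'⁻¹), hNv⟩ := by
      rw [hρz, hρu, ← map_inv, ← map_mul]
      congr 1
      apply Subtype.ext
      push_cast
      rw [map_mul, map_inv]
    rw [h1]
    apply Subtype.ext
    rw [hρa]
    rfl
  have hcard : Nat.card C < Nat.card K := by
    have h1 : Nat.card C ≤ Nat.card (M ⧸ solvableRadical M) := Subgroup.card_le_card_group C
    have h2 : Nat.card (M ⧸ solvableRadical M) ≤ Nat.card M := Nat.card_le_card_of_surjective π hπs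
    have h3 : Nat.card M < Nat.card K :=
      lt_of_le_of_ne (Subgroup.card_le_card_group M) fun h => hMt (Subgroup.eq_top_of_card_eq M h)
    omega
  exact hIH C (quasisimple_not_isMulCommutative hC.2) hcard _ (Or.inl ho) hP2

end Six

end Cfsg.Agent.H880.Six
end

-- part: H870/SNX/Lrg
section
/-!
# S3831, T7b: long root elements over `F₃` (helper870)

`L : Long R r (X r)` : `r` is a dominant root and `B` normalises `X r` (`long_of_LR` : it follows if `X x` centralises
`X r` whenever `⟨x, r^∨⟩ ≥ 0`).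
The fields `cube`, `ne`, `mem`, `pgrp`, `stab`, `cen'`, `gen` of `LRG u (VJ (orth r))`.
-/

set_option autoImplicit false
set_option linter.unusedSectionVars false

namespace Cfsg.Agent.H870.SNX

open CoxeterSystem Cfsg.Agent.ChevalleyStructure.CoxeterGeom Cfsg.Agent.Tits.Roots Cfsg.Agent.Tits.Core
  Cfsg.Agent.Tits.RootComb Cfsg.Agent.Tits.Exchange Cfsg.Agent.Nodes.Reps Cfsg.Agent.Nodes.BNOf
  Cfsg.Agent.Nodes.StabComb Cfsg.Agent.Nodes.Bruhat Cfsg.Agent.Nodes.OppDec Cfsg.Agent.Nodes.LeviDec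
  Cfsg.Agent.Nodes.NormX Cfsg.Agent.Nodes.Coroot
open Cfsg Cfsg.Agent.H939.RgdA Cfsg.Agent.H939.RgdP Cfsg.Agent.KFacts.RgdTI
open scoped commutatorElement

variable {I W Y : Type*} [Fintype I] [DecidableEq I] [Group W] [Group Y] {M : CoxeterMatrix I}
  {cs : CoxeterSystem M W} {A : I → I → ℤ} {h : IsCartan M A} {p : ℕ} {T : Subgroup Y} {n : I → Y}
  {X : (I → ℤ) → Subgroup Y}

/-- all root groups of the orbit have the same order -/
theorem card_X (R : RGD cs h p T n X) {r : I → ℤ} {i : I} {w : W} (hw : rep cs h w (sr i) = r) :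
    Nat.card (X r) = Nat.card (X (sr i)) := by
  obtain ⟨k, hk⟩ := exists_rp cs R.nsys w
  rw [← hw, ← R.conj_rp hk (isRoot_sr cs h i)]
  exact (Nat.card_congr ((X (sr i)).equivMapOfInjective _ (MulAut.conj k).injective).toEquiv).symm

/-- `O_p(P_J) ≤ V_J` -/
theorem le_VJ [Finite W] [Finite Y] [Fact p.Prime] (R : RGD cs h p T n X) (hG : GG cs h T X = ⊤) {J : Set I}
    {N : Subgroup Y} (hN : IsPGroup p N) (hn : ∀ g ∈ PJ cs h T X J, cj g N = N) : N ≤ VJ cs h X J := by
  obtain ⟨w, hw⟩ := exists_isLongest cs J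
  obtain ⟨k, hk⟩ := exists_rp cs R.nsys w
  have hU : N ≤ RGD.Sup X (RGD.Pos cs h) := by
    refine Cit.FrameF2.le_U_of_normalized R hN (by rw [hG]; exact le_top) fun u hu => ?_
    exact mem_normalizer_iff_cj.2 (hn u (B_le_PJ (RGD.U_le_B hu)))
  refine le_trans (le_inf hU ?_) (Cit.FrameF2.U_inf_cj_longest R hw hk)
  have hkP : k ∈ PJ cs h T X J := LJ_le_PJ (rp_mem_LJ R hw.1 hk)
  rw [← hn k hkP]
  exact cj_mono k hU

/-- the root group of a dominant root is normalised by `B` -/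
theorem long_of_LR [Finite W] {R : RGD cs h p T n X} {r : I → ℤ} (L : LR R r) (hr : Dom A r) :
    Long R r (X r) := by
  have := Fintype.ofFinite W
  refine long_X R L.root hr (le_trans ?_ L.PS_le_normalizer)
  refine sup_le KFacts.RgdPar.T_le_PS (RGD.Sup_le fun x hx => KFacts.RgdPar.X_le_PS ⟨hx.1, ?_⟩)
  have h1 := form_nonneg_of_dom cs h hr hx.2
  by_contra h2
  have h3 := two_form_cpr cs h x L.root
  have h4 := form_pos cs h L.root.ne_zero
  have h5 := mul_neg_of_neg_of_pos (not_le.1 h2) h4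
  rw [← h3, form_comm cs h] at h5
  linarith

section Lg

variable {R : RGD cs h p T n X} {r : I → ℤ} (L : Long R r (X r))

include L

/-- `V_J` is invariant under the automorphisms normalising `X r` -/
theorem VJ_stab [Finite W] [Finite Y] [Fact p.Prime] (hG : GG cs h T X = ⊤) {t : MulAut Y}
    (ht : (X r).map t.toMonoidHom = X r) {q : Y} (hq : q ∈ VJ cs h X (orth cs h r)) :
    t q ∈ VJ cs h X (orth cs h r) := by
  have hP : Subgroup.normalizer (X r : Set Y) = PJ cs h T X (orth cs h r) := by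
    rw [← L.normalizer_inf_GG, hG, inf_top_eq]
  have hN : IsPGroup p ↥((VJ cs h X (orth cs h r)).map t.toMonoidHom) := (KFacts.RgdCharP.isPGroup_VJ R _).map _
  have key : ∀ g ∈ PJ cs h T X (orth cs h r), t.symm g ∈ PJ cs h T X (orth cs h r) := by
    intro g hg
    rw [← hP, Subgroup.mem_normalizer_iff] at hg ⊢
    have h1 : ∀ x, x ∈ X r ↔ t x ∈ X r := by
      intro x
      constructor
      · intro hx
        rw [← ht]
        exact ⟨x, hx, rfl⟩
      · intro hx
        rw [← ht] at hx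
        obtain ⟨y, hy, he⟩ := hx
        rwa [← t.injective he]
    intro x
    rw [h1, h1 (_ * x * _), map_mul, map_mul, map_inv, MulEquiv.apply_symm_apply]
    exact hg (t x)
  have hle : (VJ cs h X (orth cs h r)).map t.toMonoidHom ≤ VJ cs h X (orth cs h r) := by
    refine le_VJ R hG hN fun g hg => ?_
    have h2 : cj (t.symm g) (VJ cs h X (orth cs h r)) = VJ cs h X (orth cs h r) :=
      mem_normalizer_iff_cj.1 (PJ_le_normalizer_VJ R _ (key g hg))
    conv_rhs => rw [← h2]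
    ext x
    rw [mem_cj]
    constructor
    · rintro ⟨y, hy, he⟩
      refine ⟨t.symm g * y * (t.symm g)⁻¹, conj_mem_cj.2 hy, ?_⟩
      have he' : t y = g⁻¹ * x * g := he
      show t (t.symm g * y * (t.symm g)⁻¹) = x
      rw [map_mul, map_mul, map_inv, MulEquiv.apply_symm_apply, he']
      group
    · rintro ⟨y, hy, rfl⟩
      refine ⟨(t.symm g)⁻¹ * y * t.symm g, mem_cj.1 hy, ?_⟩
      show t ((t.symm g)⁻¹ * y * t.symm g) = g⁻¹ * t y * g
      rw [map_mul, map_mul, map_inv, MulEquiv.apply_symm_apply]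
  exact hle ⟨q, hq, rfl⟩

/-- opposite `V_J`'s generate -/
theorem VJ_gen [Finite W] [Finite Y] [IsSimpleGroup Y] (hG : GG cs h T X = ⊤) {g : Y}
    (hg : ¬ IsPGroup p ↥(X r ⊔ cj g (X r))) :
    VJ cs h X (orth cs h r) ⊔ cj g (VJ cs h X (orth cs h r)) = ⊤ := by
  obtain ⟨w, hw⟩ := exists_neg (cs := cs) (h := h) L.root
  obtain ⟨s, hs⟩ := exists_rp cs R.nsys w
  have h1 := opp_or_pgroup L hG hs hw 1 g
  rw [cj_one] at h1
  obtain ⟨x, hx, hxs⟩ := h1.resolve_right hg
  replace hx : X r = cj x (X r) := hx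
  replace hxs : cj g (X r) = cj (x * s) (X r) := hxs
  have h2 : cj x (VJ cs h X (orth cs h r)) = VJ cs h X (orth cs h r) := norm_VJ L hG hx.symm
  have h3 : cj ((x * s)⁻¹ * g) (X r) = X r := by
    rw [cj_mul, hxs, ← cj_mul, inv_mul_cancel, cj_one]
  have h4 : cj g (VJ cs h X (orth cs h r)) = cj (x * s) (VJ cs h X (orth cs h r)) := by
    have h5 := norm_VJ L hG h3
    have h6 : g = (x * s) * ((x * s)⁻¹ * g) := by group
    conv_lhs => rw [h6]
    rw [cj_mul, h5]
  have h5 := gen L hG hs hw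
  calc VJ cs h X (orth cs h r) ⊔ cj g (VJ cs h X (orth cs h r))
      = cj x (VJ cs h X (orth cs h r)) ⊔ cj x (cj s (VJ cs h X (orth cs h r))) := by rw [h4, cj_mul, h2]
    _ = cj x (VJ cs h X (orth cs h r) ⊔ cj s (VJ cs h X (orth cs h r))) := (cj_sup _ _ _).symm
    _ = ⊤ := by rw [h5]; exact cj_eq_of_mem (Subgroup.mem_top x)

end Lg

/-! ### the fields of `LRG` -/

section Fields

variable {R : RGD cs h 3 T n X} {r : I → ℤ} (L : Long R r (X r)) (hc : Nat.card (X r) = 3) {u : Y} (hu : u ∈ X r)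
  (hu1 : u ≠ 1)

theorem pgrp (R : RGD cs h 3 T n X) [Finite W] (J : Set I) : IsPGroup 3 ↥(VJ cs h X J) :=
  KFacts.RgdCharP.isPGroup_VJ R _

include hc hu

theorem cube : u ^ 3 = 1 := by
  have h1 : (⟨u, hu⟩ : X r) ^ Nat.card (X r) = 1 := pow_card_eq_one'
  rw [hc] at h1
  exact congrArg Subtype.val h1

include hu1

theorem zpowers_eq : Subgroup.zpowers u = X r := by
  have hfin : Finite (X r) := Nat.finite_of_card_ne_zero (by rw [hc]; norm_num)
  refine Subgroup.eq_of_le_of_card_ge (Subgroup.zpowers_le.2 hu) ?_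
  rw [Nat.card_zpowers, hc, orderOf_eq_prime (cube hc hu) hu1]

include L

omit hc hu1 in
theorem mem [Finite W] : u ∈ VJ cs h X (orth cs h r) := Z_le_VJ L hu

omit hu1 in
theorem cen' [Finite W] [Finite Y] : ∀ q ∈ VJ cs h X (orth cs h r), q * u = u * q := by
  intro q hq
  refine AschCrit.CommFourEnd.commute_of_card_three hc (mem_normalizer_iff_cj.2 (VJ_le_norm L hq)) ?_ hu
  obtain ⟨k, hk⟩ := pgrp R (orth cs h r) ⟨q, hq⟩
  have h1 : q ^ 3 ^ k = 1 := congrArg Subtype.val hk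
  exact Odd.of_dvd_nat (Odd.pow (by decide)) (orderOf_dvd_of_pow_eq_one h1)

theorem stab [Finite W] [Finite Y] (hG : GG cs h T X = ⊤) : ∀ t : MulAut Y, t u = u →
    ∀ q ∈ VJ cs h X (orth cs h r), t q ∈ VJ cs h X (orth cs h r) := by
  have : Fact (Nat.Prime 3) := ⟨Nat.prime_three⟩
  intro t ht q hq
  refine VJ_stab L hG ?_ hq
  rw [← zpowers_eq hc hu hu1, MonoidHom.map_zpowers]
  show Subgroup.zpowers (t u) = _
  rw [ht]

omit hc hu1 in
/-- the strong form: `u`, `g u g⁻¹` do not generate a 3-group -/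
theorem gen' [Finite W] [Finite Y] [IsSimpleGroup Y] (hG : GG cs h T X = ⊤) {g : Y}
    (hg : ¬ IsPGroup 3 ↥(Subgroup.closure ({u, g * u * g⁻¹} : Set Y))) :
    Subgroup.closure ((VJ cs h X (orth cs h r) : Set Y) ∪
      {x | ∃ q ∈ VJ cs h X (orth cs h r), x = g * q * g⁻¹}) = ⊤ := by
  have h1 : VJ cs h X (orth cs h r) ⊔ cj g (VJ cs h X (orth cs h r)) = ⊤ := by
    refine VJ_gen L hG fun h2 => hg ?_
    refine h2.to_le ?_
    rw [Subgroup.closure_le]
    rintro x (rfl | rfl)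
    · exact Subgroup.mem_sup_left hu
    · exact Subgroup.mem_sup_right (conj_mem_cj.2 hu)
  rw [eq_top_iff, ← h1]
  refine sup_le (fun x hx => Subgroup.subset_closure (Or.inl hx)) fun x hx => Subgroup.subset_closure (Or.inr ?_)
  exact ⟨g⁻¹ * x * g, mem_cj.1 hx, by group⟩

omit hc hu1 in
theorem gen [Finite W] [Finite Y] [IsSimpleGroup Y] (hG : GG cs h T X = ⊤) :
    ∀ g : Y, H880.Six.Br u (g * u * g⁻¹) →
      Subgroup.closure ((VJ cs h X (orth cs h r) : Set Y) ∪
        {x | ∃ q ∈ VJ cs h X (orth cs h r), x = g * q * g⁻¹}) = ⊤ := by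
  intro g hg
  refine gen' L hu hG fun h1 => ?_
  obtain ⟨h2, h3, -⟩ := hg
  have hmem : (u * (g * u * g⁻¹)) ^ 3 ∈ Subgroup.closure ({u, g * u * g⁻¹} : Set Y) :=
    pow_mem (mul_mem (Subgroup.subset_closure (by simp)) (Subgroup.subset_closure (by simp))) 3
  obtain ⟨k, hk⟩ := h1 ⟨_, hmem⟩
  have h4 : ((u * (g * u * g⁻¹)) ^ 3) ^ 3 ^ k = 1 := congrArg Subtype.val hk
  have h5 : ((u * (g * u * g⁻¹)) ^ 3) ^ 2 = 1 := by rw [pow_two]; exact h2
  have h6 : orderOf ((u * (g * u * g⁻¹)) ^ 3) = 1 := by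
    refine Nat.eq_one_of_dvd_coprimes (a := 3 ^ k) (b := 2) (Nat.Coprime.pow_left k (by norm_num))
      (orderOf_dvd_of_pow_eq_one h4) (orderOf_dvd_of_pow_eq_one h5)
  exact h3 (orderOf_eq_one_iff.1 h6)

end Fields

end Cfsg.Agent.H870.SNX
end

-- part: H880/Six/Asm
section
/-!
# From `Lr3` and `LRG` to the rows (helper880, for S3831)

* `r69_of_lrg` : `R69 K` if the automorphisms of order three with `PS 2` are conjugates of long root elements;
* `r69_of_lr3` : the form for root group data.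
-/

set_option autoImplicit false
set_option linter.unusedSectionVars false

namespace Cfsg.Agent.H880.Six

open CoxeterSystem Cfsg.Agent.ChevalleyStructure.CoxeterGeom Cfsg.Agent.Tits.Roots Cfsg.Agent.Tits.Core
  Cfsg.Agent.Nodes.Reps Cfsg.Agent.Nodes.BNOf Cfsg.Agent.Nodes.Bruhat
open Cfsg Subgroup Cfsg.Agent.H459.Rad Cfsg.Agent.H21.SN

section

variable {K : Type} [Group K] [Finite K]

theorem tr_conj (e : MulAut K) (k : K) : tr e (MulAut.conj k) = MulAut.conj (e k) := by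
  ext l
  rw [tr_apply, MulAut.conj_apply, MulAut.conj_apply, map_mul, map_mul, map_inv, MulEquiv.apply_symm_apply]

theorem tr_pow (e : MulAut K) (x : MulAut K) (k : ℕ) : tr e x ^ k = tr e (x ^ k) :=
  (map_pow (trE e) x k).symm

/-- **orders six and nine, up to conjugation** -/
theorem r69_of_lrg (hZ : center K = ⊥) (h : ∀ x : MulAut K, orderOf x = 3 → PS 2 x → RN x →
    ∃ (u : K) (Q : Subgroup K) (c : K), LRG u Q ∧ x = MulAut.conj (c * u * c⁻¹)) : R69 K := by
  have hc : ∀ (u c : K), tr (MulAut.conj c⁻¹) (MulAut.conj (c * u * c⁻¹)) = MulAut.conj u := by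
    intro u c
    rw [tr_conj, MulAut.conj_apply]
    congr 1
    group
  rintro x (hx | hx) hP hR hI
  · have h1 : orderOf (x ^ 2) = 3 := by
      rw [orderOf_pow_of_dvd (by norm_num) (by rw [hx]; norm_num), hx]
    obtain ⟨u, Q, c, L, hu⟩ := h (x ^ 2) h1 (PS.pow hP 2)
      (hR 2 (by rw [← pow_mul]; norm_num; rw [← hx]; exact pow_orderOf_eq_one x))
    exact L.not_six hZ (x := tr (MulAut.conj c⁻¹) x) (by rw [tr_pow, hu, hc]) (by rw [orderOf_tr, hx])
      (PS.tr _ hP) hI
  · have h1 : orderOf (x ^ 3) = 3 := by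
      rw [orderOf_pow_of_dvd (by norm_num) (by rw [hx]; norm_num), hx]
    obtain ⟨u, Q, c, L, hu⟩ := h (x ^ 3) h1 (PS.pow hP 3)
      (hR 3 (by rw [← pow_mul]; norm_num; rw [← hx]; exact pow_orderOf_eq_one x))
    exact L.not_nine hZ (x := tr (MulAut.conj c⁻¹) x) (by rw [tr_pow, hu, hc]) (PS.tr _ hP)

end

section

variable {I W : Type*} [Fintype I] [DecidableEq I] [Group W] {Y : Type} [Group Y] {M : CoxeterMatrix I}
  {cs : CoxeterSystem M W} {A : I → I → ℤ} {h : IsCartan M A} {T : Subgroup Y} {n : I → Y}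
  {X : (I → ℤ) → Subgroup Y} (R : RGD cs h 3 T n X)

include R

/-- **root group data** -/
theorem r69_of_lr3 [Finite Y] (hZ : center Y = ⊥) {i : I} (h3 : Lr3 X i) {r : I → ℤ} {w : W}
    (hw : rep cs h w (sr i) = r) (hL : ∀ u ∈ X r, u ≠ 1 → ∃ Q, LRG u Q) : R69 Y := by
  refine r69_of_lrg hZ fun x hx hP hR => ?_
  obtain ⟨g, u, hu, rfl⟩ := h3 x hx hP hR
  obtain ⟨k, hk⟩ := exists_rp cs R.nsys w
  have hu1 : u ≠ 1 := by
    rintro rfl
    rw [mul_one, mul_inv_cancel, map_one, orderOf_one] at hx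
    exact absurd hx (by norm_num)
  have hku : k * u * k⁻¹ ∈ X r := by
    rw [← hw, ← R.conj_rp hk (isRoot_sr cs h i)]
    exact ⟨u, hu, rfl⟩
  obtain ⟨Q, L⟩ := hL _ hku (by
    intro h1
    apply hu1
    calc u = k⁻¹ * (k * u * k⁻¹) * k := by group
      _ = 1 := by rw [h1]; group)
  refine ⟨_, Q, g * k⁻¹, L, ?_⟩
  congr 1
  group

end

end Cfsg.Agent.H880.Six
end

-- part: H880/Six/Inst
section
/-!
# Long simple roots of the exceptional groups (helper880, for S3831)

* `Lg cs h i` : `⟨x, α_i^∨⟩ ∈ {0, 1, -1}` for the roots `x ≠ ± α_i`;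
* `lg_SL`, `lr_SL`; `lg_F4`, `lr_F4`, `hst_F4`; `lg_twE6`.
-/

set_option autoImplicit false
set_option linter.unusedSectionVars false

namespace Cfsg.Agent.H880.Six

open CoxeterSystem Cfsg.Agent.ChevalleyStructure.CoxeterGeom Cfsg.Agent.Tits.Roots Cfsg.Agent.Tits.Core
  Cfsg.Agent.Tits.Exchange Cfsg.Agent.Nodes.Coroot
  Cfsg.Agent.Nodes.Reps Cfsg.Agent.Nodes.BNOf Cfsg.Agent.Nodes.Bruhat Cfsg.Agent.KFacts.RgdTI Cfsg.Agent.KFacts.RgdSL
open Cfsg Subgroup Cfsg.Agent.H459.Rad Cfsg.Agent.H21.SN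

section

variable {I W Y : Type*} [Fintype I] [DecidableEq I] [Group W] [Group Y] {M : CoxeterMatrix I}
  {cs : CoxeterSystem M W} {A : I → I → ℤ} {h : IsCartan M A} {p : ℕ} {T : Subgroup Y} {n : I → Y}
  {X : (I → ℤ) → Subgroup Y}

/-- the simple root `α_i` is long -/
def Lg (cs : CoxeterSystem M W) (h : IsCartan M A) (i : I) : Prop :=
  ∀ x, IsRoot cs h x → x ≠ sr i → x ≠ -sr i → cpr cs h x (sr i) = 0 ∨ cpr cs h x (sr i) = 1 ∨ cpr cs h x (sr i) = -1

theorem Lg.act [Finite W] {i : I} (H : Lg cs h i) {r : I → ℤ} {w : W} (hw : rep cs h w (sr i) = r) :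
    ∀ x, IsRoot cs h x → x ≠ r → x ≠ -r → cpr cs h x r = 0 ∨ cpr cs h x r = 1 ∨ cpr cs h x r = -1 := by
  intro x hx h1 h2
  subst hw
  have e : cpr cs h x (rep cs h w (sr i)) = cpr cs h (rep cs h w⁻¹ x) (sr i) := by
    rw [cpr_rep_left _ _ (isRoot_sr cs h i), inv_inv]
  rw [e]
  refine H _ (hx.act _) ?_ ?_
  · intro h3
    apply h1
    rw [← h3, rep_apply_inv]
  · intro h3
    apply h2
    rw [← map_neg, ← h3, rep_apply_inv]

theorem lg_SL [Finite W] (hs : SL cs h) (i : I) : Lg cs h i := by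
  intro x hx h1 h2
  have := hs.abs_le hx (isRoot_sr cs h i) h1 h2
  omega

theorem lr_SL [Finite W] (R : RGD cs h p T n X) (hs : SL cs h) {i j : I} (hij : M i j = 3) : LR R (sr i) := by
  have hA : A i j = -1 ∧ A j i = -1 := by
    have hne : i ≠ j := by
      rintro rfl
      rw [M.diagonal] at hij
      omega
    rcases h.rel i j hne with h1 | h1 | h1 | h1
    · omega
    · exact h1.2
    · omega
    · omega
  have hcij : cpr cs h (sr i) (sr j) = -1 := by
    rw [cpr_sr]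
    have := pairing_single A j i 1
    rw [mul_one] at this
    exact this.trans hA.2
  have hij' : IsRoot cs h (sr i + sr j) := isRoot_add (isRoot_sr cs h i) (isRoot_sr cs h j) hcij
  refine LR.of_SL R hs (isRoot_sr cs h i) hij' ?_
  rw [hs _ _ (isRoot_sr cs h i) hij',
    cpr_add cs h _ _ (isRoot_sr cs h i), cpr_self cs h (isRoot_sr cs h i),
    hs _ _ (isRoot_sr cs h j) (isRoot_sr cs h i), hcij]
  norm_num

end

section Chev

open Cfsg.Lie Cfsg.Lie.ChevalleyDatum Cfsg.Agent.ChevalleyStructure Cfsg.Agent.ChevalleyStructure.CoxeterGeomTypes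
  Cfsg.Agent.Nodes.RGDChev Cfsg.Agent.ChevalleyStructure.RootVec Cfsg.Agent.Nodes.ChevCls Cfsg.Agent.H225.PPow
  Cfsg.Agent.ChevalleyStructure.RootVecTab Cfsg.Agent.Nodes.Unique Cfsg.Agent.KFacts.RgdField
  Cfsg.Agent.KFacts.RgdChevCoord Cfsg.Agent.BpExc.TorCent Cfsg.Agent.BpExc.TorChev
  Cfsg.Agent.ChevalleyStructure.Elts Cfsg.Agent.ChevalleyStructure.NPerm

variable {W : Type*} [Group W]

theorem chkF4_lg : ∀ r < chevF4.nroots, r = chevF4.simple 3 ∨ r = chevF4.neg (chevF4.simple 3) ∨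
    chevF4.cartan 3 r = 0 ∨ chevF4.cartan 3 r = 1 ∨ chevF4.cartan 3 r = -1 := by decide +kernel

theorem lg_F4 (hp : IsType chevF4 4 CoxeterMatrix.F₄) (cs : CoxeterSystem CoxeterMatrix.F₄ W) [Finite W] :
    Lg cs hp.isCartan (3 : Fin 4) := by
  intro x hx h1 h2
  obtain ⟨r, hr, rfl⟩ := (isRoot_iff hp cs _).1 hx
  rw [cpr_vec hp cs 3 hr]
  rcases chkF4_lg r hr with h3 | h3 | h3
  · exact absurd (by rw [h3]; exact vec_simple hp 3) h1
  · refine absurd ?_ h2
    rw [h3, vec_neg hp (by decide +kernel)]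
    congr 1
    exact vec_simple hp 3
  · exact h3

theorem lr_F4 (hp : IsType chevF4 4 CoxeterMatrix.F₄) {K : Type*} [Field K] [Finite K]
    (cs : CoxeterSystem CoxeterMatrix.F₄ W) [Finite W] (p : ℕ) [Fact p.Prime] [CharP K p] :
    LR (rgd (K := K) hp cs p) (sr (3 : Fin 4)) := lr_tab hp cs p (d := 0) (dvd_zero _) lrF4_3

private theorem st_of (D : ChevalleyDatum) (n : ℕ)
    (h : ((List.range n).all fun s => (D.chain.getD s #[]).toList.all fun e =>
      Nat.ble e.2.toList.length 1 || !(D.chainEntry e.1 s).isEmpty) = true) (r s : ℕ) (hs : s < n) :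
    D.commTerms r s = [] ∨ ∃ c ∈ D.commTerms r s, c.2.2 = (1, 1) := by
  cases hc : D.chainEntry r s with
  | cons x xs =>
    have h1 : D.chainRoot r s 1 = some x.1 := by
      show ((D.chainEntry r s)[0]?).map Prod.fst = _
      rw [hc]; rfl
    refine Or.inr ⟨(x.1, D.chainM r s 1, 1, 1), ?_, rfl⟩
    refine List.mem_filterMap.2 ⟨(D.chainRoot r s 1, D.chainM r s 1, 1, 1), List.mem_cons_self, ?_⟩
    rw [h1]; rfl
  | nil =>
    have h1 : ∀ i, D.chainRoot r s i = none := by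
      intro i
      show ((D.chainEntry r s)[i - 1]?).map Prod.fst = _
      rw [hc]; rfl
    have h2 : (D.chainEntry s r).length ≤ 1 := by
      have h3 := List.all_eq_true.1 (List.all_eq_true.1 h s (List.mem_range.2 hs))
      delta chainEntry
      cases hf : (D.chain.getD s #[]).toList.find? (fun e => e.1 = r) with
      | none => exact Nat.zero_le _
      | some e =>
        have h4 := h3 e (List.mem_of_find?_eq_some hf)
        have h5 : e.1 = r := of_decide_eq_true (List.find?_some (p := fun e : ℕ × Array (ℕ × ℤ) => decide (e.1 = r)) hf)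
        rw [h5, hc] at h4
        exact Nat.le_of_ble_eq_true (by simpa using h4)
    have h3 : ∀ i, D.chainRoot s r (i + 2) = none := by
      intro i
      show ((D.chainEntry s r)[i + 1]?).map Prod.fst = _
      rw [List.getElem?_eq_none (by omega)]; rfl
    left
    delta commTerms
    rw [h1 1, h1 2, h1 3, h3 0, h3 1]
    rfl

/-- a commutator has a term `r + s` -/
theorem chkF4_st : ∀ r < chevF4.nroots, ∀ s < chevF4.nroots, chevF4.commTerms r s = [] ∨
    ∃ c ∈ chevF4.commTerms r s, c.2.2 = (1, 1) :=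
  fun r _ s hs => st_of chevF4 _ (by decide +kernel) r s hs

/-- root groups with `x + y` not a root commute -/
theorem hst_F4 (hp : IsType chevF4 4 CoxeterMatrix.F₄) {K : Type*} [Field K] [Finite K]
    (cs : CoxeterSystem CoxeterMatrix.F₄ W) :
    ∀ x y, IsRoot cs hp.isCartan x → IsRoot cs hp.isCartan y → x ≠ -y → ¬ IsRoot cs hp.isCartan (x + y) →
      ∀ a ∈ XX chevF4 4 K x, ∀ b ∈ XX chevF4 4 K y, a * b = b * a := by
  intro x y hx hy hxy hs a ha b hb
  obtain ⟨r, hr, rfl⟩ := (isRoot_iff hp cs _).1 hx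
  obtain ⟨s, hs', rfl⟩ := (isRoot_iff hp cs _).1 hy
  obtain ⟨t, rfl⟩ := (mem_XX_vec hp hr).1 ha
  obtain ⟨u, rfl⟩ := (mem_XX_vec hp hs').1 hb
  by_cases hrs : s = r
  · subst hrs
    rw [← ex_add hp, ← ex_add hp, add_comm]
  have hneg : s ≠ chevF4.neg r := by
    rintro rfl
    apply hxy
    rw [vec_neg hp hr, _root_.neg_neg]
  rw [ex_comm hp hr hs' hrs hneg t u]
  rcases chkF4_st r hr s hs' with h1 | ⟨⟨m, C, i, j⟩, h1, h2⟩
  · rw [h1, List.map_nil, List.prod_nil, mul_one]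
  · exfalso
    apply hs
    simp only [Prod.mk.injEq] at h2
    obtain ⟨rfl, rfl⟩ := h2
    obtain ⟨h3, -, -, -, -, h4⟩ := commTerms_rt hp.checked h1
    refine (isRoot_iff hp cs _).2 ⟨m, h3, ?_⟩
    funext k
    have h5 := h4 k
    rw [← vec_apply (l := 4), ← vec_apply (l := 4), ← vec_apply (l := 4)] at h5
    rw [h5, Pi.add_apply]
    push_cast
    ring

end Chev

section Tw

open Cfsg.Agent.Nodes.RGDTwE6 Cfsg.Agent.KFacts.TwESix.Comb

variable {W : Type*} [Group W]

theorem chk_twE6 : ∀ x ∈ rts, x = sr 0 ∨ x = -sr 0 ∨ pairing A 0 x = 0 ∨ pairing A 0 x = 1 ∨ pairing A 0 x = -1 := by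
  decide +kernel

theorem lg_twE6 (cs : CoxeterSystem CoxeterMatrix.F₄ W) [Finite W] : Lg cs isCartan (0 : Fin 4) := by
  intro x hx h1 h2
  rw [cpr_sr]
  rcases chk_twE6 x ((mem_rts cs).1 hx) with h3 | h3 | h3
  · exact absurd h3 h1
  · exact absurd h3 h2
  · exact h3

end Tw

end Cfsg.Agent.H880.Six
end

-- part: H646/SNX/SLThree
section
/-!
# `SL₃(3)` : the element of order six of the long root `SL₂(3)` is not `PS2` (helper646, S3831 T7d)
-/

set_option autoImplicit false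

namespace Cfsg.Agent.H646.SNX

open Matrix Subgroup Cfsg.Agent.H880.Six

/-- `SL₃(3)` -/
abbrev S3 : Type := _root_.Matrix.SpecialLinearGroup (Fin 3) (ZMod 3)

/-- `1 + a E₀₁` -/
def t01 (a : ZMod 3) : S3 := SpecialLinearGroup.transvection (show (0 : Fin 3) ≠ 1 by decide) a

/-- `1 + a E₁₀` -/
def t10 (a : ZMod 3) : S3 := SpecialLinearGroup.transvection (show (1 : Fin 3) ≠ 0 by decide) a

def zz : S3 := ⟨!![2, 0, 0; 0, 2, 0; 0, 0, 1], by decide +kernel⟩
def xx : S3 := ⟨!![2, 2, 0; 0, 2, 0; 0, 0, 1], by decide +kernel⟩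
def gg : S3 := ⟨!![1, 0, 0; 0, 1, 1; 1, 0, 1], by decide +kernel⟩
def yy : S3 := ⟨!![1, 2, 1; 1, 2, 2; 0, 2, 2], by decide +kernel⟩
def aa : S3 := ⟨!![1, 2, 0; 0, 1, 0; 0, 0, 1], by decide +kernel⟩
def bb : S3 := ⟨!![2, 0, 1; 2, 2, 0; 1, 0, 0], by decide +kernel⟩
def b2 : S3 := ⟨!![2, 0, 2; 2, 1, 2; 2, 0, 1], by decide +kernel⟩
def b4 : S3 := ⟨!![2, 0, 0; 1, 1, 2; 0, 0, 2], by decide +kernel⟩
def cc : S3 := ⟨!![0, 1, 1; 2, 2, 0; 1, 0, 0], by decide +kernel⟩
def c2 : S3 := ⟨!![0, 2, 0; 1, 0, 2; 0, 1, 1], by decide +kernel⟩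
def c4 : S3 := ⟨!![2, 0, 1; 0, 1, 2; 1, 1, 0], by decide +kernel⟩
def c8 : S3 := ⟨!![2, 1, 2; 2, 0, 2; 2, 1, 0], by decide +kernel⟩
def c12 : S3 := ⟨!![0, 0, 1; 0, 2, 2; 1, 1, 1], by decide +kernel⟩
def dd : S3 := ⟨!![1, 0, 0; 0, 2, 0; 0, 0, 2], by decide +kernel⟩

theorem gx : gg * xx = yy * gg := by decide +kernel
theorem xx2 : xx * xx = aa := by decide
theorem yxy : yy * xx * yy = bb := by decide +kernel
theorem b_b : bb * bb = b2 := by decide
theorem b2_b2 : b2 * b2 = b4 := by decide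
theorem b4_b4 : b4 * b4 = 1 := by decide
theorem ab : aa * bb = cc := by decide
theorem c_c : cc * cc = c2 := by decide
theorem c2_c2 : c2 * c2 = c4 := by decide
theorem c4_c4 : c4 * c4 = c8 := by decide
theorem c8_c4 : c8 * c4 = c12 := by decide
theorem c12_c : c12 * cc = 1 := by decide
theorem aaa : aa * aa * aa = 1 := by decide
theorem cx : cc * xx ≠ xx * cc := by decide
theorem zg : zz * gg ≠ gg * zz := by decide
theorem dxd : dd * xx = (t01 2 * zz) * dd := by decide +kernel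
theorem x_eq : xx = t01 1 * zz := by decide
theorem br11 : (t01 1 * t10 1) ^ 3 * (t01 1 * t10 1) ^ 3 = zz := by decide +kernel
theorem br22 : (t01 2 * t10 2) ^ 3 * (t01 2 * t10 2) ^ 3 = zz := by decide +kernel
theorem br12 : (t01 1 * t10 2) ^ 3 = zz := by decide +kernel
theorem br21 : (t01 2 * t10 1) ^ 3 = zz := by decide +kernel

section Map

variable {Y : Type*} [Group Y] (ψ : S3 →* Y)

include ψ in
/-- `x` of order six: `⟨x, g x g⁻¹⟩` contains elements of orders `3`, `8` with product of order `13` -/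
theorem not_solv (hk : ψ.ker ≤ center S3) :
    ¬ Group.IsSolvable ↥(_root_.Subgroup.closure ({ψ xx, ψ gg * ψ xx * (ψ gg)⁻¹} : Set Y)) := by
  intro hs
  have hy : ψ gg * ψ xx * (ψ gg)⁻¹ = ψ yy := by
    rw [← map_mul, gx, map_mul, mul_inv_cancel_right]
  rw [hy] at hs
  have h1 : ψ aa ^ 3 = 1 := by
    rw [← map_pow, pow_succ, pow_two, aaa, map_one]
  have h2 : ψ bb ^ 2 ^ 3 = 1 := by
    have e : bb ^ 2 ^ 3 = (bb * bb) * (bb * bb) * ((bb * bb) * (bb * bb)) := by
      simp only [show (2 : ℕ) ^ 3 = 8 by norm_num, pow_succ, pow_zero, one_mul, mul_assoc]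
    rw [← map_pow, e, b_b, b2_b2, b4_b4, map_one]
  have h3 : (ψ aa * ψ bb) ^ 13 = 1 := by
    have e : cc ^ 13 = (cc * cc) * (cc * cc) * ((cc * cc) * (cc * cc)) * ((cc * cc) * (cc * cc)) * cc := by
      simp only [pow_succ, pow_zero, one_mul, mul_assoc]
    rw [← map_mul, ab, ← map_pow, e, c_c, c2_c2, c4_c4, c8_c4, c12_c, map_one]
  have h4 : ψ aa * ψ bb ≠ 1 := by
    rw [← map_mul, ab]
    intro h
    have h5 := mem_center_iff.1 (hk h) xx
    exact cx h5.symm
  have h6 := Cfsg.Agent.H959.Rad3.not_solvable_of_coprime h1 h2 h3 (by norm_num) h4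
  apply h6
  have h7 : _root_.Subgroup.closure ({ψ aa, ψ bb} : Set Y) ≤ closure ({ψ xx, ψ yy} : Set Y) := by
    have hx : ψ xx ∈ closure ({ψ xx, ψ yy} : Set Y) := _root_.Subgroup.subset_closure (Or.inl rfl)
    have hy' : ψ yy ∈ closure ({ψ xx, ψ yy} : Set Y) := _root_.Subgroup.subset_closure (Or.inr rfl)
    rw [closure_le]
    rintro _ (rfl | rfl)
    · rw [← xx2, map_mul]
      exact mul_mem hx hx
    · rw [← yxy, map_mul, map_mul]
      exact mul_mem (mul_mem hy' hx) hy'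
  exact Group.isSolvable_of_isSolvable_injective (inclusion_injective h7)

theorem ps2_conj {v : Y} (h : PS2 v) (d : Y) : PS2 (d * v * d⁻¹) := by
  intro g
  have h1 := h (d⁻¹ * g * d)
  have h2 : _root_.Subgroup.closure ({d * v * d⁻¹, g * (d * v * d⁻¹) * g⁻¹} : Set Y) =
      (_root_.Subgroup.closure ({v, (d⁻¹ * g * d) * v * (d⁻¹ * g * d)⁻¹} : Set Y)).map (MulAut.conj d).toMonoidHom := by
    rw [MonoidHom.map_closure, Set.image_pair]
    congr 3
    change g * (d * v * d⁻¹) * g⁻¹ = d * (d⁻¹ * g * d * v * (d⁻¹ * g * d)⁻¹) * d⁻¹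
    group
  rw [h2]
  exact Group.isSolvable_of_surjective ((MulAut.conj d).toMonoidHom.subgroupMap_surjective _)

include ψ in
theorem not_ps2 (hk : ψ.ker ≤ center S3) {a c : ZMod 3} (ha : a ≠ 0) (hc : c ≠ 0)
    (hbr : Br (ψ (t01 a)) (ψ (t10 c))) : ¬ PS2 (ψ (t01 a) * (ψ (t01 a) * ψ (t10 c)) ^ 3) := by
  have hz : ψ zz ≠ 1 := fun h => zg (mem_center_iff.1 (hk h) gg).symm
  have h11 : ¬ PS2 (ψ (t01 1 * zz)) := by
    rw [← x_eq]
    intro h
    exact not_solv ψ hk (h (ψ gg))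
  have h22 : ¬ PS2 (ψ (t01 2 * zz)) := by
    intro h
    apply h11
    have h1 := ps2_conj h (ψ dd)⁻¹
    have h2 : (ψ dd)⁻¹ * ψ (t01 2 * zz) * (ψ dd)⁻¹⁻¹ = ψ (t01 1 * zz) := by
      rw [inv_inv, ← x_eq, mul_assoc, ← map_mul, ← dxd, map_mul, inv_mul_cancel_left]
    rwa [h2] at h1
  obtain ⟨h1, -, -⟩ := hbr
  rw [← map_mul, ← map_pow, ← map_mul] at h1
  rw [← map_mul ψ (t01 a) (t10 c), ← map_pow, ← map_mul]
  fin_cases a <;> fin_cases c
  · exact absurd rfl ha
  · exact absurd rfl ha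
  · exact absurd rfl ha
  · exact absurd rfl hc
  · exact absurd ((congrArg ψ br11).symm.trans h1) hz
  · have := br12
    rw [show (t01 ((fun i => i) ⟨1, by decide⟩) * t10 ((fun i => i) ⟨2, by decide⟩) : S3) ^ 3 = zz from br12]
    exact h11
  · exact absurd rfl hc
  · rw [show (t01 ((fun i => i) ⟨2, by decide⟩) * t10 ((fun i => i) ⟨1, by decide⟩) : S3) ^ 3 = zz from br21]
    exact h22
  · exact absurd ((congrArg ψ br22).symm.trans h1) hz

end Map

end Cfsg.Agent.H646.SNX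
end

-- part: H646/SNX/Base
section
/-!
# the base case of `LRG` : `u z` is not `PS2` (helper646, S3831 T7d)
-/

set_option autoImplicit false
set_option linter.unusedSectionVars false

namespace Cfsg.Agent.H646.SNX

open CoxeterSystem Cfsg.Agent.ChevalleyStructure.CoxeterGeom Cfsg.Agent.Tits.Roots Cfsg.Agent.Tits.Core
  Cfsg.Agent.Tits.RootComb Cfsg.Agent.Tits.Exchange Cfsg.Agent.Nodes.Reps Cfsg.Agent.Nodes.BNOf
  Cfsg.Agent.Nodes.StabComb Cfsg.Agent.Nodes.Bruhat Cfsg.Agent.Nodes.NormX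
open Cfsg Matrix Subgroup Cfsg.Agent.H880.Six Cfsg.Agent.H622.Levi
open Cfsg.Agent.LieRecognition.BNCox (cA)

theorem br_conj {Y : Type*} [Group Y] {a b : Y} (h : Br a b) (d : Y) : Br (d * a * d⁻¹) (d * b * d⁻¹) := by
  obtain ⟨h1, h2, h3⟩ := h
  have e : (d * a * d⁻¹ * (d * b * d⁻¹)) ^ 3 = d * (a * b) ^ 3 * d⁻¹ := by
    rw [← conj_pow]
    congr 1
    group
  refine ⟨?_, ?_, ?_⟩
  · rw [e]
    calc d * (a * b) ^ 3 * d⁻¹ * (d * (a * b) ^ 3 * d⁻¹) = d * ((a * b) ^ 3 * (a * b) ^ 3) * d⁻¹ := by group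
      _ = 1 := by rw [h1]; group
  · rw [e]
    intro h4
    apply h2
    exact (conj_eq_one_iff).1 h4
  · rw [e]
    calc d * (a * b) ^ 3 * d⁻¹ * (d * a * d⁻¹) = d * ((a * b) ^ 3 * a) * d⁻¹ := by group
      _ = d * (a * (a * b) ^ 3) * d⁻¹ := by rw [h3]
      _ = d * a * d⁻¹ * (d * (a * b) ^ 3 * d⁻¹) := by group

theorem br_conj_iff {Y : Type*} [Group Y] {a b : Y} (d : Y) : Br (d⁻¹ * a * d) (d⁻¹ * b * d) ↔ Br a b := by
  constructor
  · intro h
    have := br_conj h d
    have e1 : d * (d⁻¹ * a * d) * d⁻¹ = a := by group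
    have e2 : d * (d⁻¹ * b * d) * d⁻¹ = b := by group
    rwa [e1, e2] at this
  · intro h
    have := br_conj h d⁻¹
    rwa [inv_inv] at this

theorem val_conj {Y : Type*} [Group Y] {a b : Y} (d : Y) :
    d⁻¹ * a * d * (d⁻¹ * a * d * (d⁻¹ * b * d)) ^ 3 = d⁻¹ * (a * (a * b) ^ 3) * d⁻¹⁻¹ := by
  have e : (d⁻¹ * a * d * (d⁻¹ * b * d)) ^ 3 = d⁻¹ * (a * b) ^ 3 * d⁻¹⁻¹ := by
    rw [← conj_pow]
    congr 1
    group
  rw [e]
  group

/-- a braid pair does not generate a `3`-group -/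
theorem not_br_of_pgroup {Y : Type*} [Group Y] {a b : Y} {P : Subgroup Y} (hP : IsPGroup 3 P) (ha : a ∈ P)
    (hb : b ∈ P) (h : Br a b) : False := by
  obtain ⟨h1, h2, -⟩ := h
  have hz : (a * b) ^ 3 ∈ P := pow_mem (mul_mem ha hb) 3
  obtain ⟨k, hk⟩ := hP ⟨_, hz⟩
  have h3 : ((a * b) ^ 3) ^ 3 ^ k = 1 := congrArg Subtype.val hk
  have h4 : ((a * b) ^ 3) ^ 2 = 1 := by rw [pow_two, h1]
  apply h2
  have h5 : orderOf ((a * b) ^ 3) ∣ 1 := by
    have h6 : Nat.Coprime (3 ^ k) 2 := Nat.Coprime.pow_left k (by norm_num)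
    rw [← h6.gcd_eq_one]
    exact Nat.dvd_gcd (orderOf_dvd_of_pow_eq_one h3) (orderOf_dvd_of_pow_eq_one h4)
  exact orderOf_eq_one_iff.1 (Nat.dvd_one.1 h5)

variable {I W Y : Type*} [Fintype I] [DecidableEq I] [Group W] [Group Y] {M : CoxeterMatrix I}
  {cs : CoxeterSystem M W} {A : I → I → ℤ} {h : IsCartan M A} {T : Subgroup Y} {n : I → Y}
  {X : (I → ℤ) → Subgroup Y} (R : RGD cs h 3 T n X)

include R

/-- the chart of type `A₂` over `F₃` -/
theorem exists_chart [Finite W] [Finite Y] {i j : I} (hij : M i j = 3) (hc : Nat.card (X (sr i)) = 3) :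
    ∃ ψ : S3 →* Y, ψ.ker ≤ center S3 ∧ (∀ v ∈ X (sr i), ∃ a, v = ψ (t01 a)) ∧
      ∀ v ∈ X (-sr i), ∃ a, v = ψ (t10 a) := by
  have hne : i ≠ j := by
    rintro rfl
    rw [M.diagonal] at hij
    omega
  let k : Fin 2 ↪ I := ⟨![i, j], by
    intro a b hab
    fin_cases a <;> fin_cases b
    · rfl
    · exact absurd hab hne
    · exact absurd hab hne.symm
    · rfl⟩
  obtain ⟨F, i1, i2, φ, C⟩ := exists_co R le_rfl k (by
    intro a b
    fin_cases a <;> fin_cases b
    · change M i i = _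
      rw [M.diagonal]; rfl
    · change M i j = _
      rw [hij]; rfl
    · change M j i = _
      rw [M.symmetric, hij]; rfl
    · change M j j = _
      rw [M.diagonal]; rfl)
  have hk0 : k 0 = i := rfl
  have hF : Nat.card F = 3 := by
    rw [← C.card 0, hk0, hc]
  have hF' : Fintype.card F = 3 := by rw [← Nat.card_eq_fintype_card, hF]
  let e : ZMod 3 ≃+* F := ZMod.ringEquivOfPrime F Nat.prime_three hF'
  have hroot : ∀ (a b : Fin 3) (hab : a ≠ b) (v : Y), v ∈ X (cr k a b) →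
      ∃ s : ZMod 3, v = (φ.comp (SpecialLinearGroup.map (e : ZMod 3 →+* F))) (SpecialLinearGroup.transvection hab s) := by
    intro a b hab v hv
    have hv' : v ∈ (X (cr k a b) : Set Y) := hv
    rw [C.root a b hab] at hv'
    obtain ⟨t, rfl⟩ := hv'
    refine ⟨e.symm t, ?_⟩
    rw [MonoidHom.comp_apply]
    change φ _ = φ _
    congr 1
    apply Subtype.ext
    ext x y
    change (1 + Matrix.single a b t : Matrix _ _ F) x y = e ((1 + Matrix.single a b (e.symm t) : Matrix _ _ (ZMod 3)) x y)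
    rw [Matrix.add_apply, Matrix.add_apply, map_add, Matrix.one_apply, Matrix.one_apply, Matrix.single_apply,
      Matrix.single_apply]
    split_ifs <;> simp
  refine ⟨φ.comp (SpecialLinearGroup.map (e : ZMod 3 →+* F)), ?_, fun v hv => ?_, fun v hv => ?_⟩
  · intro g hg
    have h1 := C.ker (show SpecialLinearGroup.map (e : ZMod 3 →+* F) g ∈ φ.ker from hg)
    have hinj : Function.Injective (SpecialLinearGroup.map (n := Fin 3) (e : ZMod 3 →+* F)) := by
      intro x y hxy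
      apply Subtype.ext
      ext a b
      have h2 := congrFun (congrFun (congrArg Subtype.val hxy) a) b
      exact e.injective h2
    rw [mem_center_iff] at h1 ⊢
    intro x
    apply hinj
    rw [map_mul, map_mul]
    exact h1 _
  · apply hroot 0 1 (by decide)
    have h1 := cr_succ (k : Fin 2 → I) 0
    change cr (k : Fin 2 → I) 0 1 = sr i at h1
    change v ∈ X (cr (k : Fin 2 → I) 0 1)
    rw [h1]
    exact hv
  · apply hroot 1 0 (by decide)
    have h1 := cr_succ (k : Fin 2 → I) 0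
    change cr (k : Fin 2 → I) 0 1 = sr i at h1
    change v ∈ X (cr (k : Fin 2 → I) 1 0)
    rw [← cr_neg, h1]
    exact hv

/-- **the base case of `LRG`** -/
theorem lrg_base [Finite W] [Finite Y] (hG : GG cs h T X = ⊤) {r : I → ℤ} (L : Long R r (X r)) {i j : I}
    (hij : M i j = 3) {w : W} (hw : rep cs h w (sr i) = r) (hc : Nat.card (X (sr i)) = 3) {u : Y} (hu : u ∈ X r)
    (hu1 : u ≠ 1) (g : Y) (hbr : Br u (g * u * g⁻¹)) : ¬ PS2 (u * (u * (g * u * g⁻¹)) ^ 3) := by
  intro hps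
  obtain ⟨x, -, v, k, hk, e1, e2⟩ := L.exists_pair (g := 1) (g' := g) (by rw [hG]; trivial) (by rw [hG]; trivial)
  generalize hb : g * u * g⁻¹ = b at hbr hps
  have hu' : x⁻¹ * u * x ∈ X r := by
    rw [← mem_cj, ← e1, cj_one]
    exact hu
  have hb' : x⁻¹ * b * x ∈ X (rep cs h v r) := by
    rw [← R.conj_rp hk L.root, ← mem_cj, ← e2, ← hb]
    exact conj_mem_cj.2 hu
  have hbr1 := (br_conj_iff x).2 hbr
  by_cases hv : rep cs h v r = -r
  · rw [hv] at hb'
    obtain ⟨k0, hk0⟩ := exists_rp cs R.nsys w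
    have hsr := isRoot_sr cs h i
    have hu2 : k0⁻¹ * (x⁻¹ * u * x) * k0 ∈ X (sr i) := by
      rw [← mem_cj, R.conj_rp hk0 hsr, hw]
      exact hu'
    have hb2 : k0⁻¹ * (x⁻¹ * b * x) * k0 ∈ X (-sr i) := by
      rw [← mem_cj, R.conj_rp hk0 hsr.neg, map_neg, hw]
      exact hb'
    have hbr2 := (br_conj_iff k0).2 hbr1
    have hps1 := ps2_conj hps x⁻¹
    rw [← val_conj] at hps1
    have hps2 := ps2_conj hps1 k0⁻¹
    rw [← val_conj] at hps2
    obtain ⟨ψ, hker, h1, h2⟩ := exists_chart R hij hc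
    obtain ⟨a, ha⟩ := h1 _ hu2
    obtain ⟨c, hc'⟩ := h2 _ hb2
    rw [ha, hc'] at hbr2 hps2
    have ha0 : a ≠ 0 := by
      rintro rfl
      apply hu1
      have h3 : t01 0 = 1 := by decide
      rw [h3, map_one] at ha
      have h4 : u = x * (k0 * (k0⁻¹ * (x⁻¹ * u * x) * k0) * k0⁻¹) * x⁻¹ := by group
      rw [h4, ha]
      group
    have hc0 : c ≠ 0 := by
      rintro rfl
      apply hu1
      have h3 : t10 0 = 1 := by decide
      rw [h3, map_one] at hc'
      have h4 : u = g⁻¹ * (x * (k0 * (k0⁻¹ * (x⁻¹ * b * x) * k0) * k0⁻¹) * x⁻¹) * g := by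
        rw [← hb]
        group
      rw [h4, hc']
      group
    exact not_ps2 ψ hker ha0 hc0 hbr2 hps2
  · refine not_br_of_pgroup (P := X r ⊔ X (rep cs h v r)) ?_ (mem_sup_left hu') (mem_sup_right hb') hbr1
    refine Cfsg.Agent.H939.RgdP.isPGroup_pair R L.root (L.root.act v) ?_
    intro h1
    apply hv
    exact (neg_eq_iff_eq_neg.2 h1).symm

end Cfsg.Agent.H646.SNX
end

-- part: H880/Six/Lrgs
section
/-!
# Long root elements over `F₃`: assembly of `LRG` (helper880, for S3831)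

* `lrg` : the long root elements of a root group datum over `F₃` satisfy `LRG` (tasks T7a-d: helpers 142, 870, 580, 646);
* `r69_inst` : the row of a group in which the automorphisms of order three are long root elements.
-/

set_option autoImplicit false
set_option linter.unusedSectionVars false

namespace Cfsg.Agent.H880.Six

open CoxeterSystem Cfsg.Agent.ChevalleyStructure.CoxeterGeom Cfsg.Agent.Tits.Roots Cfsg.Agent.Tits.Core
  Cfsg.Agent.Tits.Exchange Cfsg.Agent.Nodes.Coroot Cfsg.Agent.Nodes.StabComb Cfsg.Agent.Nodes.NormX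
  Cfsg.Agent.Nodes.LeviDec Cfsg.Agent.Nodes.Comb
  Cfsg.Agent.Nodes.Reps Cfsg.Agent.Nodes.BNOf Cfsg.Agent.Nodes.Bruhat Cfsg.Agent.KFacts.RgdTI Cfsg.Agent.KFacts.RgdSL
open Cfsg Subgroup Cfsg.Agent.H459.Rad Cfsg.Agent.H21.SN
open scoped commutatorElement

section

variable {I W : Type*} [Fintype I] [DecidableEq I] [Group W] {Y : Type} [Group Y] {M : CoxeterMatrix I}
  {cs : CoxeterSystem M W} {A : I → I → ℤ} {h : IsCartan M A} {T : Subgroup Y} {n : I → Y}
  {X : (I → ℤ) → Subgroup Y}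

/-- **long root elements over `F₃`** -/
theorem lrg [Finite W] [Finite Y] [IsSimpleGroup Y] (R : RGD cs h 3 T n X) (hG : GG cs h T X = ⊤) {r : I → ℤ}
    (hr : Dom A r) (L : LR R r) {i j : I} (hij : M i j = 3) {w : W} (hw : rep cs h w (sr i) = r)
    (hc : Nat.card (X (sr i)) = 3)
    (hlong : ∀ x, IsRoot cs h x → x ≠ r → x ≠ -r → cpr cs h x r = 0 ∨ cpr cs h x r = 1 ∨ cpr cs h x r = -1)
    {u : Y} (hu : u ∈ X r) (hu1 : u ≠ 1) : LRG u (VJ cs h X (orth cs h r)) := by
  have L' : Long R r (X r) := H870.SNX.long_of_LR L hr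
  have hcr : Nat.card (X r) = 3 := by rw [H870.SNX.card_X R hw, hc]
  obtain ⟨h1, h2, h3⟩ := H142.SNX.lrg_a L' hG hij hw hc hu hu1
  obtain ⟨h4, h5, h6⟩ := H580.SNX.lrg_c L' hG hij hw hc hlong hu hu1
  exact
    { cube := H870.SNX.cube hcr hu
      ne := hu1
      pair := h1
      two := h2
      odd := h3
      mem := H870.SNX.mem L' hu
      pgrp := H870.SNX.pgrp R _
      stab := H870.SNX.stab L' hcr hu hu1 hG
      comm := h4
      cen := h5
      cen' := H870.SNX.cen' L' hcr hu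
      neg := h6
      gen := H870.SNX.gen L' hu hG
      base := H646.SNX.lrg_base R hG L' hij hw hc hu hu1 }

/-- the form with simple roots -/
theorem exists_lrg [Finite W] [Finite Y] [IsSimpleGroup Y] (R : RGD cs h 3 T n X)
    (hG : GG cs h T X = ⊤) {i j : I} (hij : M i j = 3) (hc : Nat.card (X (sr i)) = 3) (L0 : LR R (sr i))
    (hl : Lg cs h i) : ∃ w : W, ∀ u ∈ X (rep cs h w (sr i)), u ≠ 1 → ∃ Q, LRG u Q := by
  obtain ⟨w, hd⟩ := exists_dom_rep cs h (sr i)
  exact ⟨w, fun u hu hu1 => ⟨VJ cs h X (orth cs h (rep cs h w (sr i))),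
    lrg R hG hd (L0.act w) hij (w := w) rfl hc (hl.act (w := w) rfl) hu hu1⟩⟩

/-- **the row** -/
theorem r69_inst [Finite W] [Finite Y] [IsSimpleGroup Y] (hZ : center Y = ⊥) (R : RGD cs h 3 T n X)
    (hG : GG cs h T X = ⊤) {i j : I} (hij : M i j = 3) (hc : Nat.card (X (sr i)) = 3) (L0 : LR R (sr i))
    (hl : Lg cs h i) (h3 : Lr3 X i) : R69 Y := by
  obtain ⟨w, hw⟩ := exists_lrg R hG hij hc L0 hl
  exact r69_of_lr3 R hZ h3 (w := w) rfl hw

end

end Cfsg.Agent.H880.Six
end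

-- part: H397/SNX/HexB
section
/-!
# Order six (helper397, for S3831)

`six` : no automorphism of order six of `³D₄(3)` has `PS 2` and `RN`.
-/

set_option autoImplicit false
set_option linter.unusedSectionVars false

namespace Cfsg.Agent.H397.SNX

open Subgroup Cfsg Cfsg.Agent.SplitTwo Cfsg.Agent.TitsThree.RankTwoZ Cfsg.Agent.Lib.SL2Mat
open Cfsg.Agent.Cit.HexBase Cfsg.Agent.Cit.AutFacts Cfsg.Agent.Cit
open Cfsg.Agent.H21.SN Cfsg.Agent.H459.Rad

variable {E : Type} [Field E] {σ : E ≃+* E} {L : Type} [Group L]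

namespace Ctx

variable {c : HexGrp σ L} (C : Ctx c)

include C

/-- the Sylow `3`-subgroups are not abelian -/
theorem not_comm (S : Subgroup L) (hS : Nat.card S = 3 ^ 12) : ¬ IsMulCommutative S := by
  have := C.finE
  have := C.finL
  have := C.char
  have hf : Fact (Nat.Prime 3) := ⟨Nat.prime_three⟩
  intro hcm
  have h1 : Nat.card S = 3 ^ (Nat.card L).factorization 3 := by
    rw [hS, C.cardL]
    have : (20560831566912 : ℕ) = 3 ^ 12 * 38688832 := by norm_num
    rw [this, Nat.factorization_mul (by norm_num) (by norm_num), Finsupp.add_apply,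
      Nat.Prime.factorization_pow Nat.prime_three, Finsupp.single_eq_same,
      Nat.factorization_eq_zero_of_not_dvd (by norm_num)]
  have hQ : IsPGroup 3 ↥c.Q4 := c.isPGroup_Q4
  obtain ⟨P, hP⟩ := hQ.exists_le_sylow
  obtain ⟨g, hg⟩ := MulAction.exists_smul_eq L (Sylow.ofCard S h1) P
  have h4 : kk (c.x2 1) (c.x6 1) = c.x4 1 := by
    rw [(c.nf2 (map_one σ)).form (c.nf6 (map_one σ))]
    congr 1
    simp [trc]
  have h5 : ∀ a ∈ (P : Subgroup L), ∀ b ∈ (P : Subgroup L), a * b = b * a := by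
    intro a ha b hb
    rw [← hg] at ha hb
    obtain ⟨a', ha', rfl⟩ := ha
    obtain ⟨b', hb', rfl⟩ := hb
    have h6 := congrArg Subtype.val (hcm.is_comm.comm ⟨a', ha'⟩ ⟨b', hb'⟩)
    change a' * b' = b' * a' at h6
    change g * a' * g⁻¹ * (g * b' * g⁻¹) = g * b' * g⁻¹ * (g * a' * g⁻¹)
    calc g * a' * g⁻¹ * (g * b' * g⁻¹) = g * (a' * b') * g⁻¹ := by group
      _ = g * (b' * a') * g⁻¹ := by rw [h6]
      _ = _ := by group
  have h6 := h5 _ (hP (HexGrp.q2 (c := c) (map_one σ))) _ (hP (HexGrp.q6 (c := c) (map_one σ)))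
  rw [HexGrp.kk_self h6] at h4
  have h7 := c.x4_inj (map_zero σ) (map_one σ) (by rw [← h4, c.x4_zero])
  exact zero_ne_one h7

/-- two conjugates of `z k`, `k ∈ K4` of order three -/
theorem false_of_zc {k : L} (hk : k ∈ c.K4) (hk3 : orderOf k = 3) (hP : PS 2 (MulAut.conj (c.z * k))) : False := by
  have := C.finE
  have := C.finL
  have h2 := C.two
  obtain ⟨P₀, hP₀, hC₀⟩ := C.torus
  obtain ⟨i, hii, hi1, hinv⟩ := exists_inv C.cardL hP₀ hC₀
  obtain ⟨g, hg⟩ := isConj_iff.1 (c.isConj_z h2 hii hi1)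
  -- the conjugate of `P₀` inverted by `z`
  set P : Subgroup L := P₀.map (MulAut.conj g).toMonoidHom with hPd
  have hP1 : Nat.card P = 73 := by rw [hPd, Subgroup.card_map_of_injective (MulAut.conj g).injective, hP₀]
  have hC1 : centralizer (P : Set L) = P := by
    ext x
    constructor
    · intro hx
      refine ⟨g⁻¹ * x * g, ?_, ?_⟩
      · rw [SetLike.mem_coe, ← hC₀, mem_centralizer_iff]
        intro y hy
        have h3 := mem_centralizer_iff.1 hx (g * y * g⁻¹) ⟨y, hy, rfl⟩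
        calc y * (g⁻¹ * x * g) = g⁻¹ * (g * y * g⁻¹ * x) * g := by group
          _ = g⁻¹ * (x * (g * y * g⁻¹)) * g := by rw [h3]
          _ = _ := by group
      · change g * (g⁻¹ * x * g) * g⁻¹ = x
        group
    · rintro ⟨x', hx', rfl⟩
      rw [mem_centralizer_iff]
      rintro _ ⟨y, hy, rfl⟩
      have hx2 : x' ∈ centralizer (P₀ : Set L) := by rw [hC₀]; exact hx'
      have h3 := mem_centralizer_iff.1 hx2 y hy
      change g * y * g⁻¹ * (g * x' * g⁻¹) = g * x' * g⁻¹ * (g * y * g⁻¹)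
      calc g * y * g⁻¹ * (g * x' * g⁻¹) = g * (y * x') * g⁻¹ := by group
        _ = g * (x' * y) * g⁻¹ := by rw [h3]
        _ = _ := by group
  have hz : ∀ x ∈ P, c.z * x * c.z⁻¹ = x⁻¹ := by
    rintro _ ⟨y, hy, rfl⟩
    change c.z * (g * y * g⁻¹) * c.z⁻¹ = (g * y * g⁻¹)⁻¹
    rw [← hg]
    have h3 := hinv y hy
    calc g * i * g⁻¹ * (g * y * g⁻¹) * (g * i * g⁻¹)⁻¹ = g * (i * y * i⁻¹) * g⁻¹ := by group
      _ = _ := by rw [h3]; group
  -- a generator
  have : Fact (Nat.Prime 73) := ⟨prime73⟩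
  have : IsCyclic P := isCyclic_of_prime_card hP1
  obtain ⟨⟨w, hw⟩, hw73⟩ := exists_prime_orderOf_dvd_card' (G := P) 73 (by rw [hP1])
  rw [Subgroup.orderOf_mk] at hw73
  set x : L := c.z * k with hx
  have hs := H839.Rad.solvable_pair C.center_bot hP w
  set H : Subgroup L := _root_.Subgroup.closure ({x, w * x * w⁻¹} : Set L) with hH
  have hzz := c.z_sq
  have hkz : k * c.z = c.z * k := c.mem_CZ.1 (c.K4_le_CZ hk)
  have hk3' : k * k * k = 1 := by
    have h3 := pow_orderOf_eq_one k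
    rw [hk3, pow_succ, pow_two] at h3
    exact h3
  have hx3 : x * x * x = c.z := by
    rw [hx]
    calc c.z * k * (c.z * k) * (c.z * k) = c.z * (k * c.z) * k * (c.z * k) := by group
      _ = c.z * (c.z * k) * k * (c.z * k) := by rw [hkz]
      _ = (c.z * c.z) * (k * (k * c.z)) * k := by group
      _ = k * (c.z * k) * k := by rw [hzz, hkz, one_mul]
      _ = (k * c.z) * k * k := by group
      _ = c.z * k * k * k := by rw [hkz]
      _ = c.z * (k * k * k) := by group
      _ = c.z := by rw [hk3', mul_one]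
  have hxH : x ∈ H := _root_.Subgroup.subset_closure (Set.mem_insert _ _)
  have hwH : w * x * w⁻¹ ∈ H := _root_.Subgroup.subset_closure (Set.mem_insert_of_mem _ rfl)
  have hzH : c.z ∈ H := by rw [← hx3]; exact H.mul_mem (H.mul_mem hxH hxH) hxH
  have hkH : k ∈ H := by
    have h3 : k = c.z⁻¹ * x := by rw [hx]; group
    rw [h3]
    exact H.mul_mem (H.inv_mem hzH) hxH
  have hwzH : w * c.z * w⁻¹ ∈ H := by
    have h3 : w * c.z * w⁻¹ = (w * x * w⁻¹) * (w * x * w⁻¹) * (w * x * w⁻¹) := by rw [← hx3]; group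
    rw [h3]
    exact H.mul_mem (H.mul_mem hwH hwH) hwH
  have hwwH : w * w ∈ H := by
    have h3 := hz w hw
    have h4 : w * w = w * c.z * w⁻¹ * c.z⁻¹ := by
      have h5 : c.z * w⁻¹ * c.z⁻¹ = w := by
        have := congrArg (fun t => t⁻¹) h3
        simp only [inv_inv, mul_inv_rev] at this
        rw [mul_assoc]
        exact this
      calc w * w = w * (c.z * w⁻¹ * c.z⁻¹) := by rw [h5]
        _ = _ := by group
    rw [h4]
    exact H.mul_mem hwzH (H.inv_mem hzH)
  have hPH : P ≤ H := by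
    have h3 : w ∈ H := by
      have h4 : w = (w * w) ^ 37 := by
        have h5 : w ^ 73 = 1 := by rw [← hw73]; exact pow_orderOf_eq_one w
        calc w = w ^ 73 * w := by rw [h5, one_mul]
          _ = (w * w) ^ 37 := by rw [← pow_succ, ← pow_two, ← pow_mul]
      rw [h4]
      exact H.pow_mem hwwH 37
    have h4 : zpowers w = P := by
      refine Subgroup.eq_of_le_of_card_ge (by rw [zpowers_le]; exact hw) ?_
      rw [Nat.card_zpowers, hw73, hP1]
    rw [← h4, zpowers_le]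
    exact h3
  exact not_solvable C.cardL hP1 hC1 C.not_comm hPH hkH hk3 hs

/-- **order six**, normalised -/
theorem six' {x : MulAut L} (hx : orderOf x = 6) (h3 : x ^ 3 = MulAut.conj c.z) (hP : PS 2 x)
    (hR : RN (x ^ 4)) : False := by
  have := C.finE
  have := C.finL
  have h2 := C.two
  have h12 : x ^ 6 = 1 := by rw [← hx]; exact pow_orderOf_eq_one x
  set y : MulAut L := x ^ 4 with hy
  have hyz : y c.z = c.z := by
    apply C.conj_inj
    have h4 : MulAut.conj (y c.z) = y * MulAut.conj c.z * y⁻¹ := by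
      ext l
      simp only [MulAut.mul_apply, MulAut.conj_apply, map_mul, map_inv, MulAut.apply_inv_self]
    rw [h4, ← h3, hy, ← pow_add, mul_inv_eq_iff_eq_mul, ← pow_add]
  have hK1 := C.map_K1 hyz
  have hN : NoS3 c.K1 := (H115.SN.noS3_sl2 E).congr (c.equivK1 h2)
  have hq : IsQuasisimple c.K1 := SignalizersComponents.PCompQuot.quasisimple_congr (c.equivK1 h2)
    (SignalizersComponents.SLQuasisimple.isQuasisimple_two (by rw [C.cardE]; norm_num))
  have htriv : ∀ v, y (c.pb v) = c.pb v := fun v => hR.eq_of_quasisimple hN hK1 hq (m := c.pb v) ⟨v, rfl⟩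
  obtain ⟨v, hv⟩ := C.inner_of_K1 htriv
  have hxe : x = MulAut.conj (c.z * c.p4 v) := by
    rw [map_mul, ← h3, ← hv, hy, ← pow_add]
    calc x = x ^ 6 * x := by rw [h12, one_mul]
      _ = x ^ 7 := by rw [← pow_succ]
  have ho : orderOf (c.p4 v) = 3 := by
    have h4 : orderOf y = 3 := by
      rw [hy, orderOf_pow, hx]
      norm_num
    rw [hv, orderOf_injective _ C.conj_inj] at h4
    exact h4
  rw [hxe] at hP
  exact C.false_of_zc ⟨v, rfl⟩ ho hP

/-- **order six** -/
theorem six {x : MulAut L} (hx : orderOf x = 6) (hP : PS 2 x) (hR : ∀ n : ℕ, (x ^ n) ^ 3 = 1 → RN (x ^ n)) :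
    False := by
  have := C.finE
  have := C.finL
  have h2 := C.two
  have h6 : x ^ 6 = 1 := by rw [← hx]; exact pow_orderOf_eq_one x
  have h12 : (x ^ 3) ^ 4 = 1 := by
    rw [← pow_mul]
    calc x ^ 12 = (x ^ 6) ^ 2 := by rw [← pow_mul]
      _ = 1 := by rw [h6, one_pow]
  obtain ⟨t, ht⟩ := C.inn (x ^ 3) h12
  have htt : t * t = 1 := by
    apply C.conj_inj
    rw [map_mul, ← ht, ← pow_add, map_one, h6]
  have ht1 : t ≠ 1 := by
    rintro rfl
    rw [map_one] at ht
    have h4 := orderOf_dvd_of_pow_eq_one ht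
    rw [hx] at h4
    norm_num at h4
  obtain ⟨g, hg⟩ := isConj_iff.1 (c.isConj_z h2 htt ht1)
  have htr : H459.Rad.tr (MulAut.conj g) (MulAut.conj t) = MulAut.conj (g * t * g⁻¹) := by
    ext l
    rw [tr_apply, MulAut.conj_apply, MulAut.conj_apply, MulAut.conj_apply, MulAut.conj_symm_apply]
    group
  refine C.six' (x := H459.Rad.tr (MulAut.conj g) x) (by rw [orderOf_tr, hx]) ?_ (hP.tr _) ?_
  · rw [tr_pow, ht, htr, hg]
  · rw [tr_pow]
    exact (hR 4 (by rw [← pow_mul]; exact (by rw [← h12, ← pow_mul]))).tr _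

end Ctx

end Cfsg.Agent.H397.SNX
end

-- part: H397/SNX/HexC
section
/-!
# Order nine (helper397, for S3831)

`Ctx.nine'` : an automorphism of order nine of `³D₄(3)` which normalises a long root group and has `PS 2`, `RN (x ^ 3)`
does not exist.
-/

set_option autoImplicit false
set_option linter.unusedSectionVars false

namespace Cfsg.Agent.H397.SNX

open Subgroup Cfsg Cfsg.Agent.SplitTwo Cfsg.Agent.TitsThree.RankTwoZ Cfsg.Agent.Lib.SL2Mat
open Cfsg.Agent.Cit.HexBase Cfsg.Agent.Cit.AutFacts Cfsg.Agent.Cit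
open Cfsg.Agent.H21.SN Cfsg.Agent.H459.Rad
open scoped commutatorElement

/-- the automorphism of a quotient by the radical of an invariant subgroup -/
theorem exists_bar {K : Type} [Group K] [Finite K] (x : MulAut K) (M : Subgroup K) (hM : ∀ m ∈ M, x m ∈ M) :
    ∃ y : MulAut (M ⧸ solvableRadical M), ∀ m : M,
      QuotientGroup.mk' (solvableRadical M) ⟨x m, hM m m.2⟩ = y (QuotientGroup.mk' (solvableRadical M) m) := by
  have h1 : M.map x.toMonoidHom = M :=
    Subgroup.eq_of_le_of_card_ge (by rintro _ ⟨a, ha, rfl⟩; exact hM a ha)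
      (le_of_eq (Subgroup.card_map_of_injective x.injective).symm)
  let e : M ≃* M := (x.subgroupMap M).trans (MulEquiv.subgroupCongr h1)
  have he : ∀ m : M, e m = ⟨x m, hM m m.2⟩ := fun m => rfl
  have hc : (solvableRadical M).Characteristic := (rad_spec M).1
  have h2 : (solvableRadical M).map e.toMonoidHom = solvableRadical M := characteristic_iff_map_eq.1 hc e
  refine ⟨QuotientGroup.congr (solvableRadical M) (solvableRadical M) e h2, fun m => ?_⟩
  rw [← he]
  rfl

/-- **automorphisms with `PS 2` whose cube is trivial modulo the radical** -/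
theorem trivial_of_cube (hC : Core3) {K : Type} [Group K] [Finite K] {x : MulAut K} (hP : PS 2 x) {M : Subgroup K}
    (hM : ∀ m ∈ M, x m ∈ M) (hN : NoS3 M) (h3 : ∀ m ∈ M, m⁻¹ * (x ^ 3) m ∈ radIn M) :
    ∀ m ∈ M, m⁻¹ * x m ∈ radIn M := by
  obtain ⟨y, hy⟩ := exists_bar x M hM
  have hf := QuotientGroup.mk'_surjective (solvableRadical M)
  have hPy : PS 2 y := PS.sec hP hM _ hf y hy
  have hrad := rad_quotient (G := M)
  have hZ : center (M ⧸ solvableRadical M) = ⊥ := by
    rw [eq_bot_iff, ← hrad]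
    refine (rad_spec _).2.2 _ inferInstance ?_
    exact Group.isSolvable_of_comm fun a b => Subtype.ext (mem_center_iff.1 b.2 a)
  have hy3 : y ^ 3 = 1 := by
    ext q
    obtain ⟨m, rfl⟩ := hf q
    rw [pow_succ, pow_two, MulAut.mul_apply, MulAut.mul_apply, ← hy, ← hy, ← hy, MulAut.one_apply, eq_comm]
    rw [QuotientGroup.mk'_apply, QuotientGroup.mk'_apply, QuotientGroup.eq]
    have h4 := h3 m m.2
    rw [pow_succ, pow_two, MulAut.mul_apply, MulAut.mul_apply] at h4
    exact mem_radIn_coe.1 h4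
  have hRN : RN y := rn_of_core hC hZ hy3 hPy
  have hNq : NoS3 (M ⧸ solvableRadical M) := hN.of_surjective _ hf
  have htriv : ∀ q, y q = q := by
    intro q
    exact hRN.map_eq (M := ⊤) (hNq.subgroup ⊤) (fun _ _ => mem_top _)
      (Subgroup.topEquiv : (⊤ : Subgroup (M ⧸ solvableRadical M)) ≃* (M ⧸ solvableRadical M)).toMonoidHom
      (MulEquiv.surjective _) hrad ⟨q, mem_top q⟩
  intro m hm
  have h4 := hy ⟨m, hm⟩
  rw [htriv, QuotientGroup.mk'_apply, QuotientGroup.mk'_apply, eq_comm, QuotientGroup.eq] at h4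
  exact mem_radIn_coe.2 h4

/-- automorphisms trivial modulo central elements -/
theorem fix_of_perfect {K : Type*} [Group K] {x : MulAut K} {M : Subgroup K} (hp : ⁅M, M⁆ = M)
    (h : ∀ m ∈ M, ∃ z : K, x m = m * z ∧ ∀ a : K, a ∈ M → z * a = a * z) (hzz : ∀ m ∈ M, m⁻¹ * x m ∈ M) :
    ∀ m ∈ M, x m = m := by
  have h1 : M ≤ (MonoidHom.eqLocus x.toMonoidHom (MonoidHom.id K)) := by
    rw [← hp, commutator_le]
    intro a ha b hb
    obtain ⟨u, hu, hcu⟩ := h a ha
    obtain ⟨v, hv, hcv⟩ := h b hb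
    have huM : u ∈ M := by
      have := hzz a ha
      rwa [hu, inv_mul_cancel_left] at this
    show x ⁅a, b⁆ = ⁅a, b⁆
    rw [map_commutatorElement, hu, hv, commutatorElement_def, commutatorElement_def]
    have hub : Commute u b := hcu b hb
    have hua : Commute u a := hcu a ha
    have hva : Commute v a := hcv a ha
    have hvb : Commute v b := hcv b hb
    have huv : Commute u v := (hcv u huM).symm
    have e1 : a * u * (b * v) = a * b * (u * v) := by
      rw [mul_assoc a u, ← mul_assoc u b v, hub.eq, mul_assoc b u v, ← mul_assoc]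
    have e2 : (a * u)⁻¹ * (b * v)⁻¹ = (u * v)⁻¹ * (a⁻¹ * b⁻¹) := by
      have h3 : Commute (u⁻¹) (a⁻¹) := (hua.inv_left).inv_right
      have h4 : Commute (v⁻¹) (a⁻¹) := (hva.inv_left).inv_right
      have h5 : Commute (v⁻¹) (u⁻¹) := (huv.symm.inv_left).inv_right
      rw [mul_inv_rev, mul_inv_rev, mul_inv_rev, h5.eq]
      calc u⁻¹ * a⁻¹ * (v⁻¹ * b⁻¹) = u⁻¹ * (a⁻¹ * v⁻¹) * b⁻¹ := by group
        _ = u⁻¹ * (v⁻¹ * a⁻¹) * b⁻¹ := by rw [h4.eq]
        _ = u⁻¹ * v⁻¹ * (a⁻¹ * b⁻¹) := by group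
    have hc : Commute (u * v) (a⁻¹ * b⁻¹) := by
      refine Commute.mul_left ?_ ?_
      · exact (hua.inv_right).mul_right hub.inv_right
      · exact (hva.inv_right).mul_right hvb.inv_right
    calc a * u * (b * v) * (a * u)⁻¹ * (b * v)⁻¹ = (a * u * (b * v)) * ((a * u)⁻¹ * (b * v)⁻¹) := by group
      _ = (a * b * (u * v)) * ((u * v)⁻¹ * (a⁻¹ * b⁻¹)) := by rw [e1, e2]
      _ = a * b * a⁻¹ * b⁻¹ := by group
  exact fun m hm => h1 hm

variable {E : Type} [Field E] {σ : E ≃+* E} {L : Type} [Group L]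

namespace Ctx

variable {c : HexGrp σ L} (C : Ctx c)

include C

/-! ### `Q4` has exponent three -/

theorem cube_X4 {t : L} (ht : t ∈ c.X 4) : t * t * t = 1 := by
  have := C.char
  obtain ⟨a, ha, rfl⟩ := (c.par.mem4 _).1 ht
  have h1 := HexGrp.pow_eq_one 3 c.par.rel.add4 ha
  rwa [pow_succ, pow_two] at h1

theorem kk_mem {a b : L} (ha : a ∈ c.Q4) (hb : b ∈ c.Q4) : kk a b ∈ c.X 4 := by
  obtain ⟨b2, b3, b5, b6, ha'⟩ := c.exists_NF ha
  obtain ⟨d2, d3, d5, d6, hb'⟩ := c.exists_NF hb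
  rw [ha'.form hb']
  refine c.mem4 ?_
  rw [map_sub, map_sub, map_add, map_mul, map_mul, trc_fix c.cube, trc_fix c.cube, ha'.1, ha'.2.1, hb'.1, hb'.2.1]

theorem comm_X4 {t q : L} (ht : t ∈ c.X 4) (hq : q ∈ c.Q4) : q * t = t * q := by
  obtain ⟨a, ha, rfl⟩ := (c.par.mem4 _).1 ht
  exact c.x4_comm hq ha

theorem cube_mul {a b : L} (ha : a ∈ c.Q4) (hb : b ∈ c.Q4) (ha3 : a * a * a = 1) (hb3 : b * b * b = 1) :
    (a * b) * (a * b) * (a * b) = 1 := by
  have ht := C.kk_mem hb ha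
  have e : b * a = a * b * kk b a := mul_eq_kk b a
  set t := kk b a with htd
  have h3 := C.cube_X4 ht
  have hta := C.comm_X4 ht ha
  have htb := C.comm_X4 ht hb
  calc a * b * (a * b) * (a * b) = a * (b * a) * (b * a) * b := by group
    _ = a * (a * b * t) * (a * b * t) * b := by rw [e]
    _ = a * a * (b * t) * a * (b * t) * b := by group
    _ = a * a * (t * b) * a * (t * b) * b := by rw [htb]
    _ = a * (a * t) * (b * a) * (t * b) * b := by group
    _ = a * (t * a) * (a * b * t) * (t * b) * b := by rw [hta, e]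
    _ = (a * t) * a * a * b * t * t * b * b := by group
    _ = t * a * a * a * b * t * t * b * b := by rw [hta]
    _ = t * (a * a * a) * (b * t) * t * b * b := by group
    _ = t * (t * b) * t * b * b := by rw [ha3, htb, mul_one]
    _ = t * t * (b * t) * b * b := by group
    _ = t * t * (t * b) * b * b := by rw [htb]
    _ = (t * t * t) * (b * b * b) := by group
    _ = 1 := by rw [h3, hb3, one_mul]

theorem cube_Q4 {q : L} (hq : q ∈ c.Q4) : q * q * q = 1 := by
  have := C.char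
  obtain ⟨a2, h2, a3, h3, a4, h4, a5, h5, a6, h6, rfl⟩ := c.exists_Q4 hq
  have m2 : a2 ∈ c.Q4 := X_le_Sg (by decide +kernel) h2
  have m3 : a3 ∈ c.Q4 := X_le_Sg (by decide +kernel) h3
  have m4 : a4 ∈ c.Q4 := X_le_Sg (by decide +kernel) h4
  have m5 : a5 ∈ c.Q4 := X_le_Sg (by decide +kernel) h5
  have m6 : a6 ∈ c.Q4 := X_le_Sg (by decide +kernel) h6
  have hr := c.par.rel
  have e2 : a2 * a2 * a2 = 1 := by
    obtain ⟨a, ha, rfl⟩ := (c.par.mem2 _).1 h2
    have h1 := HexGrp.pow_eq_one 3 hr.add2 ha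
    rwa [pow_succ, pow_two] at h1
  have e3 : a3 * a3 * a3 = 1 := by
    obtain ⟨a, rfl⟩ := (c.par.mem3 _).1 h3
    have h1 := HexGrp.pow_eq_one' 3 hr.add3 a
    rwa [pow_succ, pow_two] at h1
  have e4 := C.cube_X4 h4
  have e5 : a5 * a5 * a5 = 1 := by
    obtain ⟨a, rfl⟩ := (c.par.mem5 _).1 h5
    have h1 := HexGrp.pow_eq_one' 3 hr.add5 a
    rwa [pow_succ, pow_two] at h1
  have e6 : a6 * a6 * a6 = 1 := by
    obtain ⟨a, ha, rfl⟩ := (c.par.mem6 _).1 h6
    have h1 := HexGrp.pow_eq_one 3 hr.add6 ha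
    rwa [pow_succ, pow_two] at h1
  have k1 := mul_mem m2 m3
  have k2 := mul_mem k1 m4
  have k3 := mul_mem k2 m5
  exact C.cube_mul k3 m6 (C.cube_mul k2 m5 (C.cube_mul k1 m4 (C.cube_mul m2 m3 e2 e3) e4) e5) e6

/-! ### The centraliser of `X 4` -/

/-- the centraliser of `X 4` -/
def RR (c : HexGrp σ L) : Subgroup L := centralizer (c.X 4 : Set L)

omit C in
theorem mem_RR {g : L} : g ∈ RR c ↔ ∀ x ∈ c.X 4, g * x = x * g := by
  unfold RR
  rw [mem_centralizer_iff]
  exact ⟨fun h x hx => (h x hx).symm, fun h x hx => (h x hx).symm⟩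

theorem Q4_le : c.Q4 ≤ RR c := fun _ hq => mem_RR.2 fun _ hx => C.comm_X4 hx hq

omit C in
theorem K1_le : c.K1 ≤ RR c := by
  rintro _ ⟨y, rfl⟩
  exact mem_RR.2 fun x hx => c.pb_comm4 y hx

theorem RR_form {g : L} (hg : g ∈ RR c) : ∃ q ∈ c.Q4, ∃ k ∈ c.K1, g = q * k := by
  have := C.finE
  exact c.centralizer_X4 C.two (mem_RR.1 hg)

theorem RR_Q4 {g q : L} (hg : g ∈ RR c) (hq : q ∈ c.Q4) : g * q * g⁻¹ ∈ c.Q4 := by
  obtain ⟨p, hp, k, hk, rfl⟩ := C.RR_form hg
  have h1 : p * k * q * (p * k)⁻¹ = p * (k * q * k⁻¹) * p⁻¹ := by group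
  rw [h1]
  exact mul_mem (mul_mem hp (c.K1_Q4 hk hq)) (inv_mem hp)

theorem Q4_solvable : Group.IsSolvable ↥c.Q4 := by
  have := C.finL
  have := C.char
  have hf : Fact (Nat.Prime 3) := ⟨Nat.prime_three⟩
  have hQ : IsPGroup 3 ↥c.Q4 := c.isPGroup_Q4
  have h1 := hQ.isNilpotent
  infer_instance

theorem quasi_K1 : IsQuasisimple c.K1 :=
  SignalizersComponents.PCompQuot.quasisimple_congr (c.equivK1 C.two)
    (SignalizersComponents.SLQuasisimple.isQuasisimple_two (by rw [C.cardE]; norm_num))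

theorem noS3_K1 : NoS3 c.K1 := by
  have := C.finE
  exact (H115.SN.noS3_sl2 E).congr (c.equivK1 C.two)

theorem noS3_RR : NoS3 (RR c) := by
  have := C.finL
  have hn : (c.Q4.subgroupOf (RR c)).Normal := by
    refine ⟨fun n hn g => ?_⟩
    rw [mem_subgroupOf] at hn ⊢
    exact C.RR_Q4 g.2 hn
  let f := QuotientGroup.mk' (c.Q4.subgroupOf (RR c))
  have hker : Group.IsSolvable f.ker := by
    have h1 : f.ker = c.Q4.subgroupOf (RR c) := QuotientGroup.ker_mk' _
    rw [h1]
    have h2 := C.Q4_solvable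
    exact Group.isSolvable_of_isSolvable_injective (f := (subgroupOfEquivOfLe C.Q4_le).toMonoidHom)
      (MulEquiv.injective _)
  refine NoS3.of_ker f hker ?_
  refine C.noS3_K1.of_surjective (f.comp (Subgroup.inclusion K1_le)) ?_
  intro y
  obtain ⟨g, rfl⟩ := QuotientGroup.mk'_surjective _ y
  obtain ⟨q, hq, k, hk, e⟩ := C.RR_form g.2
  refine ⟨⟨k, hk⟩, ?_⟩
  change QuotientGroup.mk' _ (⟨k, K1_le hk⟩ : RR c) = QuotientGroup.mk' _ g
  rw [QuotientGroup.mk'_apply, QuotientGroup.mk'_apply, QuotientGroup.eq, mem_subgroupOf]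
  change k⁻¹ * (g : L) ∈ c.Q4
  rw [e, ← mul_assoc]
  have h1 := c.K1_Q4 (inv_mem hk) hq
  rwa [inv_inv] at h1

/-- the radical of the centraliser -/
theorem radIn_K1 {d : L} (hd : d ∈ radIn (RR c)) (hk : d ∈ c.K1) : d = 1 ∨ d = c.z := by
  have := C.finL
  have hn : ((radIn (RR c)).subgroupOf c.K1).Normal := by
    refine ⟨fun n hn g => ?_⟩
    rw [mem_subgroupOf] at hn ⊢
    exact radIn_conj_mem (K1_le g.2) hn
  rcases SignalizersComponents.Components.quasisimple_normal C.quasi_K1 _ hn with h | h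
  · exfalso
    refine SignalizersComponents.Components.quasisimple_not_isSolvable C.quasi_K1 ?_
    have h1 := radIn_solvable (RR c)
    have h2 : c.K1 ≤ radIn (RR c) := by
      intro k hk
      have : (⟨k, hk⟩ : c.K1) ∈ (radIn (RR c)).subgroupOf c.K1 := by rw [h]; exact mem_top _
      exact mem_subgroupOf.1 this
    exact Group.isSolvable_of_isSolvable_injective (f := Subgroup.inclusion h2) (Subgroup.inclusion_injective h2)
  · have h1 : (⟨d, hk⟩ : c.K1) ∈ center c.K1 := h (mem_subgroupOf.2 hd)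
    obtain ⟨x, rfl⟩ := hk
    have h2 : ∀ y, x * y = y * x := by
      intro y
      apply c.pb_inj C.two
      have h3 := mem_center_iff.1 h1 ⟨c.pb y, ⟨y, rfl⟩⟩
      have h4 := congrArg Subtype.val h3
      rw [map_mul, map_mul]
      exact h4.symm
    rcases central_cases h2 with rfl | rfl
    · left; exact map_one _
    · right; rfl

theorem radIn_cases {d : L} (hd : d ∈ radIn (RR c)) : d ∈ c.Q4 ∨ ∃ q ∈ c.Q4, d = q * c.z := by
  have := C.finL
  obtain ⟨q, hq, k, hk, rfl⟩ := C.RR_form (radIn_le _ hd)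
  have hQ : c.Q4 ≤ radIn (RR c) := le_radIn C.Q4_le (fun g hg n hn => C.RR_Q4 hg hn) C.Q4_solvable
  have h1 : k ∈ radIn (RR c) := by
    have := mul_mem (inv_mem (hQ hq)) hd
    rwa [inv_mul_cancel_left] at this
  rcases C.radIn_K1 h1 hk with rfl | rfl
  · left; rwa [mul_one]
  · right; exact ⟨q, hq, rfl⟩

/-- elements of `K4` normalising `X 4` -/
theorem K4_cases {y : SL2 ↥(fx σ)} (h : c.p4 y * c.p4 (up 1) * (c.p4 y)⁻¹ ∈ c.X 4) :
    ∃ m ∈ c.X 4, c.p4 y = m ∨ c.p4 y = c.z * m := by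
  have := C.finE
  rw [← map_mul, ← map_inv, ← map_mul] at h
  obtain ⟨t, ht⟩ := c.mem_X4.1 h
  have h1 := c.p4_inj ht
  have h2 : y * up 1 = up t * y := by rw [h1]; group
  have h10 : ent y 1 0 = 0 := by
    have h3 := congrArg (fun A => ent A 1 1) h2
    simp only [ent_mul, up_01, up_10, up_11] at h3
    have h4 : ent y 1 0 * 1 + ent y 1 1 * 1 = 0 * ent y 0 1 + 1 * ent y 1 1 := h3
    linear_combination h4
  have hdet := det_eq y
  rw [h10] at hdet
  rcases cases_three C.cardF (ent y 0 0) with h0 | h0 | h0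
  · exfalso
    rw [h0] at hdet
    simp at hdet
  · have h11 : ent y 1 1 = 1 := by
      rw [h0] at hdet
      linear_combination hdet
    refine ⟨c.p4 (up (ent y 0 1)), c.p4_up_mem _, Or.inl ?_⟩
    congr 1
    refine ext_ent ?_ ?_ ?_ ?_ <;> simp [h0, h10, h11]
  · have h11 : ent y 1 1 = -1 := by
      rw [h0] at hdet
      linear_combination -hdet
    refine ⟨c.p4 (up (-ent y 0 1)), c.p4_up_mem _, Or.inr ?_⟩
    rw [c.z_eq_p4, ← map_mul]
    congr 1
    refine ext_ent ?_ ?_ ?_ ?_ <;> simp [ent_mul, h0, h10, h11]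

/-- **order nine**, normalised -/
theorem nine' (hC : Core3) {x : MulAut L} (hx : orderOf x = 9) (h4 : ∀ m ∈ c.X 4, x m ∈ c.X 4) (hP : PS 2 x)
    (hR : RN (x ^ 3)) : False := by
  have := C.finE
  have := C.finL
  have h2 := C.two
  -- `x` normalises the centraliser of `X 4`
  have hxR : ∀ m ∈ RR c, x m ∈ RR c := by
    intro m hm
    rw [mem_RR] at hm ⊢
    intro t ht
    obtain ⟨s, hs, rfl⟩ := HexGrp.surj_of x h4 t ht
    rw [← map_mul, ← map_mul, hm s hs]
  have hxR3 : ∀ m ∈ RR c, (x ^ 3) m ∈ RR c := by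
    intro m hm
    rw [pow_succ, pow_two, MulAut.mul_apply, MulAut.mul_apply]
    exact hxR _ (hxR _ (hxR _ hm))
  have hD := trivial_of_cube hC hP hxR C.noS3_RR (hR _ hxR3 C.noS3_RR)
  have hzK : c.z ∈ c.K1 := c.z_mem_K1
  have hzR : c.z ∈ RR c := K1_le hzK
  have hzz := c.z_sq
  have hzi := c.z_inv
  -- the image of `z`
  obtain ⟨q, hq, hqz⟩ : ∃ q ∈ c.Q4, x c.z = q * c.z := by
    rcases C.radIn_cases (hD c.z hzR) with h | ⟨q, hq, h⟩
    · refine ⟨c.z * (c.z⁻¹ * x c.z) * c.z⁻¹, C.RR_Q4 hzR h, ?_⟩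
      group
    · exfalso
      have h5 : x c.z = c.z * q * c.z⁻¹ := by
        rw [hzi]
        calc x c.z = c.z * (c.z⁻¹ * x c.z) := by group
          _ = c.z * q * c.z := by rw [h, mul_assoc]
      have h6 : x c.z ∈ c.Q4 := by rw [h5]; exact C.RR_Q4 hzR hq
      have h7 := C.cube_Q4 h6
      rw [← map_mul, ← map_mul, hzz, one_mul] at h7
      have h8 : c.z = 1 := x.injective (by rw [h7, map_one])
      exact c.z_ne h2 h8
  have hq3 := C.cube_Q4 hq
  have hqi : c.z * q * c.z⁻¹ = q⁻¹ := by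
    have h5 : q * c.z * (q * c.z) = 1 := by rw [← hqz, ← map_mul, hzz, map_one]
    rw [hzi]
    have h6 : q * (c.z * q * c.z) = 1 := by rw [← h5]; group
    exact (inv_eq_of_mul_eq_one_right h6).symm
  -- normalisation
  set v : L := q⁻¹ with hv
  have hvQ : v ∈ c.Q4 := inv_mem hq
  have hvz : v * c.z * v⁻¹ = q * c.z := by
    have h5 : q⁻¹ * q⁻¹ = q := by
      rw [← mul_inv_rev, inv_eq_of_mul_eq_one_right]
      exact hq3
    calc q⁻¹ * c.z * q⁻¹⁻¹ = q⁻¹ * (c.z * q * c.z⁻¹) * c.z := by group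
      _ = (q⁻¹ * q⁻¹) * c.z := by rw [hqi]
      _ = q * c.z := by rw [h5]
  set x₁ : MulAut L := (MulAut.conj v)⁻¹ * x with hx₁
  have hx₁a : ∀ m, x₁ m = v⁻¹ * x m * v := by
    intro m
    rw [hx₁, MulAut.mul_apply]
    change (MulAut.conj v).symm (x m) = _
    rw [MulAut.conj_symm_apply]
  have hx₁z : x₁ c.z = c.z := by
    rw [hx₁a, hqz, ← hvz]
    group
  have hK1 := C.map_K1 hx₁z
  have hQD : c.Q4 ≤ radIn (RR c) := le_radIn C.Q4_le (fun g hg n hn => C.RR_Q4 hg hn) C.Q4_solvable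
  have hdif : ∀ k ∈ c.K1, k⁻¹ * x₁ k = 1 ∨ k⁻¹ * x₁ k = c.z := by
    intro k hk
    refine C.radIn_K1 ?_ (mul_mem (inv_mem hk) (hK1 k hk))
    have h5 : k⁻¹ * x₁ k = (k⁻¹ * v⁻¹ * k⁻¹⁻¹) * (k⁻¹ * x k) * v := by
      rw [hx₁a]; group
    rw [h5]
    exact mul_mem (mul_mem (radIn_conj_mem (inv_mem (K1_le hk)) (hQD (inv_mem hvQ))) (hD k (K1_le hk))) (hQD hvQ)
  have htriv : ∀ k ∈ c.K1, x₁ k = k := by
    refine fix_of_perfect ?_ ?_ fun k hk => mul_mem (inv_mem hk) (hK1 k hk)
    · have h5 : Group.IsPerfect c.K1 := SignalizersComponents.Components.quasisimple_isPerfect C.quasi_K1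
      exact Subgroup.isPerfect_iff.mp h5
    · intro k hk
      refine ⟨k⁻¹ * x₁ k, by group, fun a ha => ?_⟩
      obtain ⟨y, rfl⟩ := ha
      rcases hdif k hk with h | h
      · rw [h, one_mul, mul_one]
      · rw [h, c.z_pb]
  obtain ⟨y, hy⟩ := C.inner_of_K1 fun u => htriv _ ⟨u, rfl⟩
  -- `x` is inner
  have hxe : x = MulAut.conj (v * c.p4 y) := by
    rw [map_mul, ← hy, hx₁, mul_inv_cancel_left]
  have h5 : c.p4 y * c.p4 (up 1) * (c.p4 y)⁻¹ ∈ c.X 4 := by
    have h6 : x (c.p4 (up 1)) ∈ c.X 4 := h4 _ (c.p4_up_mem 1)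
    rw [hxe, MulAut.conj_apply] at h6
    have h7 := C.comm_X4 h6 hvQ
    have h8 : c.p4 y * c.p4 (up 1) * (c.p4 y)⁻¹ = v⁻¹ * (v * c.p4 y * c.p4 (up 1) * (v * c.p4 y)⁻¹) * v := by group
    rw [h8, mul_assoc, ← h7, inv_mul_cancel_left]
    exact h6
  obtain ⟨m, hm, hmy⟩ := C.K4_cases h5
  have hmQ : m ∈ c.Q4 := X_le_Sg (by decide +kernel) hm
  set w : L := v * c.p4 y with hw
  have hww : w * w ∈ c.Q4 := by
    rcases hmy with h | h
    · rw [hw, h]
      exact mul_mem (mul_mem hvQ hmQ) (mul_mem hvQ hmQ)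
    · have h6 : w * w = v * (c.z * (m * v) * c.z⁻¹) * m := by
        rw [hw, h]
        calc v * (c.z * m) * (v * (c.z * m)) = v * (c.z * (m * v) * c.z) * m := by group
          _ = v * (c.z * (m * v) * c.z⁻¹) * m := by rw [hzi]
      rw [h6]
      exact mul_mem (mul_mem hvQ (C.RR_Q4 hzR (mul_mem hmQ hvQ))) hmQ
  have h6 : x ^ 6 = 1 := by
    have h7 := C.cube_Q4 hww
    have h8 : w ^ 6 = 1 := by
      calc w ^ 6 = (w * w) * (w * w) * (w * w) := by
            rw [← pow_two w, ← pow_add, ← pow_add]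
        _ = 1 := h7
    rw [hxe, ← map_pow, h8, map_one]
  have h7 := orderOf_dvd_of_pow_eq_one h6
  rw [hx] at h7
  norm_num at h7

end Ctx

end Cfsg.Agent.H397.SNX
end

-- part: H397/SNX/HexD
section
/-!
# S3831: the row `³D₄(3)` (helper397, task 4898 of helper880)

`r69_twD4` : `R69 ³D₄(3)`.
-/

set_option autoImplicit false
set_option linter.unusedSectionVars false

namespace Cfsg.Agent.H397.SNX

open Subgroup Cfsg Cfsg.Lie Cfsg.Agent.SplitTwo Cfsg.Agent.TitsThree.RankTwoZ Cfsg.Agent.Lib.SL2Mat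
open Cfsg.Agent.Cit.HexBase Cfsg.Agent.Cit.AutFacts
open Cfsg.Agent.H21.SN Cfsg.Agent.H459.Rad Cfsg.Agent.H812.D4.Pts

section

variable {E : Type} [Field E] {σ : E ≃+* E} {L : Type} [Group L]

namespace Ctx

variable {c : HexGrp σ L} (C : Ctx c)

include C

/-- **order nine** -/
theorem nine (hC : Core3) {x : MulAut L} (hx : orderOf x = 9) (hP : PS 2 x)
    (hR : ∀ n : ℕ, (x ^ n) ^ 3 = 1 → RN (x ^ n)) : False := by
  have := C.finE
  have := C.finL
  have hf : Fact (Nat.Prime 3) := ⟨Nat.prime_three⟩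
  have hE : Nat.card E = Nat.card ↥(fx σ) ^ 3 := by rw [C.cardE, C.cardF]; norm_num
  have h9 : x ^ 9 = 1 := by rw [← hx]; exact pow_orderOf_eq_one x
  set S : Set (Subgroup L) := pts ⊤ (c.X 4) with hS
  have hcard : S.ncard = 26572 := by
    rw [hS, H812.D4.ncard_top hE, C.cardF]
    norm_num
  -- the images under automorphisms
  have hmap : ∀ τ : MulAut L, ∀ B ∈ S, B.map τ.toMonoidHom ∈ S := by
    rintro τ _ ⟨v, -, rfl⟩
    obtain ⟨g, hg⟩ := C.long τ
    refine ⟨τ v * g, mem_top _, ?_⟩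
    refine Subgroup.eq_of_le_of_card_ge ?_ ?_
    · rintro _ ⟨_, ⟨y, hy, rfl⟩, rfl⟩
      obtain ⟨u, hu, e⟩ := hg y hy
      refine ⟨u, hu, ?_⟩
      change τ v * g * u * (τ v * g)⁻¹ = τ (v * y * v⁻¹)
      change g * u * g⁻¹ = τ y at e
      rw [map_mul, map_mul, map_inv, ← e]
      group
    · rw [cj, cj, Subgroup.card_map_of_injective (MulAut.conj _).injective, Subgroup.card_map_of_injective τ.injective,
        Subgroup.card_map_of_injective (MulAut.conj _).injective]
  have hmm : ∀ (τ τ' : MulAut L) (B : Subgroup L), (B.map τ'.toMonoidHom).map τ.toMonoidHom =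
      B.map (τ * τ').toMonoidHom := fun τ τ' B => Subgroup.map_map _ _ _
  have hm1 : ∀ B : Subgroup L, B.map (1 : MulAut L).toMonoidHom = B := fun B => Subgroup.map_id B
  let π : Equiv.Perm S :=
    { toFun := fun B => ⟨(B : Subgroup L).map x.toMonoidHom, hmap x B B.2⟩
      invFun := fun B => ⟨(B : Subgroup L).map (x⁻¹).toMonoidHom, hmap x⁻¹ B B.2⟩
      left_inv := fun B => Subtype.ext (by
        change ((B : Subgroup L).map x.toMonoidHom).map (x⁻¹).toMonoidHom = B
        rw [hmm, inv_mul_cancel, hm1])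
      right_inv := fun B => Subtype.ext (by
        change ((B : Subgroup L).map (x⁻¹).toMonoidHom).map x.toMonoidHom = B
        rw [hmm, mul_inv_cancel, hm1]) }
  have hπn : ∀ (n : ℕ) (B : S), (((π ^ n) B : S) : Subgroup L) = (B : Subgroup L).map (x ^ n).toMonoidHom := by
    intro n
    induction n with
    | zero => intro B; rw [pow_zero, pow_zero, hm1]; rfl
    | succ n ih =>
      intro B
      rw [pow_succ', Equiv.Perm.mul_apply]
      change (((π ^ n) B : S) : Subgroup L).map x.toMonoidHom = _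
      rw [ih, hmm, pow_succ']
  have hπ : π ^ 3 ^ 2 = 1 := by
    ext1 B
    apply Subtype.ext
    rw [hπn]
    change (B : Subgroup L).map (x ^ 9).toMonoidHom = B
    rw [h9, hm1]
  have hfin : Finite S := Set.toFinite _
  have := Fintype.ofFinite S
  have hnd : ¬ 3 ∣ Fintype.card S := by
    rw [← Nat.card_eq_fintype_card]
    change ¬ 3 ∣ S.ncard
    rw [hcard]
    norm_num
  obtain ⟨⟨B, hB⟩, hBx⟩ := Equiv.Perm.exists_fixed_point_of_prime hnd hπ
  have hBx1 : B.map x.toMonoidHom = B := congrArg Subtype.val hBx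
  obtain ⟨g, -, rfl⟩ := hB
  have hBx' : (cj g (c.X 4)).map x.toMonoidHom = cj g (c.X 4) := hBx1
  -- conjugation
  refine C.nine' hC (x := H459.Rad.tr (MulAut.conj g⁻¹) x) (by rw [orderOf_tr, hx]) ?_ (hP.tr _) ?_
  · intro m hm
    rw [tr_apply, MulAut.conj_symm_apply, MulAut.conj_apply, inv_inv]
    have h1 : x (g * m * g⁻¹) ∈ cj g (c.X 4) := by
      rw [← hBx']
      exact ⟨_, ⟨m, hm, rfl⟩, rfl⟩
    rw [mem_cj] at h1
    exact h1
  · rw [tr_pow]
    refine (hR 3 ?_).tr _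
    rw [← pow_mul]
    exact h9

end Ctx

end

section inst

open Cfsg.Agent.H135.TD Cfsg.Agent.H135.TD.AutOne Cfsg.Agent.H69.OutTwD4 Cfsg.Agent.Cit.HexD4
open Cfsg.Agent.ChevalleyStructure

variable {E : Type} [Field E] [Fintype E] (hE : Fintype.card E = 27)

include hE

/-- powers of automorphisms -/
theorem pow_form (θ : E ≃+* E) (g : ↥(twistedD4 E 3)) (n : ℕ) :
    ∃ g' : ↥(twistedD4 E 3), (MulAut.conj g * st 3 θ) ^ n = MulAut.conj g' * st 3 (θ ^ n) := by
  induction n with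
  | zero => exact ⟨1, by rw [pow_zero, pow_zero, st_one, map_one, one_mul]⟩
  | succ n ih =>
    obtain ⟨g', hg'⟩ := ih
    refine ⟨g' * st 3 (θ ^ n) g, ?_⟩
    have h1 : st 3 (θ ^ n) * MulAut.conj g = MulAut.conj (st 3 (θ ^ n) g) * st 3 (θ ^ n) := by
      ext1 l
      simp only [MulAut.mul_apply, MulAut.conj_apply, map_mul, map_inv]
    rw [pow_succ, hg', pow_succ θ, st_mul, map_mul]
    calc MulAut.conj g' * st 3 (θ ^ n) * (MulAut.conj g * st 3 θ)
        = MulAut.conj g' * (st 3 (θ ^ n) * MulAut.conj g) * st 3 θ := by group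
      _ = _ := by rw [h1]; group

/-- **`³D₄(3)`** -/
theorem ctx {σ : E ≃+* E} (hσ : ∀ x, σ x = x ^ 3) (hK : Fintype.card E = 3 ^ 3) (hq : IsPrimePow 3) :
    Ctx (d4 hq hK hσ) := by
  have hf3 : Fact (Nat.Prime 3) := ⟨Nat.prime_three⟩
  have hch : CharP E 3 := by
    obtain ⟨p, hp⟩ := CharP.exists E
    have hpp : p.Prime := (CharP.char_is_prime_or_zero E p).resolve_right (CharP.char_ne_zero_of_finite E p)
    have h1 : p ∣ Fintype.card E := by
      have := Fact.mk hpp
      exact (CharP.cast_eq_zero_iff E p _).1 (FiniteField.cast_card_eq_zero E)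
    rw [hK] at h1
    have h2 := (Nat.prime_dvd_prime_iff_eq hpp Nat.prime_three).1 (hpp.dvd_of_dvd_pow h1)
    rwa [h2] at hp
  have h2 : (2 : E) ≠ 0 := by
    intro h
    have h1 : ((2 : ℕ) : E) = 0 := by exact_mod_cast h
    rw [CharP.cast_eq_zero_iff E 3] at h1
    norm_num at h1
  have hF : Nat.card ↥(fx σ) = 3 := H311.card_fx hK hσ
  refine ⟨inferInstance, inferInstance, h2, hch, ?_, hF, ?_, ?_, ?_, ?_⟩
  · rw [Nat.card_eq_fintype_card, hE]
  · rw [Cfsg.Agent.S1067.result hq hK]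
    norm_num
  · -- automorphisms of order dividing four
    intro τ hτ
    obtain ⟨g, θ, rfl⟩ := exists_st hq hK 3 τ
    obtain ⟨g', hg'⟩ := pow_form hE θ g 4
    rw [hτ] at hg'
    have h3 : st 3 (θ ^ 4) = MulAut.conj g'⁻¹ := by
      rw [map_inv, eq_inv_iff_mul_eq_one, ← mul_eq_one_comm]
      exact hg'.symm
    have h4 : θ ^ 4 = 1 := eq_one_of_inner hq hK 3 h3
    have h5 : θ = 1 := by
      have h6 : orderOf θ ∣ 4 := orderOf_dvd_of_pow_eq_one h4
      have h7 := H967.CopMat.card_Fx θ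
      rw [Nat.card_eq_fintype_card, hE] at h7
      have h8 : orderOf θ = 1 ∨ orderOf θ = 2 ∨ orderOf θ = 4 := by
        have h9 : orderOf θ ≤ 4 := Nat.le_of_dvd (by norm_num) h6
        interval_cases orderOf θ <;> simp_all only [_root_.Nat.reducePow, _root_.pow_zero, _root_.OfNat.ofNat_ne_one, _root_.pow_one, _root_.ne_eq, _root_.map_inv, _root_.isUnit_iff_eq_one, _root_.IsUnit.dvd, _root_.Nat.one_le_ofNat, _root_.OfNat.one_ne_ofNat, _root_.or_self, _root_.or_false, _root_.Nat.reduceDvd, _root_.Nat.reduceLeDiff, _root_.Nat.reduceEqDiff, _root_.or_true, _root_.dvd_refl, _root_.Std.le_refl]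
      rcases h8 with h8 | h8 | h8
      · exact orderOf_eq_one_iff.1 h8
      · exfalso
        rw [h8] at h7
        generalize Nat.card ↥(H967.CopMat.Fx θ) = n at h7
        have : n ≤ 5 := by nlinarith only [h7]
        interval_cases n <;> omega
      · exfalso
        rw [h8] at h7
        generalize Nat.card ↥(H967.CopMat.Fx θ) = n at h7
        have : n ≤ 2 := by
          by_contra hn
          have : 3 ^ 4 ≤ n ^ 4 := Nat.pow_le_pow_left (by omega) 4
          omega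
        interval_cases n <;> omega
    refine ⟨g, ?_⟩
    rw [h5, st_one, mul_one]
  · -- long root groups
    intro τ
    obtain ⟨g, θ, rfl⟩ := exists_st hq hK 3 τ
    set c := d4 hq hK hσ with hc
    set a := c.n6 * c.n1 with ha
    refine ⟨g * (st 3 θ a * a⁻¹), fun x hx => ?_⟩
    obtain ⟨t, rfl⟩ := c.mem_X4.1 hx
    refine ⟨c.p4 (up t), c.p4_up_mem t, ?_⟩
    change g * (st 3 θ a * a⁻¹) * c.p4 (up t) * (g * (st 3 θ a * a⁻¹))⁻¹ = g * st 3 θ (c.p4 (up t)) * g⁻¹
    have h3 : st 3 θ (c.p4 (up t)) = st 3 θ a * c.pa (up t) * (st 3 θ a)⁻¹ := by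
      rw [c.p4_apply, map_mul, map_mul, map_inv]
      congr 2
      rw [c.pa_up, st_x6 hq hK hσ θ t.2]
      congr 1
      rcases cases_three hF t with rfl | rfl | rfl
      · exact map_zero θ
      · exact map_one θ
      · push_cast
        rw [map_neg, map_one]
    rw [h3, c.p4_apply, ← ha]
    group
  · obtain ⟨P, -, hP, hP'⟩ := H129.TwD4Cyc.coxeter_torus (K := E) hq hK
    exact ⟨P, by rw [hP]; norm_num, hP'⟩

/-- **The row `³D₄(3)` of S3831.** -/
theorem r69_twD4 (hC : Core3) : R69 ↥(twistedD4 E 3) := by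
  have hK : Fintype.card E = 3 ^ 3 := by rw [hE]; norm_num
  have hq : IsPrimePow 3 := Nat.prime_three.isPrimePow
  obtain ⟨φ, hφ⟩ := D4Fixed.exists_frob hq hK
  have hb : Function.Bijective φ := by
    rw [Fintype.bijective_iff_injective_and_card]
    exact ⟨RingHom.injective (φ : E →+* E), rfl⟩
  obtain ⟨σ, hσ⟩ : ∃ σ : E ≃+* E, ∀ x, σ x = x ^ 3 := ⟨RingEquiv.ofBijective φ hb, hφ⟩
  have C := ctx hE hσ hK hq
  rintro x (hx | hx) hP hR -
  · exact C.six hx hP hR
  · exact C.nine hC hx hP hR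

end inst

end Cfsg.Agent.H397.SNX
end

private theorem dce_bcacb45f314f : _root_.True := by
  try have : _root_.True := by simp only [_root_.Cfsg.Agent.H812.D4.Pts.cj.eq_1]
  exact _root_.True.intro
end
end
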